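import Cfsg.Agent.Known.MinIndexO.Main
import Cfsg.Agent.Classical.Orth.Simple
import Cfsg.Agent.Classical.Orth.Orders

/-!
The least index of a proper subgroup of `PΩ` is the number of singular points, for `q ≥ 4`.
-/

set_option autoImplicit false
set_option linter.unusedSectionVars false
set_option linter.style.haveILetI false

open Matrix Submodule

namespace Cfsg.Lib.Known.MinIndexO

open Cfsg.Lib.Classical Cfsg.Lib.Classical.Refl

universe u

section General

variable {F : Type u} [Field F] [Fintype F] {ι : Type} [Fintype ι] [DecidableEq ι] {Q : QuadraticForm F (ι → F)}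

set_option synthInstance.maxHeartbeats 400000

/-- Nonzero singular vectors are scalars times singular points. -/
theorem card_Sing_points : Nat.card (Sing Q) = (Fintype.card F - 1) * Nat.card (SPoint Q) := by
  classical
  have := Fintype.ofFinite (ι → F)
  let φ : Fˣ × SPoint Q → Sing Q := fun z => ⟨(z.1 : F) • rep Q z.2,
    smul_ne_zero z.1.ne_zero (rep_ne Q z.2), by rw [QuadraticMap.map_smul, rep_sing, smul_zero]⟩
  have hφ : Function.Bijective φ := by
    constructor
    · rintro ⟨c, L⟩ ⟨c', L'⟩ e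
      have e' : (c : F) • rep Q L = (c' : F) • rep Q L' := congrArg Subtype.val e
      have hl : L = L' := by
        refine Subtype.ext ?_
        rw [rep_span Q L, rep_span Q L', ← Submodule.span_singleton_smul_eq c.isUnit (rep Q L), e',
          Submodule.span_singleton_smul_eq c'.isUnit (rep Q L')]
      subst hl
      exact Prod.ext (Units.ext (smul_left_injective F (rep_ne Q L) e')) rfl
    · rintro ⟨v, h0, hv⟩
      obtain ⟨c, hc, e⟩ := exists_rep_smul Q h0 hv
      refine ⟨((Units.mk0 c hc)⁻¹, mkPt Q v h0 hv), Subtype.ext ?_⟩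
      show ((Units.mk0 c hc)⁻¹ : Fˣ).val • rep Q _ = v
      rw [e, Units.val_inv_eq_inv_val, Units.val_mk0, inv_smul_smul₀ hc]
  rw [← Nat.card_congr (Equiv.ofBijective φ hφ), Nat.card_prod, Nat.card_units, Nat.card_eq_fintype_card (α := F)]

theorem nval_top (f : (ι → F) → F) (hf : f = ⇑Q) : nval Q ⊤ 0 = Nat.card {v : ι → F // f v = 0} := by
  subst hf
  exact Nat.card_congr ((Equiv.subtypeUnivEquiv fun _ => Submodule.mem_top).subtypeEquiv fun x => Iff.rfl)

/-- The least index of a proper subgroup of `PΩ`. -/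
theorem min_index (S : Setting Q) (hq : 4 ≤ Fintype.card F) (f : (ι → F) → F) (hf : f = ⇑Q) (N : ℕ)
    (hN : N * (Fintype.card F - 1) + 1 = Nat.card {v : ι → F // f v = 0}) :
    (∀ H : Subgroup (Cfsg.POmega F f), H ≠ ⊤ → N ≤ H.index) ∧ ∃ H : Subgroup (Cfsg.POmega F f), H.index = N := by
  subst hf
  rw [← nval_top _ rfl] at hN
  constructor
  · intro H hH
    have hs : Function.Surjective (QuotientGroup.mk' (Subgroup.center (Cfsg.Omega F (⇑Q)))) :=
      QuotientGroup.mk'_surjective _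
    have h := index_ge S hq (H := H.comap (QuotientGroup.mk' (Subgroup.center (Cfsg.Omega F (⇑Q))))) fun e => hH (by
      rw [← Subgroup.map_comap_eq_self_of_surjective hs H, e, Subgroup.map_top_of_surjective _ hs])
    rw [Subgroup.index_comap_of_surjective _ hs, ← hN] at h
    exact Nat.le_of_mul_le_mul_right (Nat.le_of_add_le_add_right h) (by omega)
  · haveI := pretransitive Q S.hQ S.hn
    obtain ⟨w, r, P, -, -⟩ := exists_pair_orth S (W := ⊥) (R := ⊥) inf_le_left
      (by rw [finrank_bot]; have := S.hn; omega)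
    set K := MulAction.stabilizer (Cfsg.Omega F (⇑Q)) (mkPt Q w P.ne P.ha)
    refine ⟨K.map (QuotientGroup.mk' (Subgroup.center (Cfsg.Omega F (⇑Q)))), ?_⟩
    rw [Subgroup.index_map_eq _ (QuotientGroup.mk'_surjective _) (by
      rw [QuotientGroup.ker_mk']
      exact fun z hz => fixes_of_mem_center Q S.hQ S.hn hz _),
      MulAction.index_stabilizer_of_transitive]
    have h2 := card_Sing (Q := Q)
    rw [card_Sing_points, ← hN] at h2
    exact Nat.eq_of_mul_eq_mul_right (show 0 < Fintype.card F - 1 by omega) (by rw [mul_comm]; omega)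

end General

variable {F : Type u} [Field F] [Fintype F]

theorem odd_min {q : ℕ} (hF : Fintype.card F = q) (hodd : Odd q) (h5 : 5 ≤ q) (m : ℕ) (hm : 3 ≤ m) :
    (∀ H : Subgroup (Cfsg.POmega F (Cfsg.quadFormOdd m F)), H ≠ ⊤ → (q ^ (2 * m) - 1) / (q - 1) ≤ H.index) ∧
      ∃ H : Subgroup (Cfsg.POmega F (Cfsg.quadFormOdd m F)), H.index = (q ^ (2 * m) - 1) / (q - 1) := by
  have h2 := two_ne_zero_of_odd (F := F) (hF ▸ hodd)
  refine min_index (Q := oddForm m F) ⟨oddForm_nondegenerate h2 m, by simp; omega⟩ (by omega) _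
    (oddForm_coe m).symm _ ?_
  rw [OrthCard.count_odd h2, Nat.card_eq_fintype_card, hF,
    Nat.div_mul_cancel (Nat.sub_one_dvd_pow_sub_one q (2 * m)), Nat.sub_add_cancel (Nat.one_le_pow _ _ (by omega))]

theorem plus_min {q : ℕ} (hF : Fintype.card F = q) (hq : 4 ≤ q) (m : ℕ) (hm : 4 ≤ m) :
    (∀ H : Subgroup (Cfsg.POmega F (Cfsg.quadFormPlus m F)), H ≠ ⊤ →
      (q ^ m - 1) * (q ^ (m - 1) + 1) / (q - 1) ≤ H.index) ∧
      ∃ H : Subgroup (Cfsg.POmega F (Cfsg.quadFormPlus m F)),
        H.index = (q ^ m - 1) * (q ^ (m - 1) + 1) / (q - 1) := by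
  refine min_index (Q := HypQuad.plusForm m F) ⟨HypQuad.plusForm_nondegenerate m, by simp; omega⟩ (by omega) _
    (funext fun v => (HypQuad.plusForm_apply m v).symm) _ ?_
  rw [hF, OrthCard.count_plus m (by omega), Nat.card_eq_fintype_card, hF,
    Nat.div_mul_cancel (dvd_mul_of_dvd_left (Nat.sub_one_dvd_pow_sub_one q m) _)]
  obtain ⟨x, hx⟩ : ∃ x, q ^ m = x + 1 := ⟨_, (Nat.sub_add_cancel (Nat.one_le_pow _ _ (by omega))).symm⟩
  have hp : q ^ (2 * m - 1) = q ^ m * q ^ (m - 1) := by rw [← pow_add]; congr 1; omega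
  rw [hp, hx, Nat.add_sub_cancel, add_one_mul x, mul_add, mul_one]
  omega

theorem minus_min {q : ℕ} (hF : Fintype.card F = q) (hq : 4 ≤ q) (m : ℕ) (hm : 4 ≤ m) (a b : F)
    (hab : ∀ z₁ z₂ : F, z₁ ^ 2 + a * z₁ * z₂ + b * z₂ ^ 2 = 0 → z₁ = 0 ∧ z₂ = 0) :
    (∀ H : Subgroup (Cfsg.POmega F (Cfsg.quadFormMinus (m - 1) F a b)), H ≠ ⊤ →
      (q ^ m + 1) * (q ^ (m - 1) - 1) / (q - 1) ≤ H.index) ∧
      ∃ H : Subgroup (Cfsg.POmega F (Cfsg.quadFormMinus (m - 1) F a b)),
        H.index = (q ^ m + 1) * (q ^ (m - 1) - 1) / (q - 1) := by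
  refine min_index (Q := minusForm (m - 1) F a b) ⟨minusForm_nondegenerate' _ hab, by simp; omega⟩ (by omega) _
    (minusForm_coe _ a b).symm _ ?_
  rw [hF, OrthCard.count_minus m (by omega) hab, Nat.card_eq_fintype_card, hF,
    Nat.div_mul_cancel (dvd_mul_of_dvd_right (Nat.sub_one_dvd_pow_sub_one q (m - 1)) _)]
  obtain ⟨x, hx⟩ : ∃ x, q ^ (m - 1) = x + 1 := ⟨_, (Nat.sub_add_cancel (Nat.one_le_pow _ _ (by omega))).symm⟩
  have hp : q ^ (2 * m - 1) = q ^ m * q ^ (m - 1) := by rw [← pow_add]; congr 1; omega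
  have hle : q ^ m ≤ q ^ m * q ^ (m - 1) := Nat.le_mul_of_pos_right _ (pow_pos (by omega) _)
  rw [hx] at hle
  rw [hp, hx, Nat.add_sub_cancel, add_one_mul, mul_add, mul_one]
  rw [mul_add, mul_one] at hle
  omega

end Cfsg.Lib.Known.MinIndexO
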