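import Cfsg.Agent.Known.MinIndexO.SmallBase
import Cfsg.Agent.Known.MinIndexO.Statements

/-!
Stabilisers of points in `PΩ` and lifting of index bounds to `Ω`.
-/

set_option autoImplicit false
set_option linter.unusedSectionVars false
set_option linter.style.haveILetI false

open Matrix Submodule

namespace Cfsg.Lib.Known.MinIndexO

open Cfsg.Lib.Classical Cfsg.Lib.Classical.Refl

universe u

variable {F : Type u} [Field F] [Fintype F] {ι : Type} [Fintype ι] [DecidableEq ι] {Q : QuadraticForm F (ι → F)}

set_option synthInstance.maxHeartbeats 400000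

/-- An index bound for `Ω` passes to `PΩ`. -/
theorem lift_bound (N : ℕ) (h : ∀ H : Subgroup (GG Q), H ≠ ⊤ → N ≤ H.index) (f : (ι → F) → F) (hf : f = ⇑Q)
    (H : Subgroup (Cfsg.POmega F f)) (hH : H ≠ ⊤) : N ≤ H.index := by
  subst hf
  have hs : Function.Surjective (QuotientGroup.mk' (Subgroup.center (Cfsg.Omega F (⇑Q)))) :=
    QuotientGroup.mk'_surjective _
  have := h (H.comap (QuotientGroup.mk' (Subgroup.center (Cfsg.Omega F (⇑Q))))) fun e => hH (by
    rw [← Subgroup.map_comap_eq_self_of_surjective hs H, e, Subgroup.map_top_of_surjective _ hs])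
  rwa [Subgroup.index_comap_of_surjective _ hs] at this

/-- The stabiliser of a singular point of `PΩ`. -/
theorem point_index (S : Setting Q) (f : (ι → F) → F) (hf : f = ⇑Q) (N : ℕ)
    (hN : N * (Fintype.card F - 1) + 1 = Nat.card {v : ι → F // f v = 0}) :
    ∃ H : Subgroup (Cfsg.POmega F f), H.index = N := by
  subst hf
  rw [← nval_top _ rfl] at hN
  haveI := pretransitive Q S.hQ S.hn
  obtain ⟨w, r, P, -, -⟩ := exists_pair_orth S (W := ⊥) (R := ⊥) inf_le_left
    (by rw [finrank_bot]; have := S.hn; omega)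
  set K := MulAction.stabilizer (Cfsg.Omega F (⇑Q)) (mkPt Q w P.ne P.ha)
  refine ⟨K.map (QuotientGroup.mk' (Subgroup.center (Cfsg.Omega F (⇑Q)))), ?_⟩
  rw [Subgroup.index_map_eq _ (QuotientGroup.mk'_surjective _) (by
    rw [QuotientGroup.ker_mk']
    exact fun z hz => fixes_of_mem_center Q S.hQ S.hn hz _),
    MulAction.index_stabilizer_of_transitive]
  have h2 := card_Sing (Q := Q)
  rw [card_Sing_points, ← hN] at h2
  have := Fintype.one_lt_card (α := F)
  exact Nat.eq_of_mul_eq_mul_right (show 0 < Fintype.card F - 1 by omega) (by rw [mul_comm]; omega)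

/-- The nonsingular points of a value. -/
def NPoint (Q : QuadraticForm F (ι → F)) (r : F) : Type u :=
  {L : Submodule F (ι → F) // ∃ v, Q v = r ∧ L = span F {v}}

noncomputable instance (r : F) : MulAction (GG Q) (NPoint Q r) where
  smul g L := ⟨L.1.map (mat Q g.1).mulVecLin, by
    obtain ⟨v, hv, e⟩ := L.2
    exact ⟨ac Q g v, by rw [ac_val, hv], by rw [e, Submodule.map_span, Set.image_singleton]; rfl⟩⟩
  one_smul L := Subtype.ext (by
    obtain ⟨v, -, e⟩ := L.2
    show L.1.map _ = _
    rw [e, Submodule.map_span, Set.image_singleton]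
    exact congrArg (fun x => span F {x}) (ac_one Q v))
  mul_smul g h L := Subtype.ext (by
    obtain ⟨v, -, e⟩ := L.2
    show L.1.map _ = (L.1.map _).map _
    rw [e, Submodule.map_span, Submodule.map_span, Submodule.map_span, Set.image_singleton, Set.image_singleton,
      Set.image_singleton]
    exact congrArg (fun x => span F {x}) (ac_mul Q g h v))

/-- The stabiliser of a nonsingular point of `PΩ`, over two or three elements. -/
theorem npoint_index (S : Setting Q) (hq : Fintype.card F ≤ 3) (f : (ι → F) → F) (hf : f = ⇑Q) (r : F) (hr : r ≠ 0)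
    (N : ℕ) (hN : N * (Fintype.card F - 1) = Nat.card {v : ι → F // f v = r}) :
    ∃ H : Subgroup (Cfsg.POmega F f), H.index = N := by
  classical
  subst hf
  have hsq : ∀ c : F, c ≠ 0 → c * c = 1 := fun c hc => by
    have h := FiniteField.pow_card_sub_one_eq_one c hc
    have h2 := Fintype.one_lt_card (α := F)
    rcases (show Fintype.card F - 1 = 1 ∨ Fintype.card F - 1 = 2 by omega) with e | e <;> rw [e] at h
    · rw [pow_one] at h; rw [h, one_mul]
    · rwa [pow_two] at h
  have hne : ∀ {v : ι → F}, Q v = r → v ≠ 0 := fun hv e => hr (by rw [← hv, e, QuadraticMap.map_zero])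
  haveI : MulAction.IsPretransitive (GG Q) (NPoint Q r) := ⟨by
    rintro ⟨L, v, hv, rfl⟩ ⟨L', v', hv', rfl⟩
    obtain ⟨E, hE, -, hm⟩ := WittQuad.exists_move_fix Q S.hQ ⊥ (a := v) (b := v')
      (by simpa using hne hv) (by simpa using hne hv') (by rw [hv, hv']) (fun w hw => by
        rw [(Submodule.mem_bot F).1 hw, QuadraticMap.polar_zero_left, QuadraticMap.polar_zero_left])
    have hs := finrank_range_le ![v]
    obtain ⟨g, hg⟩ := iso_agree S (W := span F (Set.range ![v])) (exists_pair_orth S inf_le_left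
      (by have := S.hn; omega)) E hE
    refine ⟨g, Subtype.ext ?_⟩
    show (span F {v}).map _ = span F {v'}
    rw [Submodule.map_span, Set.image_singleton]
    exact congrArg (fun x => span F {x}) ((hg v (subset_span ⟨0, rfl⟩)).trans hm)⟩
  have := Fintype.ofFinite (ι → F)
  obtain ⟨v0, hv0⟩ : ∃ v, Q v = r := by
    obtain ⟨e, e', P, -, -⟩ := exists_pair_orth S (W := ⊥) (R := ⊥) inf_le_left
      (by rw [finrank_bot]; have := S.hn; omega)
    exact ⟨e + r • e', P.value r⟩
  set L0 : NPoint Q r := ⟨span F {v0}, v0, hv0, rfl⟩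
  set K := MulAction.stabilizer (GG Q) L0
  refine ⟨K.map (QuotientGroup.mk' (Subgroup.center (Cfsg.Omega F (⇑Q)))), ?_⟩
  rw [Subgroup.index_map_eq _ (QuotientGroup.mk'_surjective _) (by
    rw [QuotientGroup.ker_mk']
    intro z hz
    refine Subtype.ext ?_
    show (span F {v0}).map _ = span F {v0}
    rw [Submodule.map_span, Set.image_singleton]
    show span F {mat Q z.1 *ᵥ v0} = _
    rcases (mem_center_iff_sign Q S.hQ S.hn).1 hz with e | e <;> rw [e]
    · rw [Matrix.one_mulVec]
    · rw [Matrix.neg_mulVec, Matrix.one_mulVec, ← Set.neg_singleton, Submodule.span_neg]),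
    MulAction.index_stabilizer_of_transitive]
  let φ : Fˣ × NPoint Q r → {v : ι → F // Q v = r} := fun z => ⟨(z.1 : F) • z.2.2.choose, by
    rw [QuadraticMap.map_smul, z.2.2.choose_spec.1, hsq _ z.1.ne_zero, one_smul]⟩
  have hφ : Function.Bijective φ := by
    constructor
    · rintro ⟨c, L⟩ ⟨c', L'⟩ e
      have e' : (c : F) • L.2.choose = (c' : F) • L'.2.choose := congrArg Subtype.val e
      have hl : L = L' := by
        refine Subtype.ext ?_
        rw [L.2.choose_spec.2, L'.2.choose_spec.2, ← Submodule.span_singleton_smul_eq c.isUnit L.2.choose, e',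
          Submodule.span_singleton_smul_eq c'.isUnit L'.2.choose]
      subst hl
      exact Prod.ext (Units.ext (smul_left_injective F (hne L.2.choose_spec.1) e')) rfl
    · rintro ⟨v, hv⟩
      set L : NPoint Q r := ⟨span F {v}, v, hv, rfl⟩
      obtain ⟨c, hc⟩ := mem_span_singleton.1
        (show v ∈ span F {L.2.choose} by rw [← L.2.choose_spec.2]; exact mem_span_singleton_self v)
      have hc0 : c ≠ 0 := fun h => hne hv (by rw [← hc, h, zero_smul])
      exact ⟨(Units.mk0 c hc0, L), Subtype.ext hc⟩
  have h := Nat.card_congr (Equiv.ofBijective φ hφ)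
  rw [Nat.card_prod, Nat.card_units, Nat.card_eq_fintype_card (α := F), ← hN] at h
  have := Fintype.one_lt_card (α := F)
  exact Nat.eq_of_mul_eq_mul_right (show 0 < Fintype.card F - 1 by omega) (by rw [← h, mul_comm])

end Cfsg.Lib.Known.MinIndexO
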