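import Cfsg.Agent.Known.MinIndexO.Torus

/-!
Zero counts through totally singular subspaces, and fixed points of tori on the coset space.
-/

set_option autoImplicit false
set_option linter.unusedSectionVars false
set_option linter.style.haveILetI false

open Matrix Submodule

namespace Cfsg.Lib.Known.MinIndexO

open Cfsg.Lib.Classical Cfsg.Lib.Classical.Refl

universe u

variable {F : Type u} [Field F] [Fintype F] {ι : Type} [Fintype ι] [DecidableEq ι] {Q : QuadraticForm F (ι → F)}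

set_option quotPrecheck false in
local notation "B" => QuadraticMap.polar (⇑Q)

set_option synthInstance.maxHeartbeats 400000

/-- Zeros of a nondegenerate subspace of maximal Witt index. -/
theorem zeros_of_witt : ∀ (k : ℕ) (X U : Submodule F (ι → F)), (∀ x ∈ X, (∀ y ∈ X, B y x = 0) → x = 0) → U ≤ X →
    (∀ u ∈ U, Q u = 0) → k ≤ Module.finrank F U →
      (Module.finrank F X = 2 * k + 1 → nval Q X 0 = Fintype.card F ^ (2 * k)) ∧
      (Module.finrank F X = 2 * k → Fintype.card F * nval Q X 0 + Fintype.card F ^ k =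
        Fintype.card F ^ (2 * k) + Fintype.card F ^ (k + 1)) := by
  intro k
  induction k with
  | zero =>
    intro X U hX _ _ _
    have h1 : Module.finrank F X ≤ 1 → nval Q X 0 = 1 := by
      intro hd
      rw [nval, Nat.card_eq_one_iff_unique]
      have hzero : ∀ x : X, Q x.1 = 0 → x = 0 := by
        intro x hx
        refine Subtype.ext (hX x.1 x.2 fun y hy => ?_)
        by_contra hne
        have hxx : B x.1 x.1 = 0 := by rw [polar_self_two, hx, mul_zero]
        have hx0 : x.1 ≠ 0 := fun e => hne (by rw [e, QuadraticMap.polar_zero_right])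
        have hle : span F {x.1} = X := Submodule.eq_of_le_of_finrank_le ((span_singleton_le_iff_mem _ _).2 x.2) (by
          rw [finrank_span_singleton hx0]; exact hd)
        obtain ⟨c, rfl⟩ := mem_span_singleton.1 (hle.ge hy)
        exact hne (by rw [QuadraticMap.polar_smul_left, hxx, smul_zero])
      exact ⟨⟨fun x y => Subtype.ext ((hzero x.1 x.2).trans (hzero y.1 y.2).symm)⟩,
        ⟨⟨0, by rw [Submodule.coe_zero, QuadraticMap.map_zero]⟩⟩⟩
    constructor
    · intro hd; rw [h1 (by omega)]; simp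
    · intro hd; rw [h1 (by omega)]; simp [add_comm]
  | succ k ih =>
    intro X U hX hUX hU hk
    obtain ⟨e, he, he0⟩ := U.exists_mem_ne_zero_of_ne_bot (fun h => by rw [h, finrank_bot] at hk; omega)
    obtain ⟨y, hy, hey⟩ : ∃ y ∈ X, B y e ≠ 0 := by
      by_contra hh; push Not at hh; exact he0 (hX e (hUX he) hh)
    rw [QuadraticMap.polar_comm] at hey
    have hee : B e e = 0 := by rw [polar_self_two, hU e he, mul_zero]
    obtain ⟨y1, hy1, hey1⟩ : ∃ y1 ∈ X, B e y1 = 1 := ⟨(B e y)⁻¹ • y, Submodule.smul_mem _ _ hy, by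
      rw [QuadraticMap.polar_smul_right, smul_eq_mul, inv_mul_cancel₀ hey]⟩
    have P : Pair Q e (y1 + (-Q y1) • e) := by
      refine ⟨hU e he, ?_, ?_⟩
      · rw [WittQuad.val_smul_add, hU e he, QuadraticMap.polar_comm (⇑Q) y1 e, hey1]; ring
      · rw [QuadraticMap.polar_add_right, QuadraticMap.polar_smul_right, hey1, hee, smul_zero, add_zero]
    set f := y1 + (-Q y1) • e
    have hfX : f ∈ X := add_mem hy1 (Submodule.smul_mem _ _ (hUX he))
    have d1 := P.finrank_split (hUX he) hfX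
    set X' := X ⊓ Wsub Q e f with hX'
    have hndX' : ∀ x ∈ X', (∀ z ∈ X', B z x = 0) → x = 0 := by
      intro x hx h
      refine hX x hx.1 fun z hz => ?_
      obtain ⟨x1, x2⟩ := mem_Wsub.1 hx.2
      have hz' : z - B f z • e - B e z • f ∈ X' :=
        ⟨sub_mem (sub_mem hz (Submodule.smul_mem _ _ (hUX he))) (Submodule.smul_mem _ _ hfX), P.proj z⟩
      have := h _ hz'
      rwa [QuadraticMap.polar_sub_left, QuadraticMap.polar_sub_left, QuadraticMap.polar_smul_left,
        QuadraticMap.polar_smul_left, x1, x2, smul_zero, smul_zero, sub_zero, sub_zero] at this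
    have hUe : ∀ u ∈ U, B e u = 0 := fun u hu => HypQuad.polar_zero_of_singular Q hU he hu
    have hk' : k ≤ Module.finrank F ↥(U ⊓ Wsub Q e f) := by
      have hle : U ≤ (U ⊓ Wsub Q e f) ⊔ span F {e} := by
        intro u hu
        refine Submodule.mem_sup.2 ⟨u - B f u • e, ⟨sub_mem hu (Submodule.smul_mem _ _ he), ?_⟩, B f u • e,
          Submodule.smul_mem _ _ (mem_span_singleton_self e), sub_add_cancel _ _⟩
        rw [SetLike.mem_coe, mem_Wsub, QuadraticMap.polar_sub_right, QuadraticMap.polar_sub_right,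
          QuadraticMap.polar_smul_right, QuadraticMap.polar_smul_right, hee, P.ba, hUe u hu, smul_zero, smul_eq_mul,
          mul_one, sub_self]
        simp
      have h1 := Submodule.finrank_mono hle
      have h2 := Submodule.finrank_add_le_finrank_add_finrank (U ⊓ Wsub Q e f) (span F {e})
      rw [finrank_span_singleton he0] at h2
      omega
    obtain ⟨i1, i2⟩ := ih X' (U ⊓ Wsub Q e f) hndX' (inf_le_inf_right _ hUX) (fun u hu => hU u hu.1) hk'
    have hn := P.nval_eq (hUX he) hfX 0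
    obtain ⟨q0, hq0⟩ : ∃ q0, Fintype.card F = q0 + 1 := ⟨Fintype.card F - 1, by have := Fintype.card_pos (α := F); omega⟩
    rw [Module.natCard_eq_pow_finrank (K := F) (V := X'), Nat.card_eq_fintype_card] at hn
    constructor
    · intro hd
      rw [hn, i1 (by omega), show Module.finrank F X' = 2 * k + 1 by omega, hq0, show q0 + 1 - 1 = q0 by omega]
      ring
    · intro hd
      have h2 := i2 (by omega)
      rw [hn, show Module.finrank F X' = 2 * k by omega]
      rw [hq0] at h2 ⊢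
      rw [show q0 + 1 - 1 = q0 by omega]
      calc (q0 + 1) * ((q0 + 1) * nval Q X' 0 + q0 * (q0 + 1) ^ (2 * k)) + (q0 + 1) ^ (k + 1) =
            (q0 + 1) * ((q0 + 1) * nval Q X' 0 + (q0 + 1) ^ k) + (q0 + 1) * (q0 * (q0 + 1) ^ (2 * k)) := by ring
        _ = (q0 + 1) * ((q0 + 1) ^ (2 * k) + (q0 + 1) ^ (k + 1)) + (q0 + 1) * (q0 * (q0 + 1) ^ (2 * k)) := by rw [h2]
        _ = _ := by ring

/-- The number of fixed points. -/
noncomputable def fixCard {H : Subgroup (GG Q)} (g : GG Q) : ℕ := Nat.card {x : GG Q ⧸ H // g • x = x}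

theorem fixCard_conj {H : Subgroup (GG Q)} (g t : GG Q) : fixCard (H := H) (g * t * g⁻¹) = fixCard (H := H) t := by
  refine (Nat.card_congr ((MulAction.toPerm g).subtypeEquiv fun x => ?_)).symm
  show t • x = x ↔ (g * t * g⁻¹) • g • x = g • x
  rw [smul_smul, inv_mul_cancel_right, mul_smul, smul_left_cancel_iff]

namespace Ctx0

variable (C : Ctx0 Q)

include C

theorem σ_inj (Γ : C.pact.Compat) : Function.Injective Γ.σ := fun w w' e => C.pact.charOf_inj (DFunLike.ext _ _
  fun v => by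
    show C.pact.χ v w = C.pact.χ v w'
    rw [← Γ.adj v w, e, Γ.adj])

theorem fixCard_eq [Fintype C.pact.Orb] (g : GG Q) :
    fixCard (H := C.H) g = ∑ O : C.pact.Orb, Nat.card {x : C.X // C.pact.orb x = O ∧ g • x = x} := by
  rw [fixCard, ← Nat.card_congr (Equiv.sigmaFiberEquiv (fun x : {x : C.X // g • x = x} => C.pact.orb x.1)),
    Nat.card_sigma]
  exact Finset.sum_congr rfl fun O _ => Nat.card_congr
    ⟨fun z => ⟨z.1.1, z.2, z.1.2⟩, fun z => ⟨⟨z.1, z.2.2⟩, z.2.1⟩, fun _ => rfl, fun _ => rfl⟩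

theorem card_orbit (O : C.pact.Orb) : Nat.card {x : C.X // C.pact.orb x = O} = Nat.card (C.pact.AO O) := by
  obtain ⟨x, rfl⟩ := C.pact.orb_surj O
  exact C.pact.card_fibre x

theorem card_fix_le_orbit (g : GG Q) (O : C.pact.Orb) :
    Nat.card {x : C.X // C.pact.orb x = O ∧ g • x = x} ≤ Nat.card (C.pact.AO O) := by
  rw [← C.card_orbit]
  exact Nat.card_le_card_of_injective (fun z => ⟨z.1, z.2.1⟩) fun z z' e => Subtype.ext (congrArg Subtype.val e :)

theorem tor_a {c : F} (hc : c ≠ 0) (hsq : IsSquare c) :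
    ac Q (tor Q C.a C.b c) C.a = c • C.a ∧ ac Q (tor Q C.a C.b c) C.b = c⁻¹ • C.b ∧
      ∀ w ∈ Wsub Q C.a C.b, ac Q (tor Q C.a C.b c) w = w := by
  refine ⟨?_, ?_, fun w hw => ?_⟩
  · rw [tor_apply C.S C.P hc hsq, C.P.ba, C.P.aa]; module
  · rw [tor_apply C.S C.P hc hsq, C.P.bb, C.P.hab]; module
  · obtain ⟨h1, h2⟩ := mem_Wsub.1 hw
    rw [tor_apply C.S C.P hc hsq, h1, h2]; simp

/-- The torus of the pair as a transport. -/
noncomputable def torA {c : F} (hc : c ≠ 0) (hsq : IsSquare c) : C.pact.Compat :=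
  C.compat (tor Q C.a C.b c) hc (C.tor_a hc hsq).1 (C.tor_a hc hsq).2.1

theorem torA_π {c : F} (hc : c ≠ 0) (hsq : IsSquare c) (v : C.W) : (C.torA hc hsq).π v = c • v :=
  Subtype.ext (congrArg (c • ·) ((C.tor_a hc hsq).2.2 v.1 v.2))

theorem torA_σ {c : F} (hc : c ≠ 0) (hsq : IsSquare c) (w : C.W) : (C.torA hc hsq).σ w = c⁻¹ • w :=
  Subtype.ext (congrArg (c⁻¹ • ·) ((C.tor_a hc hsq).2.2 w.1 w.2))

/-- The torus fixes at most one point of an orbit with scalar-stable perp. -/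
theorem torA_fix_le {c : F} (hc : c ≠ 0) (hc1 : c ≠ 1) (hsq : IsSquare c) (O : C.pact.Orb)
    (hA : ∀ (k : F) w, w ∈ C.pact.AO O → k • w ∈ C.pact.AO O) :
    Nat.card {x : C.X // C.pact.orb x = O ∧ tor Q C.a C.b c • x = x} ≤ 1 := by
  rw [Finite.card_le_one_iff_subsingleton]
  refine ⟨fun ⟨x, hx, hgx⟩ ⟨y, hy, hgy⟩ => Subtype.ext ?_⟩
  show x = y
  subst hx
  obtain ⟨v, rfl⟩ := C.pact.orb_eq.1 hy.symm
  have e : C.pact.f (c • v) x = C.pact.f v x := by
    have e1 := (C.torA hc hsq).comm v x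
    rw [C.torA_π] at e1
    have e2 : (C.torA hc hsq).g (C.pact.f v x) = C.pact.f v x := hgy
    have e3 : (C.torA hc hsq).g x = x := hgx
    rw [e2, e3] at e1
    exact e1.symm
  have hK : (c - 1) • v ∈ C.pact.K x := by
    rw [C.pact.mem_K, show (c - 1) • v = -v + c • v by module, C.pact.f_add, e, C.pact.f_neg]
  have hv : v ∈ C.pact.K x := by
    rw [C.pact.mem_K_iff] at hK ⊢
    intro w hw
    have := hK _ (hA (c - 1)⁻¹ w hw)
    show C.ψ (B v.1 w.1) = 1
    rw [show B v.1 w.1 = B ((c - 1) • v).1 ((c - 1)⁻¹ • w).1 by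
      rw [Submodule.coe_smul, Submodule.coe_smul, QuadraticMap.polar_smul_left, QuadraticMap.polar_smul_right,
        smul_smul, mul_inv_cancel₀ (sub_ne_zero.2 hc1), one_smul]]
    exact this
  exact (C.pact.mem_K.1 hv).symm

theorem iterate_tor {e f : ι → F} (P : Pair Q e f) {c : F} (hc : c ≠ 0) (hsq : IsSquare c) (x : C.X) :
    (fun y : C.X => tor Q e f c • y)^[Fintype.card F - 1] x = x := by
  rw [smul_iterate, C.tor_pow P hc hsq]
  exact one_smul _ x

theorem torA_fix_ge {c : F} (hc : c ≠ 0) (hsq : IsSquare c) (O : C.pact.Orb) (hO : (C.torA hc hsq).map O = O) :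
    1 ≤ Nat.card {x : C.X // C.pact.orb x = O ∧ tor Q C.a C.b c • x = x} := by
  obtain ⟨y, hy1, hy2⟩ := C.exists_fixed (C.torA hc hsq) hO fun x => C.iterate_tor C.P hc hsq x
  exact Finite.card_pos_iff.2 ⟨⟨y, hy1, hy2⟩⟩

theorem tor_W {e f : ι → F} (P : Pair Q e f) (he : e ∈ Wsub Q C.a C.b) (hf : f ∈ Wsub Q C.a C.b) {c : F}
    (hc : c ≠ 0) (hsq : IsSquare c) : ac Q (tor Q e f c) C.a = C.a ∧ ac Q (tor Q e f c) C.b = C.b := by
  obtain ⟨h1, h2⟩ := mem_Wsub.1 he
  obtain ⟨h3, h4⟩ := mem_Wsub.1 hf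
  rw [QuadraticMap.polar_comm] at h1 h2 h3 h4
  constructor
  · rw [tor_apply C.S P hc hsq, h1, h3]; simp
  · rw [tor_apply C.S P hc hsq, h2, h4]; simp

/-- The torus of a pair in the complement as a transport. -/
noncomputable def torW {e f : ι → F} (P : Pair Q e f) (he : e ∈ Wsub Q C.a C.b) (hf : f ∈ Wsub Q C.a C.b) {c : F}
    (hc : c ≠ 0) (hsq : IsSquare c) : C.pact.Compat :=
  C.compat1 (tor Q e f c) (C.tor_W P he hf hc hsq).1 (C.tor_W P he hf hc hsq).2

theorem torW_σ {e f : ι → F} (P : Pair Q e f) (he : e ∈ Wsub Q C.a C.b) (hf : f ∈ Wsub Q C.a C.b) {c : F}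
    (hc : c ≠ 0) (hsq : IsSquare c) (w : C.W) :
    ((C.torW P he hf hc hsq).σ w).1 = w.1 + ((c - 1) * B f w.1) • e + ((c⁻¹ - 1) * B e w.1) • f :=
  (C.compat1_σ _ _ _ w).trans (tor_apply C.S P hc hsq w.1)

theorem torW_π {e f : ι → F} (P : Pair Q e f) (he : e ∈ Wsub Q C.a C.b) (hf : f ∈ Wsub Q C.a C.b) {c : F}
    (hc : c ≠ 0) (hsq : IsSquare c) (w : C.W) :
    ((C.torW P he hf hc hsq).π w).1 = w.1 + ((c - 1) * B f w.1) • e + ((c⁻¹ - 1) * B e w.1) • f :=
  (one_smul F _).trans (tor_apply C.S P hc hsq w.1)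

/-- A torus of the complement fixes the translates of a fixed point by its fixed space. -/
theorem torW_fix_ge {e f : ι → F} (P : Pair Q e f) (he : e ∈ Wsub Q C.a C.b) (hf : f ∈ Wsub Q C.a C.b) {c : F}
    (hc : c ≠ 0) (hsq : IsSquare c) (O : C.pact.Orb) (hO : (C.torW P he hf hc hsq).map O = O) :
    ∃ y, C.pact.orb y = O ∧ Fintype.card F ^ (Fintype.card ι - 4) ≤
      Nat.card {x : C.X // C.pact.orb x = O ∧ tor Q e f c • x = x} *
        Nat.card {v : C.W // (B e v.1 = 0 ∧ B f v.1 = 0) ∧ v ∈ C.pact.K y} := by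
  classical
  obtain ⟨y, hy1, hy2⟩ := C.exists_fixed (C.torW P he hf hc hsq) hO fun x => C.iterate_tor P hc hsq x
  refine ⟨y, hy1, ?_⟩
  have := Fintype.ofFinite C.W
  have := Fintype.ofFinite {x : C.X // C.pact.orb x = O ∧ tor Q e f c • x = x}
  let Wh : Finset C.W := Finset.univ.filter fun v => B e v.1 = 0 ∧ B f v.1 = 0
  have hcard : Wh.card = Fintype.card F ^ (Fintype.card ι - 4) := by
    have e1 : Nat.card {v : C.W // B e v.1 = 0 ∧ B f v.1 = 0} = Nat.card ↥(Wsub Q C.a C.b ⊓ Wsub Q e f) :=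
      Nat.card_congr ⟨fun v => ⟨v.1.1, v.1.2, mem_Wsub.2 v.2⟩, fun v => ⟨⟨v.1, v.2.1⟩, mem_Wsub.1 v.2.2⟩,
        fun _ => rfl, fun _ => rfl⟩
    rw [Nat.card_eq_fintype_card, Fintype.card_subtype, Module.natCard_eq_pow_finrank (K := F),
      Nat.card_eq_fintype_card (α := F)] at e1
    rw [e1]
    congr 1
    have d1 := P.finrank_split he hf
    have dW : Module.finrank F ↥(Wsub Q C.a C.b) + 2 = Fintype.card ι := C.finrank_W
    omega
  have hmem : ∀ v ∈ Wh, tor Q e f c • C.pact.f v y = C.pact.f v y := fun v hv => by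
    obtain ⟨h1, h2⟩ := (Finset.mem_filter.1 hv).2
    have e1 := (C.torW P he hf hc hsq).comm v y
    rw [hy2, show (C.torW P he hf hc hsq).π v = v from Subtype.ext (by rw [C.torW_π, h1, h2]; simp)] at e1
    exact e1
  rw [← hcard, mul_comm, Nat.card_eq_fintype_card (α := {x : C.X // C.pact.orb x = O ∧ tor Q e f c • x = x}),
    ← Finset.card_univ]
  let φ : C.W → {x : C.X // C.pact.orb x = O ∧ tor Q e f c • x = x} := fun v =>
    if h : tor Q e f c • C.pact.f v y = C.pact.f v y then ⟨C.pact.f v y, (C.pact.orb_f v y).trans hy1, h⟩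
    else ⟨y, hy1, hy2⟩
  refine (Finset.card_le_mul_card_image (f := φ) Wh _ fun z hz => ?_).trans
    (Nat.mul_le_mul_left _ (Finset.card_le_univ _))
  obtain ⟨v0, hv0, rfl⟩ := Finset.mem_image.1 hz
  rw [Nat.card_eq_fintype_card, Fintype.card_subtype]
  refine Finset.card_le_card_of_injOn (fun v => v - v0) (fun v hv => ?_) fun v _ v' _ e => sub_left_injective e
  simp only [Finset.coe_filter, Set.mem_setOf_eq] at hv ⊢
  obtain ⟨h1, h2⟩ := (Finset.mem_filter.1 hv.1).2
  obtain ⟨g1, g2⟩ := (Finset.mem_filter.1 hv0).2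
  refine ⟨Finset.mem_univ _, ⟨?_, ?_⟩, ?_⟩
  · rw [Submodule.coe_sub, QuadraticMap.polar_sub_right, h1, g1, sub_zero]
  · rw [Submodule.coe_sub, QuadraticMap.polar_sub_right, h2, g2, sub_zero]
  · have e1 : C.pact.f v y = C.pact.f v0 y := by
      have := congrArg (fun z : {x : C.X // C.pact.orb x = O ∧ tor Q e f c • x = x} => z.1) hv.2
      simpa only [φ, dif_pos (hmem v hv.1), dif_pos (hmem v0 hv0)] using this
    rw [C.pact.mem_K, sub_eq_add_neg, add_comm, C.pact.f_add, e1, C.pact.f_neg]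

/-- When the perp contains the first vector of the pair, the torus fixes a `q`-th of the orbit at most. -/
theorem torW_fix_le {e f : ι → F} (P : Pair Q e f) (he : e ∈ Wsub Q C.a C.b) (hf : f ∈ Wsub Q C.a C.b) {c : F}
    (hc : c ≠ 0) (hc1 : c ≠ 1) (hsq : IsSquare c) (O : C.pact.Orb)
    (hA : ∀ k : F, (⟨k • e, Submodule.smul_mem _ k he⟩ : C.W) ∈ C.pact.AO O) :
    Nat.card {x : C.X // C.pact.orb x = O ∧ tor Q e f c • x = x} * Fintype.card F ≤ Nat.card (C.pact.AO O) := by
  rw [← C.card_orbit, ← Nat.card_eq_fintype_card, ← Nat.card_prod]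
  refine Nat.card_le_card_of_injective
    (fun p => ⟨C.pact.f (p.2 • (⟨f, hf⟩ : C.W)) p.1.1, (C.pact.orb_f _ _).trans p.1.2.1⟩) ?_
  rintro ⟨⟨x, hxO, hx⟩, k⟩ ⟨⟨x', hxO', hx'⟩, k'⟩ heq
  have heq' : C.pact.f (k • (⟨f, hf⟩ : C.W)) x = C.pact.f (k' • (⟨f, hf⟩ : C.W)) x' := congrArg Subtype.val heq
  have e2 := congrArg (C.torW P he hf hc hsq).g heq'
  rw [Pact.Compat.comm, Pact.Compat.comm, show (C.torW P he hf hc hsq).g x = x from hx,
    show (C.torW P he hf hc hsq).g x' = x' from hx'] at e2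
  have hπ : ∀ l : F, (C.torW P he hf hc hsq).π (l • (⟨f, hf⟩ : C.W)) = (c⁻¹ * l) • (⟨f, hf⟩ : C.W) := by
    intro l
    refine Subtype.ext ?_
    rw [C.torW_π, Submodule.coe_smul, Submodule.coe_smul, QuadraticMap.polar_smul_right,
      QuadraticMap.polar_smul_right, P.bb, P.hab, smul_eq_mul, smul_eq_mul]
    module
  rw [hπ, hπ] at e2
  set w : C.W := ⟨f, hf⟩
  have e3 : x' = C.pact.f ((k - k') • w) x := by
    rw [show (k - k') • w = -(k' • w) + k • w by module, C.pact.f_add, heq', C.pact.f_neg]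
  rw [e3, ← C.pact.f_add] at e2
  have hK : ((c⁻¹ - 1) * (k - k')) • w ∈ C.pact.K x := by
    rw [C.pact.mem_K, show ((c⁻¹ - 1) * (k - k')) • w =
      -((c⁻¹ * k' + (k - k')) • w) + (c⁻¹ * k) • w by module, C.pact.f_add, e2, ← add_smul, C.pact.f_neg]
  have hkk : k = k' := by
    rw [C.pact.mem_K_iff] at hK
    subst hxO
    have h0 : (c⁻¹ - 1) * (k - k') = 0 := C.ψ_sep fun l => by
      have := hK _ (hA l)
      change C.ψ (B (((c⁻¹ - 1) * (k - k')) • f) (l • e)) = 1 at this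
      rwa [QuadraticMap.polar_smul_left, QuadraticMap.polar_smul_right, P.ba, smul_eq_mul, smul_eq_mul, mul_one,
        mul_comm] at this
    refine sub_eq_zero.1 ((mul_eq_zero.1 h0).resolve_left (sub_ne_zero.2 fun h => hc1 ?_))
    rw [← inv_inv c, h, inv_one]
  subst hkk
  rw [sub_self, zero_smul, C.pact.f_zero] at e3
  exact Prod.ext (Subtype.ext e3.symm) rfl

end Ctx0

end Cfsg.Lib.Known.MinIndexO
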