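import Cfsg.Agent.Known.MinIndexO.Counts

/-!
Dimensions seven and eight with maximal totally singular perps: no subgroup of small index.
-/

set_option autoImplicit false
set_option linter.unusedSectionVars false
set_option linter.style.haveILetI false

open Matrix Submodule

namespace Cfsg.Lib.Known.MinIndexO

open Cfsg.Lib.Classical Cfsg.Lib.Classical.Refl

universe u

variable {F : Type u} [Field F] [Fintype F] {ι : Type} [Fintype ι] [DecidableEq ι] {Q : QuadraticForm F (ι → F)}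

set_option quotPrecheck false in
local notation "B" => QuadraticMap.polar (⇑Q)

set_option synthInstance.maxHeartbeats 400000

/-- The bound on the index in exceptional dimensions. -/
theorem exc_bound {q d Ns k : ℕ} (hq : 4 ≤ q)
    (h : (k = 2 ∧ Ns + 1 = q ^ 4) ∨ (k = 3 ∧ Ns + 1 + q ^ 2 = q ^ 5 + q ^ 3))
    (hd : d * (q - 1) < q * Ns + (q - 1) + (q - 1) * q ^ (k + 3)) :
    (q + 1) * Ns = (q + 1) * (q ^ 2 + 1) * (q ^ k - 1) ∧
      q * Ns + (q - 1) + (q - 1) * q ^ (k + 3) + 1 =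
        (q + 1) * (q ^ 2 + 1) * q ^ k * (q - 1) + q ^ (2 * (k - 1)) ∧
      d * (q - 1) + 1 < (q + 1) * (q ^ 2 + 1) * q ^ k * (q - 1) + q ^ (2 * (k - 1)) := by
  obtain ⟨r, rfl⟩ : ∃ r, q = r + 1 := ⟨q - 1, by omega⟩
  rw [Nat.add_sub_cancel] at hd ⊢
  rcases h with ⟨rfl, h⟩ | ⟨rfl, h⟩
  · obtain ⟨x, hx⟩ : ∃ x, (r + 1) ^ 2 = x + 1 := ⟨r * r + 2 * r, by ring⟩
    have hN : Ns = ((r + 1) ^ 2 + 1) * x := by
      refine Nat.add_right_cancel (m := 1) ?_
      rw [h, hx, show (r + 1) ^ 4 = ((r + 1) ^ 2) * ((r + 1) ^ 2) by ring, hx]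
      ring
    have e : (r + 1) * Ns + r + r * (r + 1) ^ (2 + 3) + 1 =
        (r + 1 + 1) * ((r + 1) ^ 2 + 1) * (r + 1) ^ 2 * r + (r + 1) ^ (2 * (2 - 1)) := by
      refine Nat.add_right_cancel (m := r + 1) ?_
      calc _ = (r + 1) * (Ns + 1) + r + r * (r + 1) ^ 5 + 1 := by ring
        _ = _ := by rw [h]; ring
    exact ⟨by rw [hx, Nat.add_sub_cancel, hN, hx]; ring, e, by omega⟩
  · obtain ⟨x, hx⟩ : ∃ x, (r + 1) ^ 3 = x + 1 := ⟨r ^ 3 + 3 * r ^ 2 + 3 * r, by ring⟩
    have hN : Ns = ((r + 1) ^ 2 + 1) * x := by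
      refine Nat.add_right_cancel (m := 1 + (r + 1) ^ 2) ?_
      calc Ns + (1 + (r + 1) ^ 2) = (r + 1) ^ 5 + (r + 1) ^ 3 := by rw [← h]; ring
        _ = ((r + 1) ^ 2 + 1) * ((r + 1) ^ 3) := by ring
        _ = _ := by rw [hx]; ring
    have e : (r + 1) * Ns + r + r * (r + 1) ^ (3 + 3) + 1 =
        (r + 1 + 1) * ((r + 1) ^ 2 + 1) * (r + 1) ^ 3 * r + (r + 1) ^ (2 * (3 - 1)) := by
      refine Nat.add_right_cancel (m := (r + 1) + (r + 1) * (r + 1) ^ 2) ?_
      calc _ = (r + 1) * (Ns + 1 + (r + 1) ^ 2) + r + r * (r + 1) ^ 6 + 1 := by ring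
        _ = _ := by rw [h]; ring
    exact ⟨by rw [hx, Nat.add_sub_cancel, hN]; ring, e, by omega⟩

theorem exc_N_eq {q : ℕ} (hq : 1 ≤ q) : (q + 1) * (q ^ 2 + 1) * (q - 1) + 1 = q ^ 4 := by
  obtain ⟨r, rfl⟩ : ∃ r, q = r + 1 := ⟨q - 1, by omega⟩
  rw [Nat.add_sub_cancel]
  ring

theorem exc_pow_le {q k : ℕ} (hq : 1 ≤ q) (hk : k = 2 ∨ k = 3) : q ^ (2 * (k - 1)) ≤ q ^ 4 :=
  Nat.pow_le_pow_right hq (by omega)

/-- The perps of planes fill their spans. -/
theorem exc_full {N P s x q d R : ℕ} (hN : 0 < N) (hx : 1 ≤ x) (hR : R ≤ N * (q - 1) + 1) (hc : P * (s - 1) = N * x)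
    (hs : 2 * s ≤ x + 1) (hP : P * s ≤ d) (hb : d * (q - 1) + 1 < N * (x + 1) * (q - 1) + R) : False := by
  obtain ⟨t, rfl⟩ : ∃ t, s = t + 1 := ⟨s - 1, by
    rcases Nat.eq_zero_or_pos s with h | h
    · rw [h, Nat.zero_sub, mul_zero] at hc
      exact absurd hc.symm (Nat.mul_pos hN hx).ne'
    · omega⟩
  rw [Nat.add_sub_cancel] at hc
  have ht : 0 < t := Nat.pos_of_ne_zero fun h => by
    rw [h, mul_zero] at hc
    exact (Nat.mul_pos hN hx).ne' hc.symm
  have h2 : 2 * N ≤ P := Nat.le_of_mul_le_mul_right (by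
    calc 2 * N * t = N * (2 * t) := by ring
      _ ≤ N * x := Nat.mul_le_mul_left _ (by omega)
      _ = P * t := hc.symm) ht
  have h5 : N * (x + 1) + N ≤ d := by
    rw [mul_add, mul_one] at hP ⊢
    omega
  have h6 := Nat.mul_le_mul_right (q - 1) h5
  rw [add_mul] at h6
  omega

/-- No room for vectors of nonzero value. -/
theorem exc_other {N k q L c d : ℕ} (hq : 4 ≤ q) (hk : k = 2 ∨ k = 3) (hL : L = q ^ k)
    (hc : (q - 1) * ((q ^ 2 - 1) * L) ≤ 2 * c) (hd : c + N * q ^ k ≤ d)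
    (hb : d * (q - 1) + 1 < N * q ^ k * (q - 1) + q ^ (2 * (k - 1))) : False := by
  have h1 := Nat.mul_le_mul_right (q - 1) hd
  rw [add_mul] at h1
  have h2 : q ^ (2 * (k - 1)) ≤ q ^ 4 := exc_pow_le (by omega) hk
  have h3 : q ^ 2 ≤ L := hL ▸ Nat.pow_le_pow_right (by omega) (by omega)
  have h4 : (q - 1) * ((q ^ 2 - 1) * q ^ 2) * (q - 1) < 2 * q ^ 4 := by
    have h5 : (q - 1) * ((q ^ 2 - 1) * q ^ 2) * (q - 1) ≤ 2 * c * (q - 1) :=
      Nat.mul_le_mul_right _ (le_trans (Nat.mul_le_mul_left _ (Nat.mul_le_mul_left _ h3)) hc)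
    rw [mul_assoc 2] at h5
    omega
  have e3 : 3 * ((4 ^ 2 - 1) * q ^ 2) * 3 ≤ (q - 1) * ((q ^ 2 - 1) * q ^ 2) * (q - 1) := by
    refine Nat.mul_le_mul (Nat.mul_le_mul (by omega) (Nat.mul_le_mul_right _ ?_)) (by omega)
    have := Nat.pow_le_pow_left hq 2
    omega
  rcases le_or_gt q 8 with h8 | h8
  · interval_cases q <;> simp at h4
  · have e8 : 8 * ((q ^ 2 - 1) * q ^ 2) * 8 ≤ (q - 1) * ((q ^ 2 - 1) * q ^ 2) * (q - 1) :=
      Nat.mul_le_mul (Nat.mul_le_mul (by omega) le_rfl) (by omega)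
    obtain ⟨x, hx⟩ : ∃ x, q ^ 2 = x + 1 := ⟨q ^ 2 - 1, by have := Nat.one_le_pow 2 q (by omega); omega⟩
    rw [show q ^ 4 = q ^ 2 * q ^ 2 by ring, hx] at h4
    rw [hx] at e8
    rw [Nat.add_sub_cancel] at e8 h4
    have : 1 ≤ x := by
      have := Nat.pow_le_pow_left hq 2
      omega
    nlinarith

/-- Dimension seven: the two tori fix different numbers of points. -/
theorem exc_seven {q N t u1 u2 f : ℕ} (hq : 4 ≤ q) (hN : N = (q + 1) * (q ^ 2 + 1)) (ht : N ≤ t)
    (hu1 : u1 ≤ f) (hu2 : u2 ≤ 2 * (q + 1) * q) (hf : f ≤ q) (h : t ≤ u1 + u2) : False := by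
  obtain ⟨r, rfl⟩ : ∃ r, q = r + 4 := ⟨q - 4, by omega⟩
  subst hN
  nlinarith

/-- Dimension eight: the incidences of fixed points are not integral. -/
theorem exc_eight {q N f r : ℕ} (hq : 4 ≤ q) (hN : N = (q + 1) * (q ^ 2 + 1)) (hf0 : 0 < f) (hf : f < N)
    (h : (N * q ^ 3 + f) * r = N * (q ^ 3 + 1) * f) : False := by
  have hN4 : N < 4 * q ^ 3 := by subst hN; nlinarith
  rcases Nat.lt_or_ge f r with hlt | hge
  · have h1 := Nat.mul_le_mul_left (N * q ^ 3 + f) (Nat.succ_le_of_lt hlt)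
    obtain ⟨g, rfl⟩ := Nat.exists_eq_add_of_le hf.le
    nlinarith [sq_nonneg ((f : ℤ) - g)]
  · have h1 := Nat.mul_le_mul_left (N * q ^ 3 + f) hge
    obtain ⟨g, rfl⟩ := Nat.exists_eq_add_of_le (Nat.succ_le_of_lt hf)
    nlinarith [Nat.mul_pos hf0 (Nat.succ_pos g)]

namespace Ctx0

variable (C : Ctx0 Q)

include C

/-- An orbit whose perp is totally singular and not contained in a line. -/
def IsPlane (O : C.pact.Orb) : Prop :=
  (∀ w ∈ C.pact.AO O, Q w.1 = 0) ∧
    ∃ v ∈ C.pact.AO O, ∃ u ∈ C.pact.AO O, v ≠ 0 ∧ u.1 ∉ span F {v.1}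

theorem two_le_span {O : C.pact.Orb} (h : C.IsPlane O) : 2 ≤ Module.finrank F (C.spanO O) := by
  obtain ⟨-, v, hv, u, hu, hv0, huv⟩ := h
  have hlt : span F {v.1} < C.spanO O := lt_of_le_of_ne
    ((span_singleton_le_iff_mem _ _).2 (C.mem_spanO hv)) fun e => huv (e ▸ C.mem_spanO hu)
  have := Submodule.finrank_lt_finrank_of_lt hlt
  rw [finrank_span_singleton (fun e => hv0 (Subtype.ext e))] at this
  omega

theorem spanO_line {O : C.pact.Orb} {v : C.W} (h : ∀ u ∈ C.pact.AO O, u.1 ∈ span F {v.1}) :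
    Module.finrank F (C.spanO O) ≤ 1 := by
  refine (Submodule.finrank_mono (span_le.2 ?_ : C.spanO O ≤ span F {v.1})).trans ?_
  · rintro _ ⟨u, hu, rfl⟩; exact h u hu
  · exact (finrank_span_le_card _).trans (by simp)

theorem spanO_top {O : C.pact.Orb} (h : C.pact.AO O = ⊤) : C.spanO O = Wsub Q C.a C.b :=
  le_antisymm (C.spanO_le_W O) fun x hx => C.mem_spanO (w := ⟨x, hx⟩) (h ▸ AddSubgroup.mem_top _)

theorem exists_ne_in_plane {O : C.pact.Orb} (h : C.IsPlane O) {v : C.W} (_hv : v ∈ C.pact.AO O) :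
    ∃ u ∈ C.pact.AO O, u.1 ∉ span F {v.1} := by
  by_contra hh
  push Not at hh
  have h1 := C.two_le_span h
  have h2 := C.spanO_line hh
  omega

end Ctx0

namespace Ctx

open Ctx0

variable (C : Ctx Q)

include C

/-- An orbit with a totally singular span of dimension at least two is a plane. -/
theorem plane_of_span [Fintype C.pact.Orb] {O : C.pact.Orb} {v : C.W} (hv0 : v ≠ 0) (hv : v ∈ C.pact.AO O)
    (h2 : 2 ≤ Module.finrank F (C.spanO O)) (hlt : C.pact.AO O ≠ ⊤) : C.IsPlane O := by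
  refine ⟨fun w hw => ?_, ?_⟩
  · by_contra hQ
    rcases C.nonsing_member hQ hw with h | h
    · exact hlt h
    · have := C.spanO_line h; omega
  · by_contra hh
    push Not at hh
    have h1 := C.spanO_line (v := v) fun u hu => hh v hv u hu hv0
    omega

/-- The data of the exceptional case. -/
theorem plane_data [Fintype C.pact.Orb] {O0 : C.pact.Orb} (h0 : C.IsPlane O0) :
    (Fintype.card ι = 7 ∨ Fintype.card ι = 8) ∧
    ∀ v : C.W, v ≠ 0 → Q v.1 = 0 → C.m v = Fintype.card F + 1 ∧ Set.InjOn C.spanO (C.pact.mem v : Set C.pact.Orb) ∧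
      ∀ O ∈ C.pact.mem v, C.IsPlane O ∧ Module.finrank F (C.spanO O) = Fintype.card ι - 5 ∧
        Nat.card (C.pact.AO O) = Nat.card (C.pact.AO O0) := by
  obtain ⟨hA, v0, hv0, u0, hu0, hv00, huv⟩ := id h0
  obtain ⟨hn8, -, -, hmem0⟩ := C.plane_shape hA hv00 hv0 hu0 huv
  have hn := C.S.hn
  refine ⟨by omega, fun v hv hQv => ?_⟩
  obtain ⟨g, g1, g2, g3⟩ := move_W C.S C.P v0.2 v.2 (fun e => hv00 (Subtype.ext e)) (fun e => hv (Subtype.ext e))
    (by rw [hA v0 hv0, hQv])
  set Γ := C.compat1 g g1 g2 with hΓ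
  set O1 := Γ.map O0 with hO1
  have hσ : Γ.σ v0 = v := Subtype.ext ((C.compat1_σ g g1 g2 v0).trans g3)
  have hv1 : v ∈ C.pact.AO O1 := by rw [← hσ]; exact Γ.mem_AO.2 hv0
  have hcard1 : Nat.card (C.pact.AO O1) = Nat.card (C.pact.AO O0) := C.card_AO_map Γ (C.σ_inj Γ) O0
  have hfin1 : Module.finrank F (C.spanO O1) = Module.finrank F (C.spanO O0) := by
    rw [hO1, hΓ, C.spanO_map]
    exact (LinearEquiv.finrank_eq (Submodule.equivMapOfInjective _ (fun x y e => ac_inj Q g e) _)).symm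
  have hk0 := C.two_le_span h0
  have hk0' := C.finrank_spanO hA
  have notTop : ∀ O : C.pact.Orb, Module.finrank F (C.spanO O) ≤ 3 → C.pact.AO O ≠ ⊤ := by
    intro O hO hT
    rw [C.spanO_top hT] at hO
    have dW : Module.finrank F ↥(Wsub Q C.a C.b) + 2 = Fintype.card ι := C.finrank_W
    omega
  have h1 : C.IsPlane O1 := C.plane_of_span hv hv1 (by omega) (notTop O1 (by omega))
  obtain ⟨u1, hu1, hu1'⟩ := C.exists_ne_in_plane h1 hv1
  obtain ⟨-, hm, hinj, hall⟩ := C.plane_shape h1.1 hv hv1 hu1 hu1'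
  refine ⟨hm, hinj, fun O hO => ?_⟩
  obtain ⟨e1, e2⟩ := hall O hO
  refine ⟨C.plane_of_span hv (C.pact.mem_mem.1 hO) (by omega) (notTop O (by omega)), e1, e2.trans hcard1⟩

end Ctx

namespace Ctx0

variable (C : Ctx0 Q)

include C

/-- The number of nonzero singular vectors of the complement in the exceptional dimensions. -/
theorem Ns_eq {O0 : C.pact.Orb} (hA : ∀ w ∈ C.pact.AO O0, Q w.1 = 0)
    (hk : Module.finrank F (C.spanO O0) = Fintype.card ι - 5) (hn : Fintype.card ι = 7 ∨ Fintype.card ι = 8) :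
    (Fintype.card ι = 7 → C.Ns + 1 = Fintype.card F ^ 4) ∧
      (Fintype.card ι = 8 → C.Ns + 1 + Fintype.card F ^ 2 = Fintype.card F ^ 5 + Fintype.card F ^ 3) := by
  have dW : Module.finrank F ↥(Wsub Q C.a C.b) + 2 = Fintype.card ι := C.finrank_W
  obtain ⟨h1, h2⟩ := zeros_of_witt (Q := Q) (Fintype.card ι - 5) (Wsub Q C.a C.b) (C.spanO O0)
    (fun x hx h => C.eq_zero_of_perp hx fun v => h v.1 v.2) (C.spanO_le_W O0)
    (fun u hu => (C.spanO_singular hA u hu).1) hk.ge
  rw [Ns, Nat.sub_add_cancel C.one_le_nval0]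
  constructor
  · intro h7
    rw [h1 (by omega), show 2 * (Fintype.card ι - 5) = 4 by omega]
  · intro h8
    have h3 := h2 (by omega)
    rw [show Fintype.card ι - 5 = 3 by omega] at h3
    refine Nat.eq_of_mul_eq_mul_left (Fintype.card_pos (α := F)) ?_
    rw [mul_add, ← pow_succ', h3]
    ring

end Ctx0

namespace Ctx

open Ctx0

variable (C : Ctx Q)

include C

/-- The orbits of the exceptional case: planes and fixed points. -/
structure Exc (C : Ctx Q) [Fintype C.pact.Orb] (Pl : Finset C.pact.Orb) : Prop where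
  k23 : Fintype.card ι - 5 = 2 ∨ Fintype.card ι - 5 = 3
  card_Pl : Pl.card = (Fintype.card F + 1) * (Fintype.card F ^ 2 + 1)
  plane : ∀ O ∈ Pl, C.IsPlane O
  rank : ∀ O ∈ Pl, Module.finrank F (C.spanO O) = Fintype.card ι - 5
  card : ∀ O ∈ Pl, Nat.card (C.pact.AO O) = Fintype.card F ^ (Fintype.card ι - 5)
  other : ∀ O ∉ Pl, C.pact.AO O = ⊥
  full : ∀ O ∈ Pl, ∀ w : C.W, w.1 ∈ C.spanO O → w ∈ C.pact.AO O
  mem_Pl : ∀ w : C.W, w ≠ 0 → Q w.1 = 0 → ∀ O, w ∈ C.pact.AO O → O ∈ Pl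
  m_eq : ∀ w : C.W, w ≠ 0 → Q w.1 = 0 → (C.pact.mem w).card = Fintype.card F + 1
  inj : ∀ O ∈ Pl, ∀ O' : C.pact.Orb, (∀ w, w ∈ C.pact.AO O → w ∈ C.pact.AO O') → O = O'
  index : C.H.index = (Fintype.card F + 1) * (Fintype.card F ^ 2 + 1) * Fintype.card F ^ (Fintype.card ι - 5) +
    (Fintype.card C.pact.Orb - Pl.card)
  bound : C.H.index * (Fintype.card F - 1) + 1 < (Fintype.card F + 1) * (Fintype.card F ^ 2 + 1) *
    Fintype.card F ^ (Fintype.card ι - 5) * (Fintype.card F - 1) + Fintype.card F ^ (2 * (Fintype.card ι - 5 - 1))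
  sing : Nat.card (Sing Q) + 1 = (Fintype.card F + 1) * (Fintype.card F ^ 2 + 1) *
    Fintype.card F ^ (Fintype.card ι - 5) * (Fintype.card F - 1) + Fintype.card F ^ (2 * (Fintype.card ι - 5 - 1))

open scoped Classical in
/-- The exceptional case has planes and fixed points only. -/
theorem exc_data [Fintype C.pact.Orb] {O0 : C.pact.Orb} (h0 : C.IsPlane O0) : ∃ Pl, Exc C Pl := by
  classical
  have := Fintype.ofFinite C.W
  have := Fintype.ofFinite C.X
  obtain ⟨hn, hdata⟩ := C.plane_data h0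
  obtain ⟨hA0, v0, hv0, u0, hu0, hv00, hu0v0⟩ := id h0
  set q := Fintype.card F with hqdef
  set k := Fintype.card ι - 5 with hkdef
  have hk0 : Module.finrank F (C.spanO O0) = k := ((hdata v0 hv00 (hA0 v0 hv0)).2.2 O0 (C.pact.mem_mem.2 hv0)).2.1
  obtain ⟨hNs7, hNs8⟩ := C.Ns_eq hA0 hk0 hn
  have hq := C.hq
  let D : Finset C.W := Finset.univ.filter fun w => w ≠ 0 ∧ Q w.1 = 0
  have hD : D.card = C.Ns := by
    rw [Ns, nval, Nat.card_eq_fintype_card, Fintype.card_subtype,
      ← Finset.card_erase_of_mem (a := (0 : C.W)) (by simp)]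
    congr 1
    ext w
    simp [D]
  let Pl : Finset C.pact.Orb := Finset.univ.filter fun O => ∃ w ∈ D, w ∈ C.pact.AO O
  have hPl : ∀ O ∈ Pl, C.IsPlane O ∧ Module.finrank F (C.spanO O) = k ∧
      Nat.card (C.pact.AO O) = Nat.card (C.pact.AO O0) := by
    intro O hO
    obtain ⟨w, hw, hwO⟩ := (Finset.mem_filter.1 hO).2
    obtain ⟨-, hw0, hQw⟩ := Finset.mem_filter.1 hw
    exact (hdata w hw0 hQw).2.2 O (C.pact.mem_mem.2 hwO)
  set s := Nat.card (C.pact.AO O0) with hs
  -- incidences of singular vectors with planes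
  have hcount : Pl.card * (s - 1) = (q + 1) * C.Ns := by
    have e1 : ∑ w ∈ D, (Pl.filter (w ∈ C.pact.AO ·)).card = ∑ O ∈ Pl, (D.filter (· ∈ C.pact.AO O)).card := by
      simp only [Finset.card_filter]
      exact Finset.sum_comm
    have e2 : ∀ O ∈ Pl, (D.filter (· ∈ C.pact.AO O)).card = s - 1 := by
      intro O hO
      obtain ⟨hP, -, hc⟩ := hPl O hO
      rw [← hc, Nat.card_eq_fintype_card, Fintype.card_subtype,
        ← Finset.card_erase_of_mem (a := (0 : C.W)) (by simp)]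
      congr 1
      ext w
      simp only [D, Finset.mem_filter, Finset.mem_univ, true_and, Finset.mem_erase]
      exact ⟨fun h => ⟨h.1.1, h.2⟩, fun h => ⟨⟨h.1, hP.1 w h.2⟩, h.2⟩⟩
    have e3 : ∀ w ∈ D, (Pl.filter (w ∈ C.pact.AO ·)).card = q + 1 := by
      intro w hw
      obtain ⟨-, hw0, hQw⟩ := Finset.mem_filter.1 hw
      rw [← (hdata w hw0 hQw).1, m]
      congr 1
      ext O
      rw [Finset.mem_filter, Pact.mem_mem]
      exact ⟨fun h => h.2, fun h => ⟨Finset.mem_filter.2 ⟨Finset.mem_univ _, w, hw, h⟩, h⟩⟩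
    rw [Finset.sum_congr rfl e2, Finset.sum_congr rfl e3, Finset.sum_const, Finset.sum_const, smul_eq_mul,
      smul_eq_mul, hD] at e1
    rw [← e1, mul_comm]
  have hZ := C.small'
  have hk23 : k = 2 ∨ k = 3 := by omega
  rw [← hqdef, show Fintype.card ι - 2 = k + 3 by omega] at hZ
  obtain ⟨hNs, hZeq, hbound⟩ := exc_bound (Ns := C.Ns) hq (by
    rcases hn with h | h
    · exact Or.inl ⟨by omega, by rw [hNs7 h]⟩
    · exact Or.inr ⟨by omega, by rw [hNs8 h]⟩) hZ
  set N := (q + 1) * (q ^ 2 + 1) with hN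
  rw [hNs] at hcount
  -- the perps are whole subspaces
  have hUcard : ∀ O ∈ Pl, Nat.card (C.spanO O) = q ^ k := fun O hO => by
    rw [Module.natCard_eq_pow_finrank (K := F), Nat.card_eq_fintype_card, (hPl O hO).2.1]
  have hsdvd : s ∣ q ^ k := by
    obtain ⟨O, hO⟩ : ∃ O, O ∈ Pl := ⟨O0, Finset.mem_filter.2 ⟨Finset.mem_univ _, v0,
      Finset.mem_filter.2 ⟨Finset.mem_univ _, hv00, hA0 v0 hv0⟩, hv0⟩⟩
    rw [← (hPl O hO).2.2, ← hUcard O hO]
    let φ : C.pact.AO O →+ C.spanO O :=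
      { toFun := fun w => ⟨w.1.1, C.mem_spanO w.2⟩, map_zero' := rfl, map_add' := fun _ _ => rfl }
    exact AddSubgroup.card_dvd_of_injective φ fun w w' e => Subtype.ext (Subtype.ext (congrArg (fun z => z.1) e :))
  have hZ := C.small'
  have hd : ∀ S : Finset C.pact.Orb, ∑ O ∈ S, Nat.card (C.pact.AO O) ≤ C.H.index := fun S =>
    (C.pact.sum_le S).trans (le_of_eq C.card_X)
  have hPls : ∑ O ∈ Pl, Nat.card (C.pact.AO O) = Pl.card * s := by
    rw [Finset.sum_congr rfl fun O hO => (hPl O hO).2.2, Finset.sum_const, smul_eq_mul]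
  have hqk : 1 < q ^ k := Nat.one_lt_pow (by omega) (by omega)
  have hN0 : 0 < N := Nat.mul_pos (by omega) (Nat.add_pos_right _ one_pos)
  have hsfull : s = q ^ k := by
    obtain ⟨j, hj⟩ := hsdvd
    by_contra hne
    have hj2 : 2 ≤ j := by
      rcases Nat.lt_or_ge j 2 with hlt | hge
      · interval_cases j
        · rw [mul_zero] at hj; omega
        · rw [mul_one] at hj; exact absurd hj.symm hne
      · exact hge
    obtain ⟨x, hx⟩ : ∃ x, q ^ k = x + 1 := ⟨q ^ k - 1, by omega⟩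
    rw [hx, Nat.add_sub_cancel] at hcount
    rw [hx] at hbound hj
    refine exc_full (s := s) hN0 (by omega) ?_ hcount (by
      have := Nat.mul_le_mul_left s hj2
      omega) (hPls ▸ hd Pl) hbound
    rw [hN]
    exact (exc_pow_le (by omega) hk23).trans (exc_N_eq (by omega)).ge
  have hPlN : Pl.card = N := by
    rw [hsfull] at hcount
    exact Nat.eq_of_mul_eq_mul_right (by omega) hcount
  -- every other orbit is a single point
  have hother : ∀ O, O ∉ Pl → C.pact.AO O = ⊥ := by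
    intro O hO
    refine eq_bot_iff.2 fun w hw => AddSubgroup.mem_bot.2 ?_
    by_contra hw0
    have hQw : Q w.1 ≠ 0 := fun h => hO (Finset.mem_filter.2
      ⟨Finset.mem_univ _, w, Finset.mem_filter.2 ⟨Finset.mem_univ _, hw0, h⟩, hw⟩)
    have hc := C.pact.count_le (C.cls (Q w.1)) (fun h => (C.mem_cls.1 h).1 rfl) (Finset.univ \ Pl)
    have hfull : ∀ w' ∈ C.cls (Q w.1), ((Finset.univ \ Pl) ∩ C.pact.mem w').card = C.m w' := by
      intro w' hw'
      refine congrArg Finset.card (Finset.inter_eq_right.2 fun O' hO' => ?_)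
      obtain ⟨-, k', hk', e⟩ := C.mem_cls.1 hw'
      refine Finset.mem_sdiff.2 ⟨Finset.mem_univ _, fun h => ?_⟩
      have := (hPl O' h).1.1 w' (C.pact.mem_mem.1 hO')
      rw [e, mul_eq_zero] at this
      exact this.elim (mul_ne_zero hk' hk') hQw
    have hmw : 1 ≤ C.m w := Finset.card_pos.2 ⟨O, C.pact.mem_mem.2 hw⟩
    rw [Finset.sum_congr rfl hfull, Finset.sum_congr rfl (C.m_cls hw0), Finset.sum_const, smul_eq_mul] at hc
    have h1 : (C.cls (Q w.1)).card + Pl.card * s ≤ C.H.index := by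
      have h2 := hd ((Finset.univ \ Pl) ∪ Pl)
      rw [Finset.sum_union Finset.sdiff_disjoint, hPls] at h2
      have := Nat.le_mul_of_pos_right (C.cls (Q w.1)).card hmw
      omega
    rw [hPlN, hsfull] at h1
    obtain ⟨hc1, -⟩ := C.card_cls hQw
    refine exc_other hq hk23 (L := C.L) ?_ hc1 h1 hbound
    rw [L, ← hqdef, ← pow_succ']
    congr 1
    omega
  have hsum : C.H.index = N * q ^ k + (Finset.univ \ Pl).card := by
    rw [← C.card_X, C.pact.card_eq, ← Finset.sum_sdiff (Finset.subset_univ Pl), hPls, hPlN, hsfull, add_comm]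
    congr 1
    rw [Finset.sum_congr rfl fun O hO => by rw [hother O (Finset.mem_sdiff.1 hO).2, AddSubgroup.card_bot],
      Finset.card_eq_sum_ones]
  set f := (Finset.univ \ Pl).card with hf
  -- plane orbits are determined by their spans
  have hspan_mem : ∀ O ∈ Pl, ∀ w : C.W, w.1 ∈ C.spanO O → w ∈ C.pact.AO O := by
    intro O hO w hw
    let φ : C.pact.AO O → C.spanO O := fun z => ⟨z.1.1, C.mem_spanO z.2⟩
    have hbij : Function.Bijective φ := Function.Injective.bijective_of_nat_card_le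
      (fun z z' e => Subtype.ext (Subtype.ext (congrArg (fun t => t.1) e :)))
      (by rw [hUcard O hO, (hPl O hO).2.2, hsfull])
    obtain ⟨z, hz⟩ := hbij.2 ⟨w.1, hw⟩
    have : z.1 = w := Subtype.ext (congrArg (fun t => t.1) hz :)
    exact this ▸ z.2
  have hAOeq : ∀ O ∈ Pl, ∀ O' ∈ Pl, (∀ w, w ∈ C.pact.AO O → w ∈ C.pact.AO O') → O = O' := by
    intro O hO O' hO' hsub
    obtain ⟨w, hw, hwO⟩ := (Finset.mem_filter.1 hO).2
    obtain ⟨-, hw0, hQw⟩ := Finset.mem_filter.1 hw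
    refine (hdata w hw0 hQw).2.1 (C.pact.mem_mem.2 hwO) (C.pact.mem_mem.2 (hsub w hwO)) ?_
    refine Submodule.eq_of_le_of_finrank_le ?_ (by rw [(hPl O hO).2.1, (hPl O' hO').2.1])
    rw [spanO, span_le]
    rintro _ ⟨z, hz, rfl⟩
    exact C.mem_spanO (hsub z hz)
  refine ⟨Pl, hk23, hPlN, fun O hO => (hPl O hO).1, fun O hO => (hPl O hO).2.1,
    fun O hO => (hPl O hO).2.2.trans hsfull, hother, hspan_mem, fun w hw hQ O hO => Finset.mem_filter.2
      ⟨Finset.mem_univ _, w, Finset.mem_filter.2 ⟨Finset.mem_univ _, hw, hQ⟩, hO⟩,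
    fun w hw hQ => (hdata w hw hQ).1, fun O hO O' hsub => ?_,
    hsum.trans (by rw [hf, Finset.card_univ_sdiff]), hbound, ?_⟩
  · obtain ⟨w, hw, hwO⟩ := (Finset.mem_filter.1 hO).2
    exact hAOeq O hO O' (Finset.mem_filter.2 ⟨Finset.mem_univ _, w, hw, hsub w hwO⟩) hsub
  · have h1 := card_Sing (Q := Q)
    have e := C.P.nval_eq (X := ⊤) Submodule.mem_top Submodule.mem_top 0
    rw [top_inf_eq, show Nat.card ↥(Wsub Q C.a C.b) = _ from C.card_W, ← hqdef,
      show Fintype.card ι - 2 = k + 3 by omega] at e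
    rw [h1, e, ← hZeq, Ns]
    obtain ⟨z, hz⟩ : ∃ z, nval Q (Wsub Q C.a C.b) 0 = z + 1 := ⟨_, (Nat.sub_add_cancel C.one_le_nval0).symm⟩
    rw [hz, Nat.add_sub_cancel, mul_add, mul_one, ← hqdef]
    omega

/-- The torus of the pair keeps every plane. -/
theorem Exc.torA_map [Fintype C.pact.Orb] {Pl : Finset C.pact.Orb} (E : Exc C Pl) {c : F} (hc0 : c ≠ 0)
    (hsq : IsSquare c) {O : C.pact.Orb} (hO : O ∈ Pl) : (C.torA hc0 hsq).map O = O := by
  refine (E.inj O hO _ fun w hw => ?_).symm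
  have h1 : c • w ∈ C.pact.AO O := E.full O hO _ (Submodule.smul_mem _ c (C.mem_spanO hw))
  have := (C.torA hc0 hsq).mem_AO.2 h1
  rwa [C.torA_σ, smul_smul, inv_mul_cancel₀ hc0, one_smul] at this

end Ctx

namespace Ctx0

variable (C : Ctx0 Q)

include C

theorem tor_swap {e f : ι → F} (P : Pair Q e f) {c : F} (hc : c ≠ 0) (hsq : IsSquare c) :
    tor Q e f c = tor Q f e c⁻¹ := gext Q fun x => by
  rw [tor_apply C.S P hc hsq, tor_apply C.S P.symm (inv_ne_zero hc) hsq.inv, inv_inv]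
  abel

end Ctx0

namespace Ctx

open Ctx0

variable (C : Ctx Q)

include C

/-- A torus of the complement keeps only planes through an end of its pair. -/
theorem Exc.torW_inv [Fintype C.pact.Orb] {Pl : Finset C.pact.Orb} (E : Exc C Pl) (h : Fintype.card ι = 7)
    {e f' : ι → F} (P : Pair Q e f') (he : e ∈ Wsub Q C.a C.b) (hf' : f' ∈ Wsub Q C.a C.b) {c : F} (hc0 : c ≠ 0)
    (hc1 : c ≠ 1) (hsq : IsSquare c) {O : C.pact.Orb} (hO : O ∈ Pl) (hmap : (C.torW P he hf' hc0 hsq).map O = O) :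
    O ∈ C.pact.mem ⟨e, he⟩ ∨ O ∈ C.pact.mem ⟨f', hf'⟩ := by
  classical
  have hP := E.plane O hO
  have hkO := E.rank O hO
  have hQO := C.spanO_singular hP.1
  have hinv : ∀ u ∈ C.pact.AO O, ((c - 1) * B f' u.1) • e + ((c⁻¹ - 1) * B e u.1) • f' ∈ C.spanO O := by
    intro u hu
    have h1 := (C.torW P he hf' hc0 hsq).mem_AO.2 hu
    rw [hmap] at h1
    have h2 := sub_mem (C.mem_spanO h1) (C.mem_spanO hu)
    rwa [C.torW_σ, add_assoc, add_sub_cancel_left] at h2
  by_cases hall : ∀ u ∈ C.pact.AO O, B e u.1 = 0 ∧ B f' u.1 = 0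
  · exfalso
    -- the span would be a plane of a three-dimensional space
    have hle : C.spanO O ≤ Wsub Q C.a C.b ⊓ Wsub Q e f' := span_le.2 fun _ ⟨u, hu, e⟩ =>
      e ▸ ⟨u.2, mem_Wsub.2 (hall u hu)⟩
    set X := Wsub Q C.a C.b ⊓ Wsub Q e f' with hX
    have dW : Module.finrank F ↥(Wsub Q C.a C.b) + 2 = Fintype.card ι := C.finrank_W
    have d1 := P.finrank_split he hf'
    rw [← hX] at d1
    set T' := span F (Set.range ![C.a, C.b, e, f']) ⊔ C.spanO O with hT'
    have hperp : C.spanO O ≤ HypQuad.perp Q T' := by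
      intro y hy
      rw [hT', HypQuad.mem_perp]
      intro w hw
      obtain ⟨w1, hw1, w2, hw2, rfl⟩ := Submodule.mem_sup.1 hw
      rw [QuadraticMap.polar_add_left, C.polar_spanO hP.1 hw2 hy, add_zero]
      obtain ⟨y1, y2⟩ := Submodule.mem_inf.1 (hle hy)
      refine (HypQuad.mem_perp Q).1 ((mem_perp_range _ _).2 fun i => ?_) w1 hw1
      fin_cases i
      exacts [(mem_Wsub.1 y1).1, (mem_Wsub.1 y1).2, (mem_Wsub.1 y2).1, (mem_Wsub.1 y2).2]
    have h4 : Fintype.card ι ≤ Module.finrank F T' + 1 := by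
      have hdisj : span F (Set.range ![C.a, C.b, e, f']) ⊓ C.spanO O = ⊥ := by
        refine eq_bot_iff.2 fun x hx => ?_
        obtain ⟨hx1, hx2⟩ := hx
        obtain ⟨y1, y2⟩ := Submodule.mem_inf.1 (hle hx2)
        obtain ⟨c1, c2⟩ := mem_Wsub.1 y1
        obtain ⟨c3, c4⟩ := mem_Wsub.1 y2
        rw [SetLike.mem_coe, Submodule.mem_span_range_iff_exists_fun] at hx1
        obtain ⟨co, hco⟩ := hx1
        simp only [Fin.sum_univ_four, Matrix.cons_val_zero, Matrix.cons_val_one, Matrix.cons_val] at hco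
        obtain ⟨a1, b1⟩ := mem_Wsub.1 he
        obtain ⟨a2, b2⟩ := mem_Wsub.1 hf'
        have ea : B e C.a = 0 := by rw [QuadraticMap.polar_comm]; exact a1
        have eb : B e C.b = 0 := by rw [QuadraticMap.polar_comm]; exact b1
        have fa : B f' C.a = 0 := by rw [QuadraticMap.polar_comm]; exact a2
        have fb : B f' C.b = 0 := by rw [QuadraticMap.polar_comm]; exact b2
        simp only [← hco, QuadraticMap.polar_add_right, QuadraticMap.polar_smul_right, C.P.aa, C.P.hab, C.P.bb,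
          C.P.ba, a1, b1, a2, b2, ea, eb, fa, fb, P.aa, P.hab, P.bb, P.ba, smul_eq_mul, mul_zero, mul_one,
          add_zero, zero_add] at c1 c2 c3 c4
        rw [Submodule.mem_bot, ← hco, c1, c2, c3, c4]
        simp
      have h1 := Submodule.finrank_sup_add_finrank_inf_eq (span F (Set.range ![C.a, C.b, e, f'])) (C.spanO O)
      rw [hdisj, finrank_bot, ← hT'] at h1
      have hli : LinearIndependent F ![C.a, C.b, e, f'] := by
        rw [Fintype.linearIndependent_iff]
        intro co hco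
        obtain ⟨a1, b1⟩ := mem_Wsub.1 he
        obtain ⟨a2, b2⟩ := mem_Wsub.1 hf'
        have ea : B e C.a = 0 := by rw [QuadraticMap.polar_comm]; exact a1
        have eb : B e C.b = 0 := by rw [QuadraticMap.polar_comm]; exact b1
        have fa : B f' C.a = 0 := by rw [QuadraticMap.polar_comm]; exact a2
        have fb : B f' C.b = 0 := by rw [QuadraticMap.polar_comm]; exact b2
        simp only [Fin.sum_univ_four, Matrix.cons_val_zero, Matrix.cons_val_one, Matrix.cons_val] at hco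
        have key : ∀ y, B y (co 0 • C.a + co 1 • C.b + co 2 • e + co 3 • f') = 0 := fun y => by
          rw [hco, QuadraticMap.polar_zero_right]
        have k1 := key C.a
        have k2 := key C.b
        have k3 := key e
        have k4 := key f'
        simp only [QuadraticMap.polar_add_right, QuadraticMap.polar_smul_right, C.P.aa, C.P.hab, C.P.bb,
          C.P.ba, a1, b1, a2, b2, ea, eb, fa, fb, P.aa, P.hab, P.bb, P.ba, smul_eq_mul, mul_zero, mul_one,
          add_zero, zero_add] at k1 k2 k3 k4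
        intro i
        fin_cases i <;> assumption
      have h5 := finrank_span_eq_card hli
      rw [Fintype.card_fin] at h5
      omega
    have h2 := Submodule.finrank_mono hperp
    rw [HypQuad.finrank_perp Q C.S.hQ, Module.finrank_fintype_fun_eq_card] at h2
    omega
  · push Not at hall
    obtain ⟨u, hu, hu'⟩ := hall
    have h1 := hinv u hu
    have h2 := (hQO _ h1).1
    rw [QuadraticMap.map_add (f := Q), QuadraticMap.map_smul, QuadraticMap.map_smul, P.ha, P.hb,
      QuadraticMap.polar_smul_left, QuadraticMap.polar_smul_right, P.hab] at h2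
    simp only [smul_eq_mul, mul_zero, zero_add, mul_one, mul_eq_zero, sub_eq_zero, hc1, false_or,
      inv_eq_one] at h2
    have hOmem : ∀ {x : ι → F} (hx : x ∈ Wsub Q C.a C.b) {l : F}, l ≠ 0 → l • x ∈ C.spanO O →
        O ∈ C.pact.mem ⟨x, hx⟩ := by
      intro x hx l hl hlx
      refine C.pact.mem_mem.2 (E.full O hO _ ?_)
      show x ∈ C.spanO O
      rwa [Submodule.smul_mem_iff _ hl] at hlx
    rcases h2 with h2 | h2
    · rw [h2, mul_zero, zero_smul, zero_add] at h1
      refine Or.inr (hOmem hf' (mul_ne_zero ?_ fun hh => hu' hh h2) h1)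
      exact sub_ne_zero.2 fun hh => hc1 (inv_eq_one.1 hh)
    · rw [h2, mul_zero, zero_smul, add_zero] at h1
      exact Or.inl (hOmem he (mul_ne_zero (sub_ne_zero.2 hc1) (hu' h2)) h1)

/-- Dimension seven. -/
theorem seven_false [Fintype C.pact.Orb] {Pl : Finset C.pact.Orb} (E : Exc C Pl) (h : Fintype.card ι = 7) :
    False := by
  classical
  obtain ⟨c, hc0, hc1, hsq⟩ := C.exists_sq
  obtain ⟨e, f', P, he, hf'⟩ := C.exists_pair_W
  obtain ⟨g, hg⟩ := tor_isConj C.S C.P P hc0 hsq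
  have hfix : fixCard (H := C.H) (tor Q e f' c) = fixCard (H := C.H) (tor Q C.a C.b c) := by
    rw [← hg, fixCard_conj]
  rw [C.fixCard_eq, C.fixCard_eq] at hfix
  have hk : Fintype.card ι - 5 = 2 := by omega
  let U := fun O => Nat.card {x : C.X // C.pact.orb x = O ∧ tor Q e f' c • x = x}
  let T := fun O => Nat.card {x : C.X // C.pact.orb x = O ∧ tor Q C.a C.b c • x = x}
  change ∑ O, U O = ∑ O, T O at hfix
  have hT : Pl.card ≤ ∑ O, T O := by
    refine le_trans ?_ (Finset.sum_le_sum_of_subset (Finset.subset_univ Pl))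
    rw [Finset.card_eq_sum_ones]
    exact Finset.sum_le_sum fun O hO => C.torA_fix_ge hc0 hsq O (E.torA_map C hc0 hsq hO)
  let I : Finset C.pact.Orb := C.pact.mem ⟨e, he⟩ ∪ C.pact.mem ⟨f', hf'⟩
  have hUI : ∀ O ∈ Pl, O ∉ I → U O = 0 := by
    intro O hO hOI
    show Nat.card _ = 0
    rw [Finite.card_eq_zero_iff, isEmpty_subtype]
    rintro x ⟨hx, hgx⟩
    refine hOI (Finset.mem_union.2 (E.torW_inv C h P he hf' hc0 hc1 hsq hO ?_))
    rw [← hx, Pact.Compat.map_orb]
    exact congrArg _ hgx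
  have hline : ∀ {x : ι → F} (hx : x ∈ Wsub Q C.a C.b) (O : C.pact.Orb), O ∈ Pl → O ∈ C.pact.mem ⟨x, hx⟩ →
      ∀ l : F, (⟨l • x, Submodule.smul_mem _ l hx⟩ : C.W) ∈ C.pact.AO O := fun hx O hO hOm l =>
    E.full O hO _ (Submodule.smul_mem _ l (C.mem_spanO (C.pact.mem_mem.1 hOm)))
  have hUle : ∀ O ∈ Pl ∩ I, U O ≤ Fintype.card F := by
    intro O hO
    obtain ⟨hO1, hO2⟩ := Finset.mem_inter.1 hO
    have key : U O * Fintype.card F ≤ Fintype.card F ^ 2 := by
      rw [← hk, ← E.card O hO1]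
      rcases Finset.mem_union.1 hO2 with hO2 | hO2
      · exact C.torW_fix_le P he hf' hc0 hc1 hsq O (hline he O hO1 hO2)
      · show Nat.card {x : C.X // C.pact.orb x = O ∧ tor Q e f' c • x = x} * _ ≤ _
        rw [C.tor_swap P hc0 hsq]
        exact C.torW_fix_le P.symm hf' he (inv_ne_zero hc0) (fun hh => hc1 (inv_eq_one.1 hh)) hsq.inv O
          (hline hf' O hO1 hO2)
    rw [pow_two] at key
    exact Nat.le_of_mul_le_mul_right key Fintype.card_pos
  have hUsum : ∑ O ∈ Pl, U O ≤ 2 * (Fintype.card F + 1) * Fintype.card F := by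
    rw [← Finset.sum_inter_add_sum_sdiff Pl I, Finset.sum_eq_zero (s := Pl \ I) (fun O hO => by
      obtain ⟨hO1, hO2⟩ := Finset.mem_sdiff.1 hO
      exact hUI O hO1 hO2), add_zero]
    refine (Finset.sum_le_card_nsmul _ _ _ hUle).trans ?_
    rw [smul_eq_mul]
    refine Nat.mul_le_mul_right _ ((Finset.card_le_card Finset.inter_subset_right).trans
      ((Finset.card_union_le _ _).trans (le_of_eq ?_)))
    rw [E.m_eq _ (fun hh => P.ne (congrArg Subtype.val hh)) P.ha,
      E.m_eq _ (fun hh => P.symm.ne (congrArg Subtype.val hh)) P.hb]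
    omega
  have hUf : ∑ O ∈ Finset.univ \ Pl, U O ≤ (Finset.univ \ Pl).card := by
    rw [Finset.card_eq_sum_ones]
    refine Finset.sum_le_sum fun O hO => ?_
    have := C.card_fix_le_orbit (tor Q e f' c) O
    rw [E.other O (Finset.mem_sdiff.1 hO).2, AddSubgroup.card_bot] at this
    exact this
  rw [← Finset.sum_sdiff (Finset.subset_univ Pl)] at hfix
  refine exc_seven C.hq E.card_Pl.symm.symm (le_rfl.trans (E.card_Pl ▸ hT)) hUf hUsum ?_ hfix.ge
  have hb := E.bound
  have hi := E.index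
  rw [← Finset.card_univ_sdiff Pl] at hi
  rw [hk] at hb hi
  rw [hi, add_mul, show 2 * (2 - 1) = 2 from rfl] at hb
  by_contra hlt
  have h1 := Nat.mul_le_mul_right (Fintype.card F - 1) (Nat.succ_le_of_lt (not_le.1 hlt))
  have hq := C.hq
  obtain ⟨r, hr⟩ : ∃ r, Fintype.card F = r + 1 := ⟨Fintype.card F - 1, by omega⟩
  have h2 : (Finset.univ \ Pl).card * (Fintype.card F - 1) + 1 < Fintype.card F ^ 2 := by omega
  rw [hr, Nat.add_sub_cancel] at h1 h2
  nlinarith

/-- A torus of the complement fixes many points of a plane through an end of its pair. -/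
theorem Exc.fix_low [Fintype C.pact.Orb] {Pl : Finset C.pact.Orb} (E : Exc C Pl) (h : Fintype.card ι = 8)
    {x y : ι → F} (Px : Pair Q x y) (hx : x ∈ Wsub Q C.a C.b) (hy : y ∈ Wsub Q C.a C.b) {l : F} (hl : l ≠ 0)
    (hlsq : IsSquare l) {O : C.pact.Orb} (hO : O ∈ Pl) (hOm : O ∈ C.pact.mem ⟨x, hx⟩) :
    Fintype.card F ^ 2 ≤ Nat.card {z : C.X // C.pact.orb z = O ∧ tor Q x y l • z = z} := by
  classical
  have := C.hq
  have hxO : x ∈ C.spanO O := C.mem_spanO (C.pact.mem_mem.1 hOm)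
  have hP := E.plane O hO
  have hkO := E.rank O hO
  have hmap : (C.torW Px hx hy hl hlsq).map O = O := by
    refine (E.inj O hO _ fun w hw => ?_).symm
    have hxw : B x w.1 = 0 := C.polar_spanO hP.1 hxO (C.mem_spanO hw)
    set w' : C.W := ⟨w.1 + ((l⁻¹ - 1) * B y w.1) • x, add_mem w.2 (Submodule.smul_mem _ _ hx)⟩ with hw'
    have hw'O : w' ∈ C.pact.AO O :=
      E.full O hO _ (add_mem (C.mem_spanO hw) (Submodule.smul_mem _ _ hxO))
    have := (C.torW Px hx hy hl hlsq).mem_AO.2 hw'O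
    convert this using 1
    refine Subtype.ext ?_
    rw [C.torW_σ]
    show w.1 = w.1 + _ • x + _ • x + _ • y
    simp only [QuadraticMap.polar_add_right, QuadraticMap.polar_smul_right, hxw, Px.aa, Px.ba, smul_eq_mul,
      hw']
    match_scalars <;> field_simp <;> ring
  obtain ⟨z, hz, hz'⟩ := C.torW_fix_ge Px hx hy hl hlsq O hmap
  have hKle : Nat.card {v : C.W // (B x v.1 = 0 ∧ B y v.1 = 0) ∧ v ∈ C.pact.K z} ≤ Fintype.card F ^ 2 := by
    set R := span F (Set.range ![C.a, C.b, y]) ⊔ C.spanO O with hR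
    have hin : ∀ v : C.W, (B x v.1 = 0 ∧ B y v.1 = 0) ∧ v ∈ C.pact.K z → v.1 ∈ HypQuad.perp Q R := by
      rintro v ⟨⟨h1, h2⟩, h3⟩
      rw [hR, HypQuad.mem_perp]
      intro w hw
      obtain ⟨w1, hw1, w2, hw2, rfl⟩ := Submodule.mem_sup.1 hw
      rw [QuadraticMap.polar_add_left, (HypQuad.mem_perp Q).1 ((mem_perp_range _ _).2 fun i => by
        fin_cases i
        exacts [C.aW v, C.bW v, h2]) w1 hw1, zero_add]
      rw [C.pact.mem_K_iff] at h3
      subst hz
      refine C.ψ_sep fun j => ?_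
      have := h3 ⟨j • w2, Submodule.smul_mem _ j (C.spanO_le_W _ hw2)⟩
        (E.full _ hO _ (Submodule.smul_mem _ j hw2))
      change C.ψ (B v.1 (j • w2)) = 1 at this
      rwa [QuadraticMap.polar_smul_right, smul_eq_mul, QuadraticMap.polar_comm] at this
    have hdim : Module.finrank F (HypQuad.perp Q R) ≤ 2 := by
      obtain ⟨a2, b2⟩ := mem_Wsub.1 hy
      have ya : B y C.a = 0 := by rw [QuadraticMap.polar_comm]; exact a2
      have yb : B y C.b = 0 := by rw [QuadraticMap.polar_comm]; exact b2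
      obtain ⟨a1, b1⟩ := mem_Wsub.1 hx
      have xa : B x C.a = 0 := by rw [QuadraticMap.polar_comm]; exact a1
      have xb : B x C.b = 0 := by rw [QuadraticMap.polar_comm]; exact b1
      have hli : LinearIndependent F ![C.a, C.b, y] := by
        rw [Fintype.linearIndependent_iff]
        intro co hco
        simp only [Fin.sum_univ_three, Matrix.cons_val_zero, Matrix.cons_val_one, Matrix.cons_val] at hco
        have key : ∀ t, B t (co 0 • C.a + co 1 • C.b + co 2 • y) = 0 := fun t => by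
          rw [hco, QuadraticMap.polar_zero_right]
        have k1 := key C.a
        have k2 := key C.b
        have k3 := key x
        simp only [QuadraticMap.polar_add_right, QuadraticMap.polar_smul_right, C.P.aa, C.P.hab, C.P.bb,
          C.P.ba, a2, b2, xa, xb, Px.hab, smul_eq_mul, mul_zero, mul_one, add_zero, zero_add] at k1 k2 k3
        intro i
        fin_cases i <;> assumption
      have hdisj : span F (Set.range ![C.a, C.b, y]) ⊓ C.spanO O = ⊥ := by
        refine eq_bot_iff.2 fun t ht => ?_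
        obtain ⟨ht1, ht2⟩ := ht
        obtain ⟨c1, c2⟩ := mem_Wsub.1 (C.spanO_le_W O ht2)
        have c3 := C.polar_spanO hP.1 hxO ht2
        rw [SetLike.mem_coe, Submodule.mem_span_range_iff_exists_fun] at ht1
        obtain ⟨co, hco⟩ := ht1
        simp only [Fin.sum_univ_three, Matrix.cons_val_zero, Matrix.cons_val_one, Matrix.cons_val] at hco
        simp only [← hco, QuadraticMap.polar_add_right, QuadraticMap.polar_smul_right, C.P.aa, C.P.hab, C.P.bb,
          C.P.ba, a2, b2, xa, xb, Px.hab, smul_eq_mul, mul_zero, mul_one, add_zero, zero_add] at c1 c2 c3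
        rw [Submodule.mem_bot, ← hco, c1, c2, c3]
        simp
      have h1 := Submodule.finrank_sup_add_finrank_inf_eq (span F (Set.range ![C.a, C.b, y])) (C.spanO O)
      rw [hdisj, finrank_bot, ← hR] at h1
      have h5 := finrank_span_eq_card hli
      rw [Fintype.card_fin] at h5
      rw [HypQuad.finrank_perp Q C.S.hQ, Module.finrank_fintype_fun_eq_card]
      omega
    refine (Nat.card_le_card_of_injective
      (fun v : {v : C.W // (B x v.1 = 0 ∧ B y v.1 = 0) ∧ v ∈ C.pact.K z} =>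
        (⟨v.1.1, hin v.1 v.2⟩ : HypQuad.perp Q R))
      fun v v' e => Subtype.ext (Subtype.ext (congrArg (fun t : HypQuad.perp Q R => (t : ι → F)) e))).trans ?_
    rw [Module.natCard_eq_pow_finrank (K := F), Nat.card_eq_fintype_card]
    exact Nat.pow_le_pow_right (by omega) hdim
  rw [h, show 8 - 4 = 2 + 2 from rfl, pow_add] at hz'
  exact Nat.le_of_mul_le_mul_right (hz'.trans (Nat.mul_le_mul_left _ hKle)) (pow_pos (by omega) _)

/-- Dimension eight. -/
theorem eight_false [Fintype C.pact.Orb] {Pl : Finset C.pact.Orb} (E : Exc C Pl) (h : Fintype.card ι = 8) :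
    False := by
  classical
  have hq := C.hq
  have hk : Fintype.card ι - 5 = 3 := by omega
  have hb := E.bound
  have hi := E.index
  rw [← Finset.card_univ_sdiff Pl] at hi
  rw [hk] at hb hi
  rw [show 2 * (3 - 1) = 4 from rfl] at hb
  have hN := exc_N_eq (q := Fintype.card F) (by omega)
  set N := (Fintype.card F + 1) * (Fintype.card F ^ 2 + 1) with hNdef
  set f := (Finset.univ \ Pl).card with hf
  have hfN : f < N := by
    rw [hi, add_mul] at hb
    by_contra hlt
    have h1 := Nat.mul_le_mul_right (Fintype.card F - 1) (not_lt.1 hlt)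
    omega
  by_cases hf0 : f = 0
  · obtain ⟨c, hc0, hc1, hsq⟩ := C.exists_sq
    obtain ⟨e, f', P, he, hf'⟩ := C.exists_pair_W
    obtain ⟨g, hg⟩ := tor_isConj C.S C.P P hc0 hsq
    have hfix : fixCard (H := C.H) (tor Q e f' c) = fixCard (H := C.H) (tor Q C.a C.b c) := by
      rw [← hg, fixCard_conj]
    rw [C.fixCard_eq, C.fixCard_eq] at hfix
    have hempty : (Finset.univ : Finset C.pact.Orb) = Pl := (Finset.eq_of_subset_of_card_le
      (Finset.subset_univ Pl) (by rw [← Finset.card_sdiff_add_card_eq_card (Finset.subset_univ Pl), ← hf, hf0, zero_add])).symm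
    rw [hempty] at hfix
    let U := fun O => Nat.card {x : C.X // C.pact.orb x = O ∧ tor Q e f' c • x = x}
    let T := fun O => Nat.card {x : C.X // C.pact.orb x = O ∧ tor Q C.a C.b c • x = x}
    change ∑ O ∈ Pl, U O = ∑ O ∈ Pl, T O at hfix
    have hT : ∑ O ∈ Pl, T O ≤ N := by
      rw [hNdef, ← E.card_Pl, Finset.card_eq_sum_ones]
      exact Finset.sum_le_sum fun O hO =>
        C.torA_fix_le hc0 hc1 hsq O fun l w hw => E.full O hO _ (Submodule.smul_mem _ l (C.mem_spanO hw))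
    have heW : (⟨e, he⟩ : C.W) ≠ 0 := fun hh => P.ne (congrArg Subtype.val hh)
    have hfW : (⟨f', hf'⟩ : C.W) ≠ 0 := fun hh => P.symm.ne (congrArg Subtype.val hh)
    have hsub1 : C.pact.mem ⟨e, he⟩ ⊆ Pl := fun O hO => E.mem_Pl _ heW P.ha O (C.pact.mem_mem.1 hO)
    have hsub2 : C.pact.mem ⟨f', hf'⟩ ⊆ Pl := fun O hO => E.mem_Pl _ hfW P.hb O (C.pact.mem_mem.1 hO)
    have hdisj : Disjoint (C.pact.mem ⟨e, he⟩) (C.pact.mem ⟨f', hf'⟩) := by
      refine Finset.disjoint_left.2 fun O hO hO' => ?_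
      have := C.polar_spanO (E.plane O (hsub1 hO)).1 (C.mem_spanO (C.pact.mem_mem.1 hO))
        (C.mem_spanO (C.pact.mem_mem.1 hO'))
      rw [P.hab] at this
      exact one_ne_zero this
    have hU : 2 * (Fintype.card F + 1) * Fintype.card F ^ 2 ≤ ∑ O ∈ Pl, U O := by
      refine le_trans ?_ (Finset.sum_le_sum_of_subset (Finset.union_subset hsub1 hsub2))
      refine le_trans ?_ (Finset.card_nsmul_le_sum _ _ (Fintype.card F ^ 2) fun O hO => ?_)
      · rw [smul_eq_mul, Finset.card_union_of_disjoint hdisj, E.m_eq _ heW P.ha, E.m_eq _ hfW P.hb]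
        exact le_of_eq (by ring)
      · rcases Finset.mem_union.1 hO with hO | hO
        · exact E.fix_low C h P he hf' hc0 hsq (hsub1 hO) hO
        · show _ ≤ Nat.card {x : C.X // C.pact.orb x = O ∧ tor Q e f' c • x = x}
          rw [C.tor_swap P hc0 hsq]
          exact E.fix_low C h P.symm hf' he (inv_ne_zero hc0) hsq.inv (hsub2 hO) hO
    have h1 := hU.trans (hfix.le.trans hT)
    rw [hNdef] at h1
    nlinarith
  · -- a nonzero number of fixed points does not divide the incidences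
    obtain ⟨x0, hinc⟩ := C.incidence C.Fx fun g u x hu hh => C.Fx_map g hu hh
    have hfx : Nat.card {x // C.Fx C.a x} = f := by
      rw [Nat.card_congr (Equiv.subtypeEquivRight fun x => C.Fx_a_iff), hf, ← Nat.card_eq_finsetCard]
      refine Nat.card_congr (Equiv.ofBijective (fun x => ⟨C.pact.orb x.1, Finset.mem_sdiff.2 ⟨Finset.mem_univ _,
        fun hh => ?_⟩⟩) ⟨fun x y e => ?_, fun O => ?_⟩)
      · have h1 := C.two_le_span (E.plane _ hh)
        have h2 : C.spanO (C.pact.orb x.1) ≤ ⊥ := span_le.2 fun _ ⟨u, hu, e⟩ => by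
          rw [SetLike.mem_coe, C.pact.AO_orb, x.2, AddSubgroup.mem_bot] at hu
          rw [← e, hu]
          exact (⊥ : Submodule F (ι → F)).zero_mem
        have := Submodule.finrank_mono h2
        rw [finrank_bot] at this
        omega
      · obtain ⟨v, hv⟩ := C.pact.orb_eq.1 (congrArg Subtype.val e)
        refine Subtype.ext ?_
        rw [← hv]
        exact (C.pact.mem_K.1 ((C.pact.A_eq_bot_iff.1 x.2).ge (AddSubgroup.mem_top v))).symm
      · obtain ⟨x, hx⟩ := C.pact.orb_surj O.1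
        exact ⟨⟨x, by rw [← C.pact.AO_orb, hx]; exact E.other _ (Finset.mem_sdiff.1 O.2).2⟩, Subtype.ext hx⟩
    rw [hfx] at hinc
    set r := Nat.card {v : Sing Q // C.Fx v.1 x0}
    obtain ⟨r', hr'⟩ : Fintype.card F - 1 ∣ r := by
      have := dvd_card_cone (fun v : ι → F => (v ≠ 0 ∧ Q v = 0) ∧ C.Fx v x0) (fun v hv => hv.1.1)
        (fun c v hc hv => ⟨⟨smul_ne_zero hc hv.1.1, by rw [QuadraticMap.map_smul, hv.1.2, smul_zero]⟩,
          C.Fx_scale hv.1.2 hc hv.2⟩)
      rwa [← Nat.card_congr (Equiv.subtypeSubtypeEquivSubtypeInter (fun v : ι → F => v ≠ 0 ∧ Q v = 0)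
        (fun v => C.Fx v x0))] at this
    have hZ := E.sing
    rw [hk, show 2 * (3 - 1) = 4 from rfl, ← hNdef] at hZ
    have hZc : Nat.card (Sing Q) = (Fintype.card F - 1) * (N * (Fintype.card F ^ 3 + 1)) := by
      rw [mul_add, mul_add, mul_one, mul_comm (Fintype.card F - 1) (N * _), mul_comm (Fintype.card F - 1) N]
      omega
    rw [hZc, hr', hi] at hinc
    refine exc_eight hq hNdef (Nat.pos_of_ne_zero hf0) hfN (r := r') ?_
    refine Nat.eq_of_mul_eq_mul_left (show 0 < Fintype.card F - 1 by omega) ?_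
    rw [← mul_assoc, mul_comm (Fintype.card F - 1), mul_assoc, hinc, mul_assoc]

/-- No exceptional configuration below the number of points. -/
theorem exceptional_false [Fintype C.pact.Orb] {O0 : C.pact.Orb} (h0 : C.IsPlane O0) : False := by
  obtain ⟨Pl, E⟩ := C.exc_data h0
  rcases (C.plane_data h0).1 with h | h
  · exact C.seven_false E h
  · exact C.eight_false E h

end Ctx

end Cfsg.Lib.Known.MinIndexO
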