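import Mathlib

/-!
An abelian group with a nondegenerate pairing acting on a finite set: every orbit carries the perp of its stabiliser,
a subgroup whose order is the length of the orbit.
-/

set_option autoImplicit false
set_option linter.unusedSectionVars false
set_option linter.style.haveILetI false

namespace Cfsg.Lib.Known.MinIndexO

universe u v

variable {W : Type u} [AddCommGroup W] {X : Type v}

/-- An action of `W` on `X` together with a symmetric nondegenerate pairing of `W` into the complex numbers. -/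
structure Pact (W : Type u) [AddCommGroup W] (X : Type v) where
  f : W → X → X
  f_zero : ∀ x, f 0 x = x
  f_add : ∀ v w x, f (v + w) x = f v (f w x)
  χ : W → W → ℂ
  χ_zero : ∀ v, χ v 0 = 1
  χ_add : ∀ v w w', χ v (w + w') = χ v w * χ v w'
  χ_comm : ∀ v w, χ v w = χ w v
  χ_nd : ∀ w, (∀ v, χ v w = 1) → w = 0

namespace Pact

variable (P : Pact W X)

theorem χ_add_left (v v' w : W) : P.χ (v + v') w = P.χ v w * P.χ v' w := by
  rw [P.χ_comm, P.χ_add, P.χ_comm w v, P.χ_comm w v']

theorem χ_zero_left (w : W) : P.χ 0 w = 1 := by rw [P.χ_comm, P.χ_zero]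

theorem χ_ne (v w : W) : P.χ v w ≠ 0 := fun h => by
  have := P.χ_add v w (-w)
  rw [add_neg_cancel, P.χ_zero, h, zero_mul] at this
  exact one_ne_zero this

theorem f_neg (v : W) (x : X) : P.f (-v) (P.f v x) = x := by rw [← P.f_add, neg_add_cancel, P.f_zero]

/-- The character of a vector. -/
def charOf (w : W) : AddChar W ℂ where
  toFun v := P.χ v w
  map_zero_eq_one' := P.χ_zero_left w
  map_add_eq_mul' v v' := P.χ_add_left v v' w

theorem charOf_inj : Function.Injective P.charOf := fun w w' e => by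
  refine sub_eq_zero.1 (P.χ_nd _ fun v => ?_)
  have h1 := P.χ_add v (w - w') w'
  rw [sub_add_cancel] at h1
  have h2 : P.χ v w = P.χ v w' := DFunLike.congr_fun e v
  refine mul_right_cancel₀ (P.χ_ne v w') ?_
  rw [← h1, one_mul, h2]

theorem charOf_surj [Finite W] : Function.Surjective P.charOf := by
  have := Fintype.ofFinite W
  refine (P.charOf_inj.bijective_of_nat_card_le (le_of_eq ?_)).2
  rw [Nat.card_eq_fintype_card, Nat.card_eq_fintype_card, AddChar.card_eq]

/-- The perp of a subgroup. -/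
def perp (K : AddSubgroup W) : AddSubgroup W where
  carrier := {w | ∀ v ∈ K, P.χ v w = 1}
  zero_mem' := fun v _ => P.χ_zero v
  add_mem' := fun {w w'} h h' v hv => by rw [P.χ_add, h v hv, h' v hv, one_mul]
  neg_mem' := fun {w} h v hv => by
    have := P.χ_add v w (-w)
    rw [add_neg_cancel, P.χ_zero, h v hv, one_mul] at this
    exact this.symm

theorem mem_perp {K : AddSubgroup W} {w : W} : w ∈ P.perp K ↔ ∀ v ∈ K, P.χ v w = 1 := Iff.rfl

/-- A perp vector as a character of the quotient. -/
noncomputable def quotChar (K : AddSubgroup W) (w : P.perp K) : AddChar (W ⧸ K) ℂ :=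
  AddChar.toAddMonoidHomEquiv.symm (QuotientAddGroup.lift K (AddChar.toAddMonoidHomEquiv (P.charOf w.1))
    fun φ hφ => by
      rw [AddMonoidHom.mem_ker]
      exact congrArg Additive.ofMul (w.2 φ hφ))

theorem quotChar_apply (K : AddSubgroup W) (w : P.perp K) (v : W) : P.quotChar K w (QuotientAddGroup.mk v) = P.χ v w.1 :=
  rfl

theorem quotChar_bij [Finite W] (K : AddSubgroup W) : Function.Bijective (P.quotChar K) := by
  refine ⟨fun w w' e => Subtype.ext (P.charOf_inj (DFunLike.ext _ _ fun v => ?_)), fun ψ => ?_⟩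
  · exact DFunLike.congr_fun e (QuotientAddGroup.mk v)
  · obtain ⟨w, hw⟩ := P.charOf_surj (ψ.compAddMonoidHom (QuotientAddGroup.mk' K))
    have hw' : ∀ v, P.χ v w = ψ (QuotientAddGroup.mk v) := fun v => DFunLike.congr_fun hw v
    refine ⟨⟨w, fun v hv => ?_⟩, DFunLike.ext _ _ fun x => ?_⟩
    · rw [hw', (QuotientAddGroup.eq_zero_iff v).2 hv, AddChar.map_zero_eq_one]
    · induction x using QuotientAddGroup.induction_on with
      | H v => exact hw' v

theorem card_perp [Finite W] (K : AddSubgroup W) : Nat.card (P.perp K) = K.index := by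
  have := Fintype.ofFinite (W ⧸ K)
  rw [Nat.card_congr (Equiv.ofBijective _ (P.quotChar_bij K)), AddSubgroup.index, Nat.card_eq_fintype_card,
    Nat.card_eq_fintype_card, AddChar.card_eq]

theorem mem_of_perp [Finite W] {K : AddSubgroup W} {v : W} (h : ∀ w ∈ P.perp K, P.χ v w = 1) : v ∈ K := by
  by_contra hv
  obtain ⟨ψ, hψ⟩ := AddChar.exists_apply_ne_zero.2
    (show (QuotientAddGroup.mk v : W ⧸ K) ≠ 0 from fun e => hv ((QuotientAddGroup.eq_zero_iff v).1 e))
  obtain ⟨w, rfl⟩ := (P.quotChar_bij K).2 ψ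
  exact hψ (h w.1 w.2)

/-- The stabiliser of a point. -/
def K (x : X) : AddSubgroup W where
  carrier := {v | P.f v x = x}
  zero_mem' := P.f_zero x
  add_mem' := fun {v w} hv hw => by
    show P.f (v + w) x = x
    rw [P.f_add, show P.f w x = x from hw, show P.f v x = x from hv]
  neg_mem' := fun {v} hv => by
    show P.f (-v) x = x
    conv_lhs => rw [← show P.f v x = x from hv]
    exact P.f_neg v x

theorem mem_K {x : X} {v : W} : v ∈ P.K x ↔ P.f v x = x := Iff.rfl

theorem K_f (v : W) (x : X) : P.K (P.f v x) = P.K x := by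
  ext w
  rw [P.mem_K, P.mem_K, ← P.f_add, add_comm, P.f_add]
  exact ⟨fun h => by simpa [P.f_neg] using congrArg (P.f (-v)) h, fun h => by rw [h]⟩

/-- The perp attached to a point. -/
def A (x : X) : AddSubgroup W := P.perp (P.K x)

theorem A_f (v : W) (x : X) : P.A (P.f v x) = P.A x := by rw [A, A, P.K_f]

theorem mem_K_iff [Finite W] {x : X} {v : W} : v ∈ P.K x ↔ ∀ w ∈ P.A x, P.χ v w = 1 :=
  ⟨fun hv w hw => hw v hv, P.mem_of_perp⟩

theorem A_eq_bot_iff [Finite W] {x : X} : P.A x = ⊥ ↔ P.K x = ⊤ := by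
  constructor
  · intro h
    refine eq_top_iff.2 fun v _ => P.mem_K_iff.2 fun w hw => ?_
    rw [h, AddSubgroup.mem_bot] at hw
    rw [hw, P.χ_zero]
  · intro h
    refine eq_bot_iff.2 fun w hw => AddSubgroup.mem_bot.2 (P.χ_nd w fun v => hw v ?_)
    rw [h]; exact AddSubgroup.mem_top v

/-- Orbits. -/
def setoid : Setoid X where
  r x y := ∃ v, P.f v x = y
  iseqv := ⟨fun x => ⟨0, P.f_zero x⟩, fun {x y} ⟨v, hv⟩ => ⟨-v, by rw [← hv, P.f_neg]⟩,
    fun {x y z} ⟨v, hv⟩ ⟨w, hw⟩ => ⟨w + v, by rw [P.f_add, hv, hw]⟩⟩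

/-- The orbit space. -/
def Orb : Type v := Quotient P.setoid

/-- The orbit of a point. -/
def orb (x : X) : P.Orb := Quotient.mk P.setoid x

theorem orb_eq {x y : X} : P.orb x = P.orb y ↔ ∃ v, P.f v x = y := Quotient.eq (r := P.setoid)

theorem orb_surj : Function.Surjective P.orb := fun O => Quotient.exists_rep O

theorem orb_f (v : W) (x : X) : P.orb (P.f v x) = P.orb x := (P.orb_eq.2 ⟨v, rfl⟩).symm

instance [Finite X] : Finite P.Orb := Finite.of_surjective P.orb P.orb_surj

/-- The perp attached to an orbit. -/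
def AO (O : P.Orb) : AddSubgroup W :=
  Quotient.lift P.A (fun x y h => by obtain ⟨v, rfl⟩ := h; exact (P.A_f v x).symm) O

theorem AO_orb (x : X) : P.AO (P.orb x) = P.A x := rfl

theorem card_fibre [Finite W] (x : X) : Nat.card {y // P.orb y = P.orb x} = Nat.card (P.A x) := by
  rw [A, P.card_perp, AddSubgroup.index]
  let f : W ⧸ P.K x → {y // P.orb y = P.orb x} :=
    Quotient.lift (fun v => ⟨P.f v x, P.orb_f v x⟩) fun v w h => Subtype.ext (by
      have h' := QuotientAddGroup.leftRel_apply.1 h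
      show P.f v x = P.f w x
      rw [show w = v + (-v + w) by abel, P.f_add v, (P.mem_K).1 h'])
  refine (Nat.card_congr (Equiv.ofBijective f ⟨fun v w => ?_, fun y => ?_⟩)).symm
  · induction v using QuotientAddGroup.induction_on with
    | H v =>
      induction w using QuotientAddGroup.induction_on with
      | H w =>
        intro e
        have e' : P.f v x = P.f w x := congrArg Subtype.val e
        refine QuotientAddGroup.eq.2 ((P.mem_K).2 ?_)
        rw [P.f_add, ← e', P.f_neg]
  · obtain ⟨v, hv⟩ := P.orb_eq.1 y.2.symm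
    exact ⟨QuotientAddGroup.mk v, Subtype.ext hv⟩

theorem card_eq [Finite W] [Finite X] [Fintype P.Orb] : Nat.card X = ∑ O : P.Orb, Nat.card (P.AO O) := by
  rw [← Nat.card_congr (Equiv.sigmaFiberEquiv P.orb), Nat.card_sigma]
  refine Finset.sum_congr rfl fun O _ => ?_
  obtain ⟨x, rfl⟩ := P.orb_surj O
  exact P.card_fibre x

theorem sum_le [Finite W] [Finite X] [Fintype P.Orb] (S : Finset P.Orb) :
    ∑ O ∈ S, Nat.card (P.AO O) ≤ Nat.card X := by
  rw [P.card_eq]
  exact Finset.sum_le_sum_of_subset (Finset.subset_univ S)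

open scoped Classical in
/-- Orbits whose perp contains a vector. -/
noncomputable def mem [Fintype P.Orb] (w : W) : Finset P.Orb := Finset.univ.filter fun O => w ∈ P.AO O

theorem mem_mem [Fintype P.Orb] {w : W} {O : P.Orb} : O ∈ P.mem w ↔ w ∈ P.AO O := by
  classical
  simp [mem]

open scoped Classical in
/-- Double counting of incidences of nonzero vectors with perps. -/
theorem count_le [Finite W] [Fintype P.Orb] (D : Finset W) (hD : (0 : W) ∉ D) (S : Finset P.Orb) :
    ∑ w ∈ D, (S ∩ P.mem w).card + S.card ≤ ∑ O ∈ S, Nat.card (P.AO O) := by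
  have e : ∑ w ∈ D, (S ∩ P.mem w).card = ∑ O ∈ S, (D.filter (· ∈ P.AO O)).card := by
    simp only [Finset.card_filter]
    rw [Finset.sum_comm]
    refine Finset.sum_congr rfl fun w _ => ?_
    rw [← Finset.card_filter]
    congr 1
    ext O
    simp [Pact.mem_mem]
  rw [e, Finset.card_eq_sum_ones S, ← Finset.sum_add_distrib]
  refine Finset.sum_le_sum fun O _ => ?_
  have := Fintype.ofFinite W
  rw [Nat.card_eq_fintype_card, Fintype.card_subtype, ← Finset.card_insert_of_notMem (a := (0 : W))]
  · exact Finset.card_le_card fun w hw => by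
      rw [Finset.mem_insert] at hw
      rcases hw with rfl | hw
      · exact Finset.mem_filter.2 ⟨Finset.mem_univ _, zero_mem _⟩
      · exact Finset.mem_filter.2 ⟨Finset.mem_univ _, (Finset.mem_filter.1 hw).2⟩
  · exact fun h => hD (Finset.mem_filter.1 h).1

/-- Transport by a permutation normalising the action. -/
structure Compat where
  g : Equiv.Perm X
  π : W ≃+ W
  σ : W → W
  comm : ∀ v x, g (P.f v x) = P.f (π v) (g x)
  adj : ∀ v w, P.χ (π v) (σ w) = P.χ v w

variable {P}

theorem Compat.mem_K (C : P.Compat) {x : X} {v : W} : C.π v ∈ P.K (C.g x) ↔ v ∈ P.K x := by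
  rw [P.mem_K, P.mem_K, ← C.comm, C.g.apply_eq_iff_eq]

theorem Compat.mem_A (C : P.Compat) {x : X} {w : W} : C.σ w ∈ P.A (C.g x) ↔ w ∈ P.A x := by
  constructor
  · intro h v hv
    rw [← C.adj]
    exact h _ (C.mem_K.2 hv)
  · intro h v hv
    obtain ⟨v, rfl⟩ := C.π.surjective v
    rw [C.adj]
    exact h v (C.mem_K.1 hv)

/-- The induced permutation of orbits. -/
noncomputable def Compat.map (C : P.Compat) : P.Orb ≃ P.Orb :=
  Equiv.ofBijective (Quotient.map (sa := P.setoid) (sb := P.setoid) C.g fun x y h => by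
      obtain ⟨v, rfl⟩ := h
      exact ⟨C.π v, (C.comm v x).symm⟩) ⟨fun O O' => by
    obtain ⟨x, rfl⟩ := P.orb_surj O
    obtain ⟨y, rfl⟩ := P.orb_surj O'
    intro e
    obtain ⟨v, hv⟩ := P.orb_eq.1 (show P.orb (C.g x) = P.orb (C.g y) from e)
    obtain ⟨v, rfl⟩ := C.π.surjective v
    rw [← C.comm, C.g.apply_eq_iff_eq] at hv
    exact P.orb_eq.2 ⟨v, hv⟩, fun O => by
    obtain ⟨x, rfl⟩ := P.orb_surj O
    exact ⟨P.orb (C.g.symm x), show P.orb (C.g (C.g.symm x)) = _ by rw [C.g.apply_symm_apply]⟩⟩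

theorem Compat.map_orb (C : P.Compat) (x : X) : C.map (P.orb x) = P.orb (C.g x) := rfl

theorem Compat.mem_AO (C : P.Compat) {O : P.Orb} {w : W} : C.σ w ∈ P.AO (C.map O) ↔ w ∈ P.AO O := by
  obtain ⟨x, rfl⟩ := P.orb_surj O
  exact C.mem_A

open scoped Classical in
theorem Compat.card_mem [Fintype P.Orb] (C : P.Compat) (w : W) : (P.mem (C.σ w)).card = (P.mem w).card := by
  refine (Finset.card_equiv C.map fun O => ?_).symm
  rw [Pact.mem_mem, Pact.mem_mem, C.mem_AO]

end Pact

end Cfsg.Lib.Known.MinIndexO
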