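import Cfsg.Agent.Known.MinIndexO.Geometry
import Cfsg.Agent.Known.MinIndexO.Orbits

/-!
The Siegel group of a singular point acting on a coset space of `Ω`, and the sizes of the classes of its characters.
-/

set_option autoImplicit false
set_option linter.unusedSectionVars false
set_option linter.style.haveILetI false

open Matrix Submodule

namespace Cfsg.Lib.Known.MinIndexO

open Cfsg.Lib.Classical Cfsg.Lib.Classical.Refl

universe u

variable {F : Type u} [Field F] [Fintype F] {ι : Type} [Fintype ι] [DecidableEq ι]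

/-- A subgroup of small index of `Ω`, and a hyperbolic pair. -/
structure Ctx0 (Q : QuadraticForm F (ι → F)) where
  S : Setting Q
  H : Subgroup (GG Q)
  a : ι → F
  b : ι → F
  P : Pair Q a b
  ψ : AddChar F ℂ
  hψ : ψ.IsPrimitive

/-- A subgroup of index below the number of singular points, over a field with a torus. -/
structure Ctx (Q : QuadraticForm F (ι → F)) extends Ctx0 Q where
  hq : 4 ≤ Fintype.card F
  small : H.index * (Fintype.card F - 1) + 1 < nval Q ⊤ 0

variable {Q : QuadraticForm F (ι → F)}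

set_option quotPrecheck false in
local notation "B" => QuadraticMap.polar (⇑Q)

set_option synthInstance.maxHeartbeats 400000

/-- Shortcut for the action on cosets. -/
noncomputable instance cosetAction (H : Subgroup (GG Q)) : MulAction (GG Q) (GG Q ⧸ H) :=
  MulAction.quotient (GG Q) H

namespace Ctx0

variable (C : Ctx0 Q)

/-- The character space: the complement of the pair. -/
abbrev W : Type u := ↥(Wsub Q C.a C.b)

/-- The points. -/
abbrev X : Type u := GG Q ⧸ C.H

theorem finite_X : Finite C.X := inferInstance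

theorem aW (v : C.W) : B C.a v.1 = 0 := (mem_Wsub.1 v.2).1

theorem bW (v : C.W) : B C.b v.1 = 0 := (mem_Wsub.1 v.2).2

theorem eq_zero_of_perp {w : ι → F} (hw : w ∈ Wsub Q C.a C.b) (h : ∀ v : C.W, B v.1 w = 0) : w = 0 := by
  refine C.S.hQ.1 w fun x => ?_
  show B w x = 0
  obtain ⟨h1, h2⟩ := mem_Wsub.1 hw
  have h3 := h ⟨_, C.P.proj x⟩
  rw [QuadraticMap.polar_comm] at h1 h2 h3
  rw [QuadraticMap.polar_sub_right, QuadraticMap.polar_sub_right, QuadraticMap.polar_smul_right,
    QuadraticMap.polar_smul_right, h1, h2, smul_zero, smul_zero, sub_zero, sub_zero] at h3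
  exact h3

theorem ψ_sep {z : F} (h : ∀ k : F, C.ψ (k * z) = 1) : z = 0 := by
  by_contra hz
  obtain ⟨y, hy⟩ : ∃ y, C.ψ (z * y) ≠ 1 := by
    by_contra hh
    push Not at hh
    exact C.hψ hz (DFunLike.ext _ _ fun y => by rw [AddChar.mulShift_apply, hh]; rfl)
  exact hy (by rw [mul_comm]; exact h y)

/-- The action of the Siegel group with its pairing. -/
noncomputable def pact : Pact C.W C.X where
  f v x := sg Q C.a v.1 • x
  f_zero x := by rw [Submodule.coe_zero, sg_zero C.S C.P.ha, one_smul]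
  f_add v w x := by rw [Submodule.coe_add, sg_add C.S C.P.ha (C.aW v) (C.aW w), mul_smul]
  χ v w := C.ψ (B v.1 w.1)
  χ_zero v := by rw [Submodule.coe_zero, QuadraticMap.polar_zero_right, AddChar.map_zero_eq_one]
  χ_add v w w' := by rw [Submodule.coe_add, QuadraticMap.polar_add_right, AddChar.map_add_eq_mul]
  χ_comm v w := by rw [QuadraticMap.polar_comm]
  χ_nd w h := Subtype.ext (C.eq_zero_of_perp w.2 fun v => C.ψ_sep fun k => by
    have := h (k • v)
    rwa [Submodule.coe_smul, QuadraticMap.polar_smul_left, smul_eq_mul] at this)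

theorem pact_f (v : C.W) (x : C.X) : C.pact.f v x = sg Q C.a v.1 • x := rfl

theorem ac_mem (g : GG Q) {k : F} (hk : k ≠ 0) (ga : ac Q g C.a = k • C.a) (gb : ac Q g C.b = k⁻¹ • C.b)
    {v : ι → F} (hv : v ∈ Wsub Q C.a C.b) : ac Q g v ∈ Wsub Q C.a C.b := by
  obtain ⟨h1, h2⟩ := mem_Wsub.1 hv
  have e1 := ac_polar Q g C.a v
  have e2 := ac_polar Q g C.b v
  rw [ga, QuadraticMap.polar_smul_left, h1, smul_eq_mul, mul_eq_zero, or_iff_right hk] at e1
  rw [gb, QuadraticMap.polar_smul_left, h2, smul_eq_mul, mul_eq_zero, or_iff_right (inv_ne_zero hk)] at e2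
  exact mem_Wsub.2 ⟨e1, e2⟩

/-- An element scaling the pair acts on vectors of the complement. -/
noncomputable def lift (g : GG Q) {k : F} (hk : k ≠ 0) (ga : ac Q g C.a = k • C.a) (gb : ac Q g C.b = k⁻¹ • C.b) :
    C.W →ₗ[F] C.W where
  toFun v := ⟨ac Q g v.1, C.ac_mem g hk ga gb v.2⟩
  map_add' v w := Subtype.ext (ac_add Q g v.1 w.1)
  map_smul' c v := Subtype.ext (ac_smul Q g c v.1)

/-- Transport by an element scaling the pair. -/
noncomputable def compat (g : GG Q) {k : F} (hk : k ≠ 0) (ga : ac Q g C.a = k • C.a)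
    (gb : ac Q g C.b = k⁻¹ • C.b) : C.pact.Compat where
  g := MulAction.toPerm g
  π := AddEquiv.ofBijective (k • C.lift g hk ga gb).toAddMonoidHom (by
    refine Finite.injective_iff_bijective.1 fun v w e => Subtype.ext (ac_inj Q g (smul_right_injective _ hk ?_))
    exact congrArg Subtype.val e)
  σ w := k⁻¹ • C.lift g hk ga gb w
  comm v x := by
    show g • sg Q C.a v.1 • x = sg Q C.a (k • ac Q g v.1) • g • x
    have h0 : B C.a (ac Q g v.1) = 0 := (mem_Wsub.1 (C.ac_mem g hk ga gb v.2)).1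
    rw [← sg_smul C.S C.P.ha h0, ← ga, ← sg_conj C.S g C.P.ha (C.aW v), ← mul_smul, ← mul_smul, inv_mul_cancel_right]
  adj v w := by
    show C.ψ (B (k • ac Q g v.1) (k⁻¹ • ac Q g w.1)) = C.ψ (B v.1 w.1)
    rw [QuadraticMap.polar_smul_left, QuadraticMap.polar_smul_right, ac_polar, smul_smul, mul_inv_cancel₀ hk, one_smul]

theorem Compat_g (g : GG Q) {k : F} (hk : k ≠ 0) (ga : ac Q g C.a = k • C.a) (gb : ac Q g C.b = k⁻¹ • C.b)
    (x : C.X) : (C.compat g hk ga gb).g x = g • x := rfl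

/-- An element fixing the pair gives a transport. -/
noncomputable def compat1 (g : GG Q) (ga : ac Q g C.a = C.a) (gb : ac Q g C.b = C.b) : C.pact.Compat :=
  C.compat g one_ne_zero (by rw [ga, one_smul]) (by rw [gb, inv_one, one_smul])

theorem compat1_σ (g : GG Q) (ga : ac Q g C.a = C.a) (gb : ac Q g C.b = C.b) (w : C.W) :
    ((C.compat1 g ga gb).σ w).1 = ac Q g w.1 := by
  show (1 : F)⁻¹ • ac Q g w.1 = _
  rw [inv_one, one_smul]

/-- Similar vectors are carried into each other. -/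
theorem exists_compat {v w : C.W} (hv : v ≠ 0) (hw : w ≠ 0) {k : F} (hk : k ≠ 0) (h : Q w.1 = k * k * Q v.1) :
    ∃ Γ : C.pact.Compat, Γ.σ v = w := by
  have P' : Pair Q (k⁻¹ • C.a) (k⁻¹⁻¹ • C.b) := ⟨by rw [QuadraticMap.map_smul, C.P.ha, smul_zero],
    by rw [QuadraticMap.map_smul, C.P.hb, smul_zero], by
      rw [QuadraticMap.polar_smul_left, QuadraticMap.polar_smul_right, C.P.hab, smul_eq_mul, smul_eq_mul, mul_one,
        inv_inv, inv_mul_cancel₀ hk]⟩
  obtain ⟨g, ga, gb⟩ := move_pair C.S C.P P'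
  have hk' := inv_ne_zero hk
  set u : C.W := (k⁻¹)⁻¹ • C.lift g hk' ga gb v with hu
  have hQu : Q u.1 = Q w.1 := by
    show Q (k⁻¹⁻¹ • ac Q g v.1) = _
    rw [QuadraticMap.map_smul, ac_val, inv_inv, h, smul_eq_mul]
  have hu0 : u.1 ≠ 0 := fun e => hv (Subtype.ext (ac_inj Q g (by
    have e' : k⁻¹⁻¹ • ac Q g v.1 = 0 := e
    rw [smul_eq_zero, or_iff_right (inv_ne_zero hk')] at e'
    rw [e', Submodule.coe_zero, ac_zero])))
  obtain ⟨g', g1, g2, g3⟩ := move_W C.S C.P u.2 w.2 hu0 (fun e => hw (Subtype.ext e)) hQu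
  refine ⟨C.compat (g' * g) hk' (by rw [ac_mul, ga, ac_smul, g1]) (by rw [ac_mul, gb, ac_smul, g2]), Subtype.ext ?_⟩
  show k⁻¹⁻¹ • ac Q (g' * g) v.1 = w.1
  rw [ac_mul, ← ac_smul]
  exact g3

/-- The number of orbits of a vector. -/
noncomputable def m [Fintype C.pact.Orb] (w : C.W) : ℕ := (C.pact.mem w).card

theorem m_eq [Fintype C.pact.Orb] {v w : C.W} (hv : v ≠ 0) (hw : w ≠ 0) {k : F} (hk : k ≠ 0)
    (h : Q w.1 = k * k * Q v.1) : C.m w = C.m v := by
  obtain ⟨Γ, hΓ⟩ := C.exists_compat hv hw hk h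
  rw [← hΓ]
  exact Γ.card_mem v

theorem card_X : Nat.card C.X = C.H.index := rfl

theorem finrank_W : Module.finrank F C.W + 2 = Fintype.card ι := finrank_Wsub C.P

theorem card_W : Nat.card C.W = Fintype.card F ^ (Fintype.card ι - 2) := by
  rw [Module.natCard_eq_pow_finrank (K := F), Nat.card_eq_fintype_card, ← C.finrank_W, Nat.add_sub_cancel]

/-- A hyperbolic pair inside the complement. -/
theorem exists_pair_W : ∃ e f, Pair Q e f ∧ e ∈ Wsub Q C.a C.b ∧ f ∈ Wsub Q C.a C.b := by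
  have hs := finrank_range_le ![C.a, C.b]
  refine exists_pair_orth C.S (R := ⊥) (fun x hx => ?_) (by rw [finrank_bot]; have := C.S.hn; omega)
  rw [Submodule.mem_bot]
  refine C.eq_zero_of_perp hx.2 fun v => ?_
  exact (HypQuad.mem_perp Q).1 v.2 x hx.1 |> fun h => by rwa [QuadraticMap.polar_comm]

/-- Two hyperbolic pairs inside the complement: bounds on the number of vectors of each value. -/
theorem nval_bounds (r : F) :
    (Fintype.card F - 1) * (Fintype.card F * Fintype.card F ^ (Fintype.card ι - 6) +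
        Fintype.card F ^ (Fintype.card ι - 4)) ≤ nval Q (Wsub Q C.a C.b) r ∧
      nval Q (Wsub Q C.a C.b) r ≤ Fintype.card F * (2 * Fintype.card F - 1) * Fintype.card F ^ (Fintype.card ι - 6) +
        (Fintype.card F - 1) * Fintype.card F ^ (Fintype.card ι - 4) := by
  obtain ⟨e, f, P1, he, hf⟩ := C.exists_pair_W
  set T := span F (Set.range ![C.a, C.b, e, f]) with hT
  have hn := C.S.hn
  have hs : Module.finrank F T ≤ 4 := finrank_range_le _
  have hW2 : ∀ x, x ∈ Wsub Q C.a C.b ⊓ Wsub Q e f ↔ x ∈ HypQuad.perp Q T := fun x => by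
    rw [Submodule.mem_inf, mem_Wsub, mem_Wsub, mem_perp_range]
    simp [Fin.forall_fin_succ, and_assoc]
  obtain ⟨g, h, P2, hg, hh⟩ := exists_pair_orth C.S (W := T) (R := ⊥) (fun x hx => by
    obtain ⟨hx1, hx2⟩ := hx
    obtain ⟨hxW, hxE⟩ := (hW2 x).2 hx2
    rw [Submodule.mem_bot]
    refine C.eq_zero_of_perp hxW fun v => ?_
    have hdec : v.1 = B f v.1 • e + B e v.1 • f + (v.1 - B f v.1 • e - B e v.1 • f) := by module
    obtain ⟨e1, e2⟩ := mem_Wsub.1 hxE
    rw [hdec, QuadraticMap.polar_add_left, QuadraticMap.polar_add_left, QuadraticMap.polar_smul_left,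
      QuadraticMap.polar_smul_left, e1, e2, smul_zero, smul_zero, zero_add, zero_add, QuadraticMap.polar_comm]
    exact (HypQuad.mem_perp Q).1 ((hW2 _).1 ⟨sub_mem (sub_mem v.2 (Submodule.smul_mem _ _ he))
      (Submodule.smul_mem _ _ hf), P1.proj v.1⟩) x hx1)
    (by rw [finrank_bot]; omega)
  rw [← hW2] at hg hh
  have e1 := P1.nval_eq he hf r
  have e2 := P2.nval_eq hg hh r
  have d1 := P1.finrank_split he hf
  have d2 := P2.finrank_split hg hh
  have dW : Module.finrank F ↥(Wsub Q C.a C.b) + 2 = Fintype.card ι := C.finrank_W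
  have hc : ∀ (X : Submodule F (ι → F)) (k : ℕ), Module.finrank F X = k → Nat.card X = Fintype.card F ^ k := by
    intro X k hk
    rw [Module.natCard_eq_pow_finrank (K := F), Nat.card_eq_fintype_card, hk]
  rw [hc _ (Fintype.card ι - 4) (by omega)] at e1
  rw [hc _ (Fintype.card ι - 6) (by omega)] at e2
  have hle : nval Q (Wsub Q C.a C.b ⊓ Wsub Q e f ⊓ Wsub Q g h) r ≤ Fintype.card F ^ (Fintype.card ι - 6) := by
    rw [← hc (Wsub Q C.a C.b ⊓ Wsub Q e f ⊓ Wsub Q g h) _ (by omega)]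
    exact Finite.card_subtype_le _
  obtain ⟨q0, hq0⟩ : ∃ q0, Fintype.card F = q0 + 1 := ⟨Fintype.card F - 1, by have := (Fintype.one_lt_card (α := F)); omega⟩
  rw [e1, e2]
  generalize nval Q (Wsub Q C.a C.b ⊓ Wsub Q e f ⊓ Wsub Q g h) r = z at hle ⊢
  generalize Fintype.card F ^ (Fintype.card ι - 6) = A at hle ⊢
  generalize Fintype.card F ^ (Fintype.card ι - 4) = A' at ⊢
  rw [hq0, show q0 + 1 - 1 = q0 by omega, show 2 * (q0 + 1) - 1 = 2 * q0 + 1 by omega]
  constructor <;> nlinarith [Nat.mul_le_mul_left ((q0 + 1) * (q0 + 1)) hle, Nat.zero_le ((q0 + 1) * ((q0 + 1) * z))]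

/-- The nonzero singular vectors of the complement. -/
noncomputable def Ns : ℕ := nval Q (Wsub Q C.a C.b) 0 - 1

theorem one_le_nval0 : 1 ≤ nval Q (Wsub Q C.a C.b) 0 :=
  have : Nonempty {x : Wsub Q C.a C.b // Q x.1 = 0} := ⟨⟨0, by rw [Submodule.coe_zero, QuadraticMap.map_zero]⟩⟩
  Nat.card_pos

end Ctx0

namespace Ctx

open Ctx0

variable (C : Ctx Q)

/-- The index is below the number of singular points. -/
theorem small' : C.H.index * (Fintype.card F - 1) <
    Fintype.card F * C.Ns + (Fintype.card F - 1) + (Fintype.card F - 1) * Fintype.card F ^ (Fintype.card ι - 2) := by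
  have h := C.small
  have e := C.P.nval_eq (X := ⊤) Submodule.mem_top Submodule.mem_top 0
  rw [top_inf_eq] at e
  rw [e, show Nat.card ↥(Wsub Q C.a C.b) = _ from C.card_W] at h
  obtain ⟨N, hN⟩ : ∃ N, nval Q (Wsub Q C.a C.b) 0 = N + 1 := ⟨_, (Nat.sub_add_cancel C.one_le_nval0).symm⟩
  rw [Ns, hN, Nat.add_sub_cancel]
  rw [hN, mul_add, mul_one] at h
  have := C.hq
  omega

end Ctx

end Cfsg.Lib.Known.MinIndexO
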