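import Cfsg.Agent.Known.OmegaTransitive
import Cfsg.Agent.Classical.Orth.OmegaGen

/-!
Geometry of `Ω`: hyperbolic pairs orthogonal to small subspaces, moves, tori, and the count of vectors of given value.
-/

set_option autoImplicit false
set_option linter.unusedSectionVars false
set_option linter.style.haveILetI false

open Matrix Submodule

namespace Cfsg.Lib.Known.MinIndexO

open Cfsg.Lib.Classical Cfsg.Lib.Classical.Refl

universe u

variable {F : Type u} [Field F] [Fintype F] {ι : Type} [Fintype ι] [DecidableEq ι]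
  (Q : QuadraticForm F (ι → F))

set_option quotPrecheck false in
local notation "B" => QuadraticMap.polar (⇑Q)
local notation "VV" => (ι → F)

/-- The group `Ω`. -/
abbrev GG := ↥(Cfsg.Omega F (⇑Q))

/-- The action on vectors. -/
def ac (g : GG Q) (x : ι → F) : ι → F := mat Q g.1 *ᵥ x

theorem ac_mul (g h : GG Q) (x : VV) : ac Q (g * h) x = ac Q g (ac Q h x) := mulVec_mul Q g.1 h.1 x

theorem ac_one (x : VV) : ac Q 1 x = x := Matrix.one_mulVec x

theorem ac_inv (g : GG Q) (x : VV) : ac Q g⁻¹ (ac Q g x) = x := by rw [← ac_mul, inv_mul_cancel, ac_one]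

theorem ac_inv' (g : GG Q) (x : VV) : ac Q g (ac Q g⁻¹ x) = x := by rw [← ac_mul, mul_inv_cancel, ac_one]

theorem ac_inj (g : GG Q) : Function.Injective (ac Q g) := Function.LeftInverse.injective (ac_inv Q g)

theorem ac_val (g : GG Q) (x : VV) : Q (ac Q g x) = Q x := (mem_iff Q).mp g.1.2 x

theorem ac_polar (g : GG Q) (x y : VV) : B (ac Q g x) (ac Q g y) = B x y := polar_act Q g.1 x y

theorem ac_add (g : GG Q) (x y : VV) : ac Q g (x + y) = ac Q g x + ac Q g y := Matrix.mulVec_add _ _ _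

theorem ac_smul (g : GG Q) (c : F) (x : VV) : ac Q g (c • x) = c • ac Q g x := Matrix.mulVec_smul _ _ _

theorem ac_sub (g : GG Q) (x y : VV) : ac Q g (x - y) = ac Q g x - ac Q g y := Matrix.mulVec_sub _ _ _

theorem ac_zero (g : GG Q) : ac Q g 0 = 0 := Matrix.mulVec_zero _

theorem gext {g h : GG Q} (e : ∀ x, ac Q g x = ac Q h x) : g = h := Subtype.ext (ext_mulVec Q e)

/-- The Siegel transformation as an element of `Ω`. -/
noncomputable def sg (u z : ι → F) : GG Q :=
  @Classical.epsilon _ ⟨1⟩ fun g : GG Q => ∀ x, ac Q g x = siegelMap Q u z x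

/-- The torus element of a hyperbolic pair. -/
noncomputable def tor (a b : ι → F) (c : F) : GG Q :=
  @Classical.epsilon _ ⟨1⟩ fun g : GG Q =>
    ∀ x, ac Q g x = x + ((c - 1) * B b x) • a + ((c⁻¹ - 1) * B a x) • b

/-- The standing hypotheses. -/
structure Setting : Prop where
  hQ : (QuadraticMap.polarBilin Q).Nondegenerate
  hn : 7 ≤ Fintype.card ι

/-- A hyperbolic pair. -/
structure Pair (a b : ι → F) : Prop where
  ha : Q a = 0
  hb : Q b = 0
  hab : B a b = 1

variable {Q}

theorem Pair.symm {a b : VV} (P : Pair Q a b) : Pair Q b a :=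
  ⟨P.hb, P.ha, by rw [QuadraticMap.polar_comm]; exact P.hab⟩

theorem Pair.aa {a b : VV} (P : Pair Q a b) : B a a = 0 := by rw [polar_self_two, P.ha, mul_zero]

theorem Pair.bb {a b : VV} (P : Pair Q a b) : B b b = 0 := P.symm.aa

theorem Pair.ba {a b : VV} (P : Pair Q a b) : B b a = 1 := P.symm.hab

theorem Pair.ne {a b : VV} (P : Pair Q a b) : a ≠ 0 := fun h => by
  have := P.hab
  rw [h, QuadraticMap.polar_zero_left] at this
  exact zero_ne_one this

theorem sg_apply (S : Setting Q) {u z : VV} (hu : Q u = 0) (huz : B u z = 0) (x : VV) :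
    ac Q (sg Q u z) x = siegelMap Q u z x := by
  have h : ∃ g : GG Q, ∀ x, ac Q g x = siegelMap Q u z x :=
    ⟨⟨siegelG Q hu huz, siegelG_mem_omega Q S.hQ (by have := S.hn; omega) hu huz⟩, mat_siegelG Q hu huz⟩
  exact Classical.epsilon_spec h x

theorem sg_add (S : Setting Q) {u z z' : VV} (hu : Q u = 0) (hz : B u z = 0) (hz' : B u z' = 0) :
    sg Q u (z + z') = sg Q u z * sg Q u z' := gext Q fun x => by
  rw [ac_mul, sg_apply S hu hz', sg_apply S hu hz, sg_apply S hu (by rw [QuadraticMap.polar_add_right, hz, hz', add_zero]),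
    siegel_add Q hu hz hz']

theorem sg_zero (S : Setting Q) {u : VV} (hu : Q u = 0) : sg Q u 0 = 1 := gext Q fun x => by
  rw [sg_apply S hu (QuadraticMap.polar_zero_right Q u), ac_one, siegel_zero]

theorem sg_conj (S : Setting Q) (g : GG Q) {u z : VV} (hu : Q u = 0) (hz : B u z = 0) :
    g * sg Q u z * g⁻¹ = sg Q (ac Q g u) (ac Q g z) := gext Q fun x => by
  rw [ac_mul, ac_mul, sg_apply S hu hz, sg_apply S (by rw [ac_val, hu]) (by rw [ac_polar, hz])]
  show mat Q g.1 *ᵥ _ = _
  rw [siegelMap_conj]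
  exact congrArg (siegelMap Q _ _) (ac_inv' Q g x)

theorem sg_shift (S : Setting Q) {u z : VV} (hu : Q u = 0) (hz : B u z = 0) (k : F) :
    sg Q u (z + k • u) = sg Q u z := gext Q fun x => by
  have hu' : B u u = 0 := by rw [polar_self_two, hu, mul_zero]
  have hzu : B z u = 0 := by rw [QuadraticMap.polar_comm]; exact hz
  rw [sg_apply S hu (by rw [QuadraticMap.polar_add_right, QuadraticMap.polar_smul_right, hz, hu', smul_zero, add_zero]),
    sg_apply S hu hz, siegelMap, siegelMap, WittQuad.val_smul_add, hu, hzu, QuadraticMap.polar_add_left,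
    QuadraticMap.polar_smul_left, smul_eq_mul]
  match_scalars <;> ring

theorem sg_smul (S : Setting Q) {u z : VV} (hu : Q u = 0) (hz : B u z = 0) (c : F) :
    sg Q (c • u) z = sg Q u (c • z) := gext Q fun x => by
  rw [sg_apply S (by rw [QuadraticMap.map_smul, hu, smul_zero]) (by rw [QuadraticMap.polar_smul_left, hz, smul_zero]),
    sg_apply S hu (by rw [QuadraticMap.polar_smul_right, hz, smul_zero]), siegelMap, siegelMap,
    QuadraticMap.polar_smul_left, QuadraticMap.polar_smul_left, QuadraticMap.map_smul, smul_eq_mul, smul_eq_mul,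
    smul_eq_mul]
  match_scalars <;> ring

theorem mem_perp_range {k : ℕ} (s : Fin k → ι → F) (x : VV) :
    x ∈ HypQuad.perp Q (span F (Set.range s)) ↔ ∀ i, B (s i) x = 0 := by
  refine ⟨fun h i => (HypQuad.mem_perp Q).1 h _ (subset_span ⟨i, rfl⟩), fun h => (HypQuad.mem_perp Q).2 fun w hw => ?_⟩
  induction hw using Submodule.span_induction with
  | mem y hy => obtain ⟨i, rfl⟩ := hy; exact h i
  | zero => exact QuadraticMap.polar_zero_left Q x
  | add y z _ _ hy hz => rw [QuadraticMap.polar_add_left, hy, hz, add_zero]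
  | smul c y _ hy => rw [QuadraticMap.polar_smul_left, hy, smul_zero]

theorem finrank_range_le {k : ℕ} (s : Fin k → ι → F) : Module.finrank F (span F (Set.range s)) ≤ k :=
  (finrank_range_le_card s).trans_eq (Fintype.card_fin k)

theorem finrank_perp_range (S : Setting Q) {k : ℕ} (s : Fin k → ι → F) :
    Fintype.card ι ≤ Module.finrank F (HypQuad.perp Q (span F (Set.range s))) + k := by
  have h := HypQuad.finrank_perp Q S.hQ (span F (Set.range s))
  rw [Module.finrank_fintype_fun_eq_card] at h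
  have := finrank_range_le s
  omega

/-- A hyperbolic pair orthogonal to `W` as soon as its radical part is small. -/
theorem exists_pair_orth (S : Setting Q) {W R : Submodule F VV} (hR : W ⊓ HypQuad.perp Q W ≤ R)
    (h : Module.finrank F W + Module.finrank F R + 3 ≤ Fintype.card ι) :
    ∃ e f, Pair Q e f ∧ e ∈ HypQuad.perp Q W ∧ f ∈ HypQuad.perp Q W := by
  set X := HypQuad.perp Q W with hX
  obtain ⟨C, hC⟩ := R.exists_isCompl
  have h1 := HypQuad.finrank_perp Q S.hQ W
  rw [Module.finrank_fintype_fun_eq_card] at h1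
  have h2 := Submodule.finrank_add_eq_of_isCompl hC
  rw [Module.finrank_fintype_fun_eq_card] at h2
  have h3 := Submodule.finrank_sup_add_finrank_inf_eq X C
  have h4 := Submodule.finrank_le (X ⊔ C)
  rw [Module.finrank_fintype_fun_eq_card] at h4
  rw [← hX] at h1
  obtain ⟨w, hw, hw0, hQw⟩ := exists_singular Q (X ⊓ C) (by omega)
  obtain ⟨y, hy, hwy⟩ : ∃ y ∈ X, B w y ≠ 0 := by
    by_contra hh
    push Not at hh
    have hwW : w ∈ W := by
      rw [← perp_perp Q S.hQ W, HypQuad.mem_perp]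
      exact fun y hy => by rw [QuadraticMap.polar_comm]; exact hh y hy
    exact hw0 (Submodule.disjoint_def.mp hC.disjoint w (hR ⟨hwW, hw.1⟩) hw.2)
  set c := B w y with hc
  have hww : B w w = 0 := by rw [polar_self_two, hQw, mul_zero]
  refine ⟨w, c⁻¹ • y + (-(c⁻¹ * c⁻¹ * Q y)) • w, ⟨hQw, ?_, ?_⟩, hw.1, add_mem (X.smul_mem _ hy) (X.smul_mem _ hw.1)⟩
  · rw [QuadraticMap.map_add (f := Q), QuadraticMap.map_smul, QuadraticMap.map_smul, hQw,
      QuadraticMap.polar_smul_left, QuadraticMap.polar_smul_right, QuadraticMap.polar_comm (⇑Q) y w, ← hc,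
      smul_eq_mul, smul_eq_mul, smul_eq_mul, smul_eq_mul]
    field_simp
    ring
  · rw [QuadraticMap.polar_add_right, QuadraticMap.polar_smul_right, QuadraticMap.polar_smul_right, hww, ← hc,
      smul_zero, add_zero, smul_eq_mul, inv_mul_cancel₀ hwy]

theorem Pair.value {e f : VV} (P : Pair Q e f) (d : F) : Q (e + d • f) = d :=
  OmegaCls.val_pair P.ha P.hb P.hab d

/-- An isometry agrees on a small subspace with an element of `Ω`. -/
theorem agree (S : Setting Q) {W : Submodule F VV}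
    (hW : ∃ e f, Pair Q e f ∧ e ∈ HypQuad.perp Q W ∧ f ∈ HypQuad.perp Q W)
    (g : Cfsg.isometryGroup F (⇑Q)) : ∃ g' : GG Q, ∀ x ∈ W, ac Q g' x = mat Q g *ᵥ x := by
  obtain ⟨e, f, P, he, hf⟩ := hW
  let Fix : Subgroup (Cfsg.isometryGroup F (⇑Q)) :=
    { carrier := {k | ∀ x ∈ W, mat Q k *ᵥ x = x}
      mul_mem' := fun {a b} ha hb x hx => by rw [mat, mulVec_mul]; exact (congrArg _ (hb x hx)).trans (ha x hx)
      one_mem' := fun x _ => Matrix.one_mulVec x
      inv_mem' := fun {a} ha x hx => by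
        conv_lhs => rw [← ha x hx]
        exact mulVec_inv_cancel Q a x }
  have hd : Fintype.card F ≠ 2 ∨ Fintype.card ι ≠ 4 := Or.inr (by have := S.hn; omega)
  obtain ⟨x, hx, hxg⟩ := OmegaCls.adjust S.hQ hd Fix (fun v hv => by
    have hval : Q (e + Q v • f) = Q v := P.value _
    have hne : Q (e + Q v • f) ≠ 0 := by rw [hval]; exact hv
    refine ⟨refl Q _ hne, fun y hy => ?_, OmegaCls.cls_eq S.hQ hne hv ⟨Q v, by rw [hval]⟩⟩
    refine fix Q _ y ?_
    rw [QuadraticMap.polar_comm]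
    exact (HypQuad.mem_perp Q).1 (add_mem he (Submodule.smul_mem _ _ hf)) y hy) g⁻¹
  refine ⟨⟨x * g⁻¹, hxg⟩⁻¹, fun y hy => ?_⟩
  show mat Q (x * g⁻¹)⁻¹ *ᵥ y = _
  rw [_root_.mul_inv_rev, inv_inv, mat, mulVec_mul]
  exact congrArg _ ((Fix.inv_mem hx) y hy)

theorem iso_agree (S : Setting Q) {W : Submodule F VV}
    (hW : ∃ e f, Pair Q e f ∧ e ∈ HypQuad.perp Q W ∧ f ∈ HypQuad.perp Q W)
    (E : VV ≃ₗ[F] VV) (hE : ∀ x, Q (E x) = Q x) : ∃ g : GG Q, ∀ x ∈ W, ac Q g x = E x := by
  obtain ⟨g, hg⟩ := exists_of_equiv Q E hE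
  obtain ⟨g', hg'⟩ := agree S hW g
  exact ⟨g', fun x hx => (hg' x hx).trans (hg x)⟩

theorem move_sing (S : Setting Q) {u u' : VV} (hu : u ≠ 0) (hu' : u' ≠ 0) (h : Q u = 0) (h' : Q u' = 0) :
    ∃ g : GG Q, ac Q g u = u' := by
  obtain ⟨E, hE, -, hm⟩ := WittQuad.exists_move_fix Q S.hQ ⊥ (a := u) (b := u')
    (by simpa using hu) (by simpa using hu') (by rw [h, h']) (fun w hw => by
      rw [(Submodule.mem_bot F).1 hw, QuadraticMap.polar_zero_left, QuadraticMap.polar_zero_left])
  have hs := finrank_range_le ![u]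
  obtain ⟨g, hg⟩ := iso_agree S (W := span F (Set.range ![u])) (exists_pair_orth S inf_le_left
    (by have := S.hn; omega)) E hE
  exact ⟨g, (hg u (subset_span ⟨0, rfl⟩)).trans hm⟩

theorem move_two (S : Setting Q) {u z u' z' : VV} (hu : u ≠ 0) (hu' : u' ≠ 0) (hz : z ∉ span F {u})
    (hz' : z' ∉ span F {u'}) (h1 : Q u = Q u') (h2 : Q z = Q z') (h3 : B u z = B u' z')
    {R : Submodule F VV} (hR : span F (Set.range ![u, z]) ⊓ HypQuad.perp Q (span F (Set.range ![u, z])) ≤ R)
    (hd : Module.finrank F R + 5 ≤ Fintype.card ι) :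
    ∃ g : GG Q, ac Q g u = u' ∧ ac Q g z = z' := by
  obtain ⟨E, hE, -, hm⟩ := WittQuad.exists_move_fix Q S.hQ ⊥ (a := u) (b := u')
    (by simpa using hu) (by simpa using hu') h1 (fun w hw => by
      rw [(Submodule.mem_bot F).1 hw, QuadraticMap.polar_zero_left, QuadraticMap.polar_zero_left])
  have hp : ∀ x y, B (E x) (E y) = B x y := fun x y => by simp only [QuadraticMap.polar, ← map_add, hE]
  obtain ⟨E', hE', hf, hm'⟩ := WittQuad.exists_move_fix Q S.hQ (span F {u'}) (a := E z) (b := z')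
    (fun h => hz (by
      obtain ⟨c, hc⟩ := mem_span_singleton.1 h
      exact mem_span_singleton.2 ⟨c, E.injective (by rw [map_smul, hm, hc])⟩)) hz' (by rw [hE, h2])
    (fun w hw => by
      obtain ⟨c, rfl⟩ := mem_span_singleton.1 hw
      rw [QuadraticMap.polar_smul_left, QuadraticMap.polar_smul_left, ← h3]
      congr 1
      rw [← hm, hp])
  have hs := finrank_range_le ![u, z]
  obtain ⟨g, hg⟩ := iso_agree S (W := span F (Set.range ![u, z])) (exists_pair_orth S hR (by omega))
    (E.trans E') (fun x => by rw [LinearEquiv.trans_apply, hE', hE])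
  refine ⟨g, ?_, ?_⟩
  · rw [hg u (subset_span ⟨0, rfl⟩), LinearEquiv.trans_apply, hm, hf u' (mem_span_singleton_self u')]
  · rw [hg z (subset_span ⟨1, rfl⟩), LinearEquiv.trans_apply, hm']

theorem Pair.notMem {a b : VV} (P : Pair Q a b) : b ∉ span F ({a} : Set VV) := fun h => by
  obtain ⟨c, hc⟩ := mem_span_singleton.1 h
  have := P.hab
  rw [← hc, QuadraticMap.polar_smul_right, P.aa, smul_zero] at this
  exact zero_ne_one this

theorem move_pair (S : Setting Q) {a b e f : VV} (P : Pair Q a b) (P' : Pair Q e f) :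
    ∃ g : GG Q, ac Q g a = e ∧ ac Q g b = f := by
  refine move_two S P.ne P'.ne P.notMem P'.notMem (by rw [P.ha, P'.ha]) (by rw [P.hb, P'.hb]) (by rw [P.hab, P'.hab])
    (R := ⊥) (fun x hx => ?_) (by rw [finrank_bot]; have := S.hn; omega)
  obtain ⟨hx1, hx2⟩ := hx
  rw [SetLike.mem_coe, mem_perp_range] at hx2
  rw [SetLike.mem_coe, Submodule.mem_span_range_iff_exists_fun] at hx1
  obtain ⟨c, hc⟩ := hx1
  simp only [Fin.sum_univ_two, Matrix.cons_val_zero, Matrix.cons_val_one] at hc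
  have e1 := hx2 0
  have e2 := hx2 1
  simp only [Matrix.cons_val_zero, Matrix.cons_val_one, ← hc, QuadraticMap.polar_add_right,
    QuadraticMap.polar_smul_right, P.aa, P.hab, P.bb, P.ba, smul_eq_mul] at e1 e2
  rw [Submodule.mem_bot, ← hc, show c 1 = 0 by simpa using e1, show c 0 = 0 by simpa using e2]
  simp

/-- The complement of a hyperbolic pair. -/
abbrev Wsub (Q : QuadraticForm F (ι → F)) (a b : ι → F) : Submodule F (ι → F) :=
  HypQuad.perp Q (span F (Set.range ![a, b]))

theorem mem_Wsub {a b x : VV} : x ∈ Wsub Q a b ↔ B a x = 0 ∧ B b x = 0 := by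
  rw [mem_perp_range, Fin.forall_fin_two]
  rfl

theorem Pair.proj {a b : VV} (P : Pair Q a b) (x : VV) : x - B b x • a - B a x • b ∈ Wsub Q a b := by
  rw [mem_Wsub]
  constructor <;>
  simp only [QuadraticMap.polar_sub_right, QuadraticMap.polar_smul_right, P.aa, P.hab, P.bb, P.ba, smul_eq_mul] <;>
  ring

theorem Pair.coord {a b : VV} (P : Pair Q a b) {y : VV} (hy : y ∈ Wsub Q a b) (α β : F) :
    B a (α • a + β • b + y) = β ∧ B b (α • a + β • b + y) = α := by
  obtain ⟨h1, h2⟩ := mem_Wsub.1 hy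
  constructor <;>
  simp only [QuadraticMap.polar_add_right, QuadraticMap.polar_smul_right, P.aa, P.hab, P.bb, P.ba, h1, h2, smul_eq_mul] <;>
  ring

theorem Pair.val_coord {a b : VV} (P : Pair Q a b) {y : VV} (hy : y ∈ Wsub Q a b) (α β : F) :
    Q (α • a + β • b + y) = α * β + Q y := by
  obtain ⟨h1, h2⟩ := mem_Wsub.1 hy
  rw [QuadraticMap.map_add (f := Q), QuadraticMap.map_add (f := Q), QuadraticMap.map_smul, QuadraticMap.map_smul,
    P.ha, P.hb, QuadraticMap.polar_smul_left, QuadraticMap.polar_smul_right, P.hab, QuadraticMap.polar_add_left,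
    QuadraticMap.polar_smul_left, QuadraticMap.polar_smul_left, h1, h2]
  simp only [smul_eq_mul]
  ring

/-- Decomposition of a subspace along a hyperbolic pair inside it. -/
noncomputable def Pair.split {a b : VV} (P : Pair Q a b) {X : Submodule F VV} (ha : a ∈ X) (hb : b ∈ X) :
    X ≃ₗ[F] (F × F) × ↥(X ⊓ Wsub Q a b) where
  toFun x := ((B b x.1, B a x.1), ⟨x.1 - B b x.1 • a - B a x.1 • b,
    sub_mem (sub_mem x.2 (X.smul_mem _ ha)) (X.smul_mem _ hb), P.proj _⟩)
  map_add' x y := by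
    refine Prod.ext (Prod.ext ?_ ?_) (Subtype.ext ?_) <;>
    simp only [Submodule.coe_add, QuadraticMap.polar_add_right, Prod.fst_add, Prod.snd_add]
    module
  map_smul' c x := by
    refine Prod.ext (Prod.ext ?_ ?_) (Subtype.ext ?_) <;>
    simp only [Submodule.coe_smul, QuadraticMap.polar_smul_right, RingHom.id_apply, Prod.smul_fst, Prod.smul_snd]
    module
  invFun p := ⟨p.1.1 • a + p.1.2 • b + p.2.1, add_mem (add_mem (X.smul_mem _ ha) (X.smul_mem _ hb)) p.2.2.1⟩
  left_inv x := Subtype.ext (by show _ • a + _ • b + _ = x.1; module)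
  right_inv p := by
    obtain ⟨h1, h2⟩ := P.coord p.2.2.2 p.1.1 p.1.2
    refine Prod.ext (Prod.ext h2 h1) (Subtype.ext ?_)
    show p.1.1 • a + p.1.2 • b + p.2.1 - B b _ • a - B a _ • b = p.2.1
    rw [h1, h2]
    abel

/-- The number of vectors of value `r` in a subspace. -/
noncomputable def nval (Q : QuadraticForm F (ι → F)) (X : Submodule F (ι → F)) (r : F) : ℕ :=
  Nat.card {x : X // Q x.1 = r}

theorem Pair.nval_eq {a b : VV} (P : Pair Q a b) {X : Submodule F VV} (ha : a ∈ X) (hb : b ∈ X) (r : F) :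
    nval Q X r = Fintype.card F * nval Q (X ⊓ Wsub Q a b) r +
      (Fintype.card F - 1) * Nat.card ↥(X ⊓ Wsub Q a b) := by
  classical
  let X' := X ⊓ Wsub Q a b
  have hsym : ∀ p : (F × F) × X', Q ((P.split ha hb).symm p).1 = p.1.1 * p.1.2 + Q p.2.1 := fun p =>
    P.val_coord p.2.2.2 _ _
  have e1 : {x : X // Q x.1 = r} ≃ {p : (F × F) × X' // p.1.1 * p.1.2 + Q p.2.1 = r} :=
    ((P.split ha hb).toEquiv.symm.subtypeEquiv fun p => by rw [← hsym p]; rfl).symm
  have e2 : {p : (F × F) × X' // p.1.1 * p.1.2 + Q p.2.1 = r} ≃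
      (F × {y : X' // Q y.1 = r}) ⊕ ({α : F // α ≠ 0} × X') :=
    { toFun := fun x => if h : x.1.1.1 = 0 then
          Sum.inl (x.1.1.2, ⟨x.1.2, by have := x.2; rwa [h, zero_mul, zero_add] at this⟩)
        else Sum.inr (⟨x.1.1.1, h⟩, x.1.2)
      invFun := Sum.elim (fun p => ⟨((0, p.1), p.2.1), by rw [zero_mul, zero_add, p.2.2]⟩)
        (fun p => ⟨((p.1.1, (r - Q p.2.1) / p.1.1), p.2), by rw [mul_div_cancel₀ _ p.1.2]; ring⟩)
      left_inv := fun x => by
        obtain ⟨⟨⟨α, β⟩, y⟩, h⟩ := x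
        by_cases hα : α = 0
        · simp [hα]
        · simp only [hα, dite_false, Sum.elim_inr]
          refine Subtype.ext (Prod.ext (Prod.ext rfl ?_) rfl)
          rw [div_eq_iff hα]
          linear_combination -h
      right_inv := fun z => by
        rcases z with ⟨β, y⟩ | ⟨α, y⟩
        · simp
        · simp [α.2] }
  rw [nval, Nat.card_congr (e1.trans e2), Nat.card_sum, Nat.card_prod, Nat.card_prod,
    Nat.card_eq_fintype_card (α := F), Nat.card_eq_fintype_card (α := {α : F // α ≠ 0}),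
    Fintype.card_subtype_compl, Fintype.card_subtype_eq]
  rfl

theorem Pair.finrank_split {a b : VV} (P : Pair Q a b) {X : Submodule F VV} (ha : a ∈ X) (hb : b ∈ X) :
    Module.finrank F X = Module.finrank F ↥(X ⊓ Wsub Q a b) + 2 := by
  rw [(P.split ha hb).finrank_eq, Module.finrank_prod, Module.finrank_prod, Module.finrank_self]
  omega

theorem finrank_Wsub {a b : VV} (P : Pair Q a b) :
    Module.finrank F (Wsub Q a b) + 2 = Fintype.card ι := by
  have h := P.finrank_split (X := ⊤) Submodule.mem_top Submodule.mem_top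
  rw [top_inf_eq, finrank_top, Module.finrank_fintype_fun_eq_card] at h
  exact h.symm

theorem tor_apply (S : Setting Q) {a b : VV} (P : Pair Q a b) {c : F} (hc : c ≠ 0) (hsq : IsSquare c) (x : VV) :
    ac Q (tor Q a b c) x = x + ((c - 1) * B b x) • a + ((c⁻¹ - 1) * B a x) • b := by
  have hne1 : Q (a + (1 : F) • b) ≠ 0 := by rw [P.value]; exact one_ne_zero
  have hnec : Q (a + c • b) ≠ 0 := by rw [P.value]; exact hc
  have hmem : refl Q _ hne1 * refl Q _ hnec ∈ Cfsg.Omega F (⇑Q) := by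
    rw [OmegaCls.omega_iff, map_mul, OmegaCls.cls_eq S.hQ hne1 hnec (by rw [P.value, P.value, one_mul]; exact hsq),
      OmegaCls.cls_sq]
  have h : ∃ g : GG Q, ∀ x, ac Q g x = x + ((c - 1) * B b x) • a + ((c⁻¹ - 1) * B a x) • b := by
    refine ⟨⟨_, hmem⟩, fun x => ?_⟩
    show mat Q _ *ᵥ x = _
    rw [mat, mulVec_mul, coe_refl, coe_refl, mulVec_eq, mulVec_eq, P.value, P.value]
    simp only [QuadraticMap.polar_add_left, QuadraticMap.polar_smul_left, QuadraticMap.polar_sub_right,
      QuadraticMap.polar_smul_right, QuadraticMap.polar_add_right, P.aa, P.hab, P.bb, P.ba, smul_eq_mul]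
    match_scalars <;> field_simp <;> ring
  exact Classical.epsilon_spec h x

theorem tor_conj (S : Setting Q) {a b : VV} (P : Pair Q a b) {c : F} (hc : c ≠ 0) (hsq : IsSquare c) (g : GG Q) :
    g * tor Q a b c * g⁻¹ = tor Q (ac Q g a) (ac Q g b) c := gext Q fun x => by
  have P' : Pair Q (ac Q g a) (ac Q g b) :=
    ⟨by rw [ac_val, P.ha], by rw [ac_val, P.hb], by rw [ac_polar, P.hab]⟩
  rw [ac_mul, ac_mul, tor_apply S P hc hsq, tor_apply S P' hc hsq, ac_add, ac_add, ac_smul, ac_smul, ac_inv']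
  have e : ∀ y, B y (ac Q g⁻¹ x) = B (ac Q g y) x := fun y => by rw [← ac_polar Q g y, ac_inv']
  rw [e, e]

theorem tor_isConj (S : Setting Q) {a b e f : VV} (P : Pair Q a b) (P' : Pair Q e f) {c : F} (hc : c ≠ 0)
    (hsq : IsSquare c) : ∃ g : GG Q, g * tor Q a b c * g⁻¹ = tor Q e f c := by
  obtain ⟨g, g1, g2⟩ := move_pair S P P'
  exact ⟨g, by rw [tor_conj S P hc hsq, g1, g2]⟩

theorem move_W (S : Setting Q) {a b v v' : VV} (P : Pair Q a b) (hv : v ∈ Wsub Q a b) (hv' : v' ∈ Wsub Q a b)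
    (h0 : v ≠ 0) (h0' : v' ≠ 0) (hQv : Q v = Q v') :
    ∃ g : GG Q, ac Q g a = a ∧ ac Q g b = b ∧ ac Q g v = v' := by
  have hnotin : ∀ {w : VV}, w ∈ Wsub Q a b → w ≠ 0 → w ∉ span F (Set.range ![a, b]) := by
    intro w hw hw0 h
    rw [Submodule.mem_span_range_iff_exists_fun] at h
    obtain ⟨c, hc⟩ := h
    simp only [Fin.sum_univ_two, Matrix.cons_val_zero, Matrix.cons_val_one] at hc
    obtain ⟨e1, e2⟩ := mem_Wsub.1 hw
    simp only [← hc, QuadraticMap.polar_add_right, QuadraticMap.polar_smul_right, P.aa, P.hab, P.bb, P.ba,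
      smul_eq_mul] at e1 e2
    exact hw0 (by rw [← hc, show c 1 = 0 by simpa using e1, show c 0 = 0 by simpa using e2]; simp)
  obtain ⟨E, hE, hfix, hm⟩ := WittQuad.exists_move_fix Q S.hQ (span F (Set.range ![a, b]))
    (hnotin hv h0) (hnotin hv' h0') hQv (fun w hw => by
      rw [(HypQuad.mem_perp Q).1 hv w hw, (HypQuad.mem_perp Q).1 hv' w hw])
  set T := span F (Set.range ![a, b, v]) with hT
  have hs : Module.finrank F T ≤ 3 := finrank_range_le ![a, b, v]
  have hR : T ⊓ HypQuad.perp Q T ≤ span F {v} := by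
    rintro x ⟨hx1, hx2⟩
    rw [SetLike.mem_coe, mem_perp_range] at hx2
    rw [SetLike.mem_coe, Submodule.mem_span_range_iff_exists_fun] at hx1
    obtain ⟨c, hc⟩ := hx1
    obtain ⟨e1, e2⟩ := mem_Wsub.1 hv
    simp only [Fin.sum_univ_three, Matrix.cons_val_zero, Matrix.cons_val_one, Matrix.cons_val] at hc
    have f1 : B a x = 0 := hx2 0
    have f2 : B b x = 0 := hx2 1
    simp only [← hc, QuadraticMap.polar_add_right, QuadraticMap.polar_smul_right, P.aa, P.hab, P.bb, P.ba, e1, e2,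
      smul_eq_mul] at f1 f2
    exact mem_span_singleton.2 ⟨c 2, by
      rw [← hc, show c 1 = 0 by simpa using f1, show c 0 = 0 by simpa using f2]; simp⟩
  have h1 : Module.finrank F (span F ({v} : Set VV)) = 1 := finrank_span_singleton h0
  obtain ⟨g, hg⟩ := iso_agree S (exists_pair_orth S hR (by have := S.hn; omega)) E hE
  refine ⟨g, ?_, ?_, ?_⟩
  · rw [hg a (subset_span ⟨0, rfl⟩)]; exact hfix a (subset_span ⟨0, rfl⟩)
  · rw [hg b (subset_span ⟨1, rfl⟩)]; exact hfix b (subset_span ⟨1, rfl⟩)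
  · rw [hg v (subset_span ⟨2, rfl⟩)]; exact hm

end Cfsg.Lib.Known.MinIndexO
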