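import Cfsg.Agent.Known.MinIndexO.Exceptional

/-!
A proper subgroup of the kernel of the spinor norm has index at least the number of singular points.
-/

set_option autoImplicit false
set_option linter.unusedSectionVars false
set_option linter.style.haveILetI false

open Matrix Submodule

namespace Cfsg.Lib.Known.MinIndexO

open Cfsg.Lib.Classical Cfsg.Lib.Classical.Refl

universe u

variable {F : Type u} [Field F] [Fintype F] {ι : Type} [Fintype ι] [DecidableEq ι] {Q : QuadraticForm F (ι → F)}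

set_option quotPrecheck false in
local notation "B" => QuadraticMap.polar (⇑Q)

set_option synthInstance.maxHeartbeats 400000

/-- A root vector with a second argument not orthogonal to a given vector moves its line. -/
theorem root_line {e z x : ι → F} {γ : F} (he : e ≠ 0) (hee : B e e = 0) (hze : B z e = 0)
    (hz : z ∉ span F {e}) (hzz : B z z = 0)
    (h : B e x • z - B z x • e = γ • x) : B e x = 0 ∧ B z x = 0 := by
  have hez : B e z = 0 := by rw [QuadraticMap.polar_comm]; exact hze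
  rcases eq_or_ne γ 0 with rfl | hγ
  · rw [zero_smul, sub_eq_zero] at h
    have h1 : B e x = 0 := by
      by_contra hne
      exact hz (mem_span_singleton.2 ⟨(B e x)⁻¹ * B z x, by rw [mul_smul, ← h, inv_smul_smul₀ hne]⟩)
    rw [h1, zero_smul, eq_comm, smul_eq_zero, or_iff_left he] at h
    exact ⟨h1, h⟩
  · have h1 := congrArg (B e) h
    have h2 := congrArg (B z) h
    simp only [QuadraticMap.polar_sub_right, QuadraticMap.polar_smul_right, hez, hee, hze, hzz, smul_eq_mul,
      mul_zero, sub_zero] at h1 h2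
    exact ⟨(mul_eq_zero.1 h1.symm).resolve_left hγ, (mul_eq_zero.1 h2.symm).resolve_left hγ⟩

namespace Ctx

open Ctx0

variable (C : Ctx Q)

include C

/-- Without planes every perp is everything or lies on a line. -/
theorem shape [Fintype C.pact.Orb] (hnp : ∀ O : C.pact.Orb, ¬ C.IsPlane O) (O : C.pact.Orb) :
    C.pact.AO O = ⊤ ∨ ∃ v : C.W, ∀ u ∈ C.pact.AO O, u.1 ∈ span F {v.1} := by
  by_cases hns : ∃ w ∈ C.pact.AO O, Q w.1 ≠ 0
  · obtain ⟨w, hw, hQ⟩ := hns
    exact (C.nonsing_member hQ hw).imp id fun h => ⟨w, h⟩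
  · push Not at hns
    right
    by_contra hh
    push Not at hh
    obtain ⟨u0, hu0, hu0'⟩ := hh 0
    obtain ⟨u, hu, hu'⟩ := hh u0
    exact hnp O ⟨hns, u0, hu0, u, hu, fun e => hu0' (by rw [e]; exact mem_span_singleton_self _), hu'⟩

end Ctx

namespace Ctx0

variable (C : Ctx0 Q)

include C

/-- A perp on a line has at most `q` elements. -/
theorem card_line {O : C.pact.Orb} {v : C.W} (h : ∀ u ∈ C.pact.AO O, u.1 ∈ span F {v.1}) :
    Nat.card (C.pact.AO O) ≤ Fintype.card F := by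
  refine (Nat.card_le_card_of_injective (β := ↥(span F ({v.1} : Set (ι → F))))
    (fun u : C.pact.AO O => ⟨u.1.1, h u.1 u.2⟩) fun u u' e => Subtype.ext (Subtype.ext (congrArg
      (fun t : ↥(span F ({v.1} : Set (ι → F))) => (t : ι → F)) e))).trans ?_
  rw [Module.natCard_eq_pow_finrank (K := F), Nat.card_eq_fintype_card]
  refine (Nat.pow_le_pow_right Fintype.card_pos ((finrank_span_le_card _).trans ?_)).trans (le_of_eq (pow_one _))
  simp

/-- The points of some orbits. -/
theorem card_pre [Fintype C.pact.Orb] (p : C.pact.Orb → Prop) [DecidablePred p] :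
    Nat.card {x : C.X // p (C.pact.orb x)} = ∑ O ∈ Finset.univ.filter p, Nat.card (C.pact.AO O) := by
  classical
  have := Fintype.ofFinite C.X
  rw [Nat.card_eq_fintype_card, Fintype.card_subtype,
    Finset.card_eq_sum_card_fiberwise (f := C.pact.orb) (t := Finset.univ.filter p)
      (fun x hx => Finset.mem_filter.2 ⟨Finset.mem_univ _, (Finset.mem_filter.1 hx).2⟩)]
  refine Finset.sum_congr rfl fun O hO => ?_
  rw [← C.card_orbit, Nat.card_eq_fintype_card, Fintype.card_subtype, Finset.filter_filter]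
  congr 1
  ext x
  simp only [Finset.mem_filter, Finset.mem_univ, true_and]
  exact ⟨fun h => h.2, fun h => ⟨h ▸ (Finset.mem_filter.1 hO).2, h⟩⟩

/-- A singular vector of the complement not orthogonal to a given vector. -/
theorem exists_sing_nonperp {v : C.W} (hv : v ≠ 0) :
    ∃ z ∈ Wsub Q C.a C.b, Q z = 0 ∧ B z v.1 ≠ 0 := by
  obtain ⟨e, f, P, he, hf⟩ := C.exists_pair_W
  by_cases h1 : B e v.1 = 0
  · by_cases h2 : B f v.1 = 0
    · obtain ⟨y, hy⟩ : ∃ y : C.W, B y.1 v.1 ≠ 0 := by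
        by_contra hh
        push Not at hh
        exact hv (Subtype.ext (C.eq_zero_of_perp v.2 hh))
      have hp := P.proj y.1
      refine ⟨(1 : F) • e + (-Q (y.1 - B f y.1 • e - B e y.1 • f)) • f + (y.1 - B f y.1 • e - B e y.1 • f),
        add_mem (add_mem (Submodule.smul_mem _ _ he) (Submodule.smul_mem _ _ hf))
          (sub_mem (sub_mem y.2 (Submodule.smul_mem _ _ he)) (Submodule.smul_mem _ _ hf)),
        by rw [P.val_coord hp]; ring, ?_⟩
      simpa only [QuadraticMap.polar_add_left, QuadraticMap.polar_sub_left, QuadraticMap.polar_smul_left, h1, h2,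
        smul_zero, add_zero, zero_add, sub_zero] using hy
    · exact ⟨f, hf, P.hb, h2⟩
  · exact ⟨e, he, P.ha, h1⟩

/-- Some orbit has a nontrivial perp. -/
theorem exists_moved [Fintype C.pact.Orb] (hH : C.H ≠ ⊤) : ∃ O : C.pact.Orb, ∃ v ∈ C.pact.AO O, v ≠ 0 := by
  by_contra hh
  push Not at hh
  have hall : ∀ x : C.X, C.Fx C.a x := fun x => C.Fx_a_iff.2 (eq_bot_iff.2 fun v hv =>
    AddSubgroup.mem_bot.2 (hh (C.pact.orb x) v hv))
  obtain ⟨g, hg⟩ := move_sing C.S C.P.ne C.P.symm.ne C.P.ha C.P.hb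
  obtain ⟨x⟩ : Nonempty C.X := ⟨((1 : GG Q) : GG Q ⧸ C.H)⟩
  have hb : C.Fx C.b x := by
    have := C.Fx_map g C.P.ha (hall (g⁻¹ • x))
    rwa [hg, smul_inv_smul] at this
  exact one_ne_zero (C.P.hab.symm.trans (C.Fx_orth hH C.P.ha C.P.hb (hall x) hb))

/-- Some Siegel group acts regularly on an orbit. -/
theorem exists_top [Fintype C.pact.Orb] (hH : C.H ≠ ⊤)
    (hsh : ∀ O : C.pact.Orb, C.pact.AO O = ⊤ ∨ ∃ v : C.W, ∀ u ∈ C.pact.AO O, u.1 ∈ span F {v.1}) :
    ∃ O : C.pact.Orb, C.pact.AO O = ⊤ := by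
  classical
  by_contra hnt
  push Not at hnt
  have := Fintype.ofFinite C.X
  obtain ⟨O, v, hv, hv0⟩ := C.exists_moved hH
  obtain ⟨z, hzW, hQz, hzv⟩ := C.exists_sing_nonperp hv0
  set T := span F (Set.range ![C.a, C.b, z, v.1]) with hT
  have hrad : T ⊓ HypQuad.perp Q T ≤ ⊥ := by
    rintro x ⟨hx1, hx2⟩
    rw [SetLike.mem_coe, mem_perp_range] at hx2
    rw [SetLike.mem_coe, hT, Submodule.mem_span_range_iff_exists_fun] at hx1
    obtain ⟨c, hc⟩ := hx1
    simp only [Fin.sum_univ_four, Matrix.cons_val_zero, Matrix.cons_val_one, Matrix.cons_val] at hc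
    have f1 : B C.a x = 0 := hx2 0
    have f2 : B C.b x = 0 := hx2 1
    have f3 : B z x = 0 := hx2 2
    have f4 : B v.1 x = 0 := hx2 3
    obtain ⟨az, bz⟩ := mem_Wsub.1 hzW
    have za : B z C.a = 0 := by rw [QuadraticMap.polar_comm]; exact az
    have zb : B z C.b = 0 := by rw [QuadraticMap.polar_comm]; exact bz
    have va : B v.1 C.a = 0 := by rw [QuadraticMap.polar_comm]; exact C.aW v
    have vb : B v.1 C.b = 0 := by rw [QuadraticMap.polar_comm]; exact C.bW v
    have zz : B z z = 0 := by rw [polar_self_two, hQz, mul_zero]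
    simp only [← hc, QuadraticMap.polar_add_right, QuadraticMap.polar_smul_right, C.P.aa, C.P.hab, C.P.bb, C.P.ba,
      az, bz, za, zb, va, vb, zz, C.aW v, C.bW v, smul_eq_mul, mul_zero, mul_one, add_zero, zero_add] at f1 f2 f3 f4
    have c3 : c 3 = 0 := (mul_eq_zero.1 f3).resolve_right hzv
    rw [c3, zero_mul, add_zero, mul_eq_zero, QuadraticMap.polar_comm] at f4
    rw [Submodule.mem_bot, ← hc, f1, f2, c3, f4.resolve_right hzv]
    simp
  obtain ⟨e, f, P, he', -⟩ := exists_pair_orth C.S hrad (by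
    rw [finrank_bot]
    have := finrank_range_le ![C.a, C.b, z, v.1]
    rw [← hT] at this
    have := C.S.hn
    omega)
  rw [mem_perp_range] at he'
  have he : e ∈ Wsub Q C.a C.b := mem_Wsub.2 ⟨he' 0, he' 1⟩
  have hze : B z e = 0 := he' 2
  have hez : B e z = 0 := by rw [QuadraticMap.polar_comm]; exact hze
  have hev : B e v.1 = 0 := by rw [QuadraticMap.polar_comm]; exact he' 3
  have hzs : z ∉ span F ({e} : Set (ι → F)) := fun h => by
    obtain ⟨c, rfl⟩ := mem_span_singleton.1 h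
    rw [QuadraticMap.polar_smul_left, hev, smul_zero] at hzv
    exact hzv rfl
  obtain ⟨ae, be⟩ := mem_Wsub.1 he
  obtain ⟨az, bz⟩ := mem_Wsub.1 hzW
  have hea : e ∉ span F ({C.a} : Set (ι → F)) := fun h => by
    obtain ⟨c, rfl⟩ := mem_span_singleton.1 h
    rw [QuadraticMap.polar_smul_right, C.P.ba, smul_eq_mul, mul_one] at be
    exact P.ne (by rw [be, zero_smul])
  have hs : Module.finrank F (span F (Set.range ![C.a, e])) ≤ 2 := finrank_range_le _
  obtain ⟨g, ga, ge⟩ := move_two C.S C.P.ne P.ne hea hzs (by rw [C.P.ha, P.ha]) (by rw [P.ha, hQz])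
    (by rw [ae, hez]) inf_le_left (by have := C.S.hn; omega)
  set u := sg Q C.a e
  set u' := sg Q e z with hu'
  have hconj : g * u * g⁻¹ = u' := by rw [hu', sg_conj C.S g C.P.ha ae, ga, ge]
  have hfix : fixCard (H := C.H) u' = fixCard (H := C.H) u := by rw [← hconj, fixCard_conj]
  have hac : ∀ x, ac Q u' x = x + B e x • z - B z x • e - (Q z * B e x) • e := fun x => by
    rw [hu', sg_apply C.S P.ha hez, siegelMap]
    module
  have hua : ac Q u' C.a = C.a := by
    rw [hac, show B e C.a = 0 by rw [QuadraticMap.polar_comm]; exact ae,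
      show B z C.a = 0 by rw [QuadraticMap.polar_comm]; exact az]
    simp
  have hub : ac Q u' C.b = C.b := by
    rw [hac, show B e C.b = 0 by rw [QuadraticMap.polar_comm]; exact be,
      show B z C.b = 0 by rw [QuadraticMap.polar_comm]; exact bz]
    simp
  have hperp : ∀ x : C.X, u' • x = x → ∀ w ∈ C.pact.A x, B e w.1 = 0 ∧ B z w.1 = 0 := by
    intro x hx w hw
    set Γ := C.compat1 u' hua hub
    have hΓ : Γ.g x = x := hx
    have hσ : Γ.σ w ∈ C.pact.A x := by
      have := (Γ.mem_A (x := x)).2 hw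
      rwa [hΓ] at this
    obtain ⟨w0, hw0⟩ := (hsh (C.pact.orb x)).resolve_left (hnt _)
    obtain ⟨α, hα⟩ := mem_span_singleton.1 (hw0 w hw)
    obtain ⟨β, hβ⟩ := mem_span_singleton.1 (hw0 _ hσ)
    rcases eq_or_ne α 0 with h | h
    · rw [← hα, h, zero_smul, QuadraticMap.polar_zero_right, QuadraticMap.polar_zero_right]
      exact ⟨rfl, rfl⟩
    refine root_line P.ne P.aa hze hzs (by rw [polar_self_two, hQz, mul_zero]) (γ := α⁻¹ * β - 1) ?_
    have h2 : (Γ.σ w).1 = ac Q u' w.1 := C.compat1_σ u' hua hub w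
    rw [← hβ, hac, hQz, zero_mul, zero_smul, sub_zero] at h2
    have h3 : (α⁻¹ * β) • w.1 = β • w0.1 := by
      rw [← hα, smul_smul, mul_right_comm, inv_mul_cancel₀ h, one_mul]
    rw [sub_smul, one_smul, h3, h2]
    abel
  have hu_iff : ∀ x : C.X, u • x = x ↔ ∀ w ∈ C.pact.A x, C.ψ (B e w.1) = 1 := fun x => by
    have := C.pact.mem_K_iff (x := x) (v := (⟨e, he⟩ : C.W))
    rwa [C.pact.mem_K] at this
  have hsub : ∀ x : C.X, u' • x = x → u • x = x := fun x hx =>
    (hu_iff x).2 fun w hw => by rw [(hperp x hx w hw).1, AddChar.map_zero_eq_one]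
  obtain ⟨x, rfl⟩ := C.pact.orb_surj O
  have hxu : u • x = x := (hu_iff x).2 fun w hw => by
    obtain ⟨w0, hw0⟩ := (hsh (C.pact.orb x)).resolve_left (hnt _)
    obtain ⟨α, hα⟩ := mem_span_singleton.1 (hw0 w hw)
    obtain ⟨β, hβ⟩ := mem_span_singleton.1 (hw0 v hv)
    have hβ0 : β ≠ 0 := fun h => hv0 (Subtype.ext (by rw [← hβ, h, zero_smul, Submodule.coe_zero]))
    have : B e w0.1 = 0 := by
      have := hev
      rw [← hβ, QuadraticMap.polar_smul_right, smul_eq_mul, mul_eq_zero] at this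
      exact this.resolve_left hβ0
    rw [← hα, QuadraticMap.polar_smul_right, this, smul_zero, AddChar.map_zero_eq_one]
  have hxu' : ¬ u' • x = x := fun h => hzv (hperp x h v hv).2
  have hlt : Nat.card {y : C.X // u' • y = y} < Nat.card {y : C.X // u • y = y} := by
    rw [Nat.card_eq_fintype_card, Nat.card_eq_fintype_card]
    refine Fintype.card_lt_of_injective_of_notMem
      (fun y : {y : C.X // u' • y = y} => (⟨y.1, hsub _ y.2⟩ : {y : C.X // u • y = y}))
      (fun y y' e => Subtype.ext (congrArg (fun t : {y : C.X // u • y = y} => t.1) e)) (b := ⟨x, hxu⟩) ?_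
    rintro ⟨y, hy⟩
    have e : y.1 = x := congrArg (fun t : {y : C.X // u • y = y} => t.1) hy
    exact hxu' (e ▸ y.2)
  change Nat.card {y : C.X // u' • y = y} = Nat.card {y : C.X // u • y = y} at hfix
  omega

/-- The number of singular vectors of the complement, plus one, is a multiple of `q`. -/
theorem dvd_Ns_succ : Fintype.card F ∣ C.Ns + 1 := by
  rw [Ns, Nat.sub_add_cancel C.one_le_nval0]
  obtain ⟨e, f, P, he, hf⟩ := C.exists_pair_W
  have e1 := P.nval_eq he hf 0
  have d1 := P.finrank_split he hf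
  have dW : Module.finrank F ↥(Wsub Q C.a C.b) + 2 = Fintype.card ι := C.finrank_W
  have hn := C.S.hn
  rw [e1, Module.natCard_eq_pow_finrank (K := F), Nat.card_eq_fintype_card]
  exact Nat.dvd_add (dvd_mul_right _ _) (Dvd.dvd.mul_left (dvd_pow_self _ (by omega)) _)

theorem dvd_Ns : Fintype.card F - 1 ∣ C.Ns := by
  classical
  have := Fintype.ofFinite C.W
  have h := dvd_card_cone (fun v : ι → F => (v ≠ 0 ∧ Q v = 0) ∧ v ∈ Wsub Q C.a C.b) (fun v hv => hv.1.1)
    (fun c v hc hv => ⟨⟨smul_ne_zero hc hv.1.1, by rw [QuadraticMap.map_smul, hv.1.2, smul_zero]⟩,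
      Submodule.smul_mem _ _ hv.2⟩)
  have e : {v : ι → F // (v ≠ 0 ∧ Q v = 0) ∧ v ∈ Wsub Q C.a C.b} ≃ {w : C.W // w ≠ 0 ∧ Q w.1 = 0} :=
    { toFun := fun v => ⟨⟨v.1, v.2.2⟩, fun h => v.2.1.1 (congrArg Subtype.val h), v.2.1.2⟩
      invFun := fun w => ⟨w.1.1, ⟨fun h => w.2.1 (Subtype.ext h), w.2.2⟩, w.1.2⟩
      left_inv := fun _ => rfl
      right_inv := fun _ => rfl }
  rw [Nat.card_congr e, Nat.card_eq_fintype_card, Fintype.card_subtype] at h
  rw [Ns, nval, Nat.card_eq_fintype_card, Fintype.card_subtype,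
    ← Finset.card_erase_of_mem (a := (0 : C.W)) (by simp)]
  convert h using 2
  ext w
  simp

theorem card_Sing_eq : Nat.card (Sing Q) = Fintype.card F * C.Ns + (Fintype.card F - 1) +
    (Fintype.card F - 1) * Fintype.card F ^ (Fintype.card ι - 2) := by
  have h := card_Sing (Q := Q)
  have e := C.P.nval_eq (X := ⊤) Submodule.mem_top Submodule.mem_top 0
  rw [top_inf_eq, show Nat.card ↥(Wsub Q C.a C.b) = _ from C.card_W] at e
  obtain ⟨N, hN⟩ : ∃ N, nval Q (Wsub Q C.a C.b) 0 = N + 1 := ⟨_, (Nat.sub_add_cancel C.one_le_nval0).symm⟩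
  rw [e, hN, mul_add, mul_one] at h
  rw [Ns, hN, Nat.add_sub_cancel]
  have := (Fintype.one_lt_card (α := F))
  omega



/-- The index beside a regular orbit. -/
theorem index_top [Fintype C.pact.Orb] {O0 : C.pact.Orb} [DecidableEq C.pact.Orb] (h0 : C.pact.AO O0 = ⊤) :
    C.H.index = Fintype.card F ^ (Fintype.card ι - 2) +
      ∑ O ∈ Finset.univ.erase O0, Nat.card (C.pact.AO O) := by
  rw [← C.card_X, C.pact.card_eq, ← Finset.add_sum_erase _ _ (Finset.mem_univ O0), h0, AddSubgroup.card_top,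
    C.card_W]

end Ctx0

namespace Ctx

open Ctx0

variable (C : Ctx Q)

include C

variable [Fintype C.pact.Orb] {O0 : C.pact.Orb}

theorem rest_lt [DecidableEq C.pact.Orb] (h0 : C.pact.AO O0 = ⊤) :
    (Fintype.card F - 1) * ∑ O ∈ Finset.univ.erase O0, Nat.card (C.pact.AO O) <
      Fintype.card F * C.Ns + (Fintype.card F - 1) := by
  have h := C.small'
  rw [C.index_top h0, add_mul, mul_comm (Fintype.card F ^ _),
    mul_comm (∑ O ∈ Finset.univ.erase O0, Nat.card (C.pact.AO O))] at h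
  omega

theorem top_unique (h0 : C.pact.AO O0 = ⊤) {O : C.pact.Orb} (h : C.pact.AO O = ⊤) : O = O0 := by
  classical
  by_contra hne
  have h1 := C.rest_lt h0
  have h2 := Finset.single_le_sum (f := fun O => Nat.card (C.pact.AO O)) (fun _ _ => Nat.zero_le _)
    (Finset.mem_erase.2 ⟨hne, Finset.mem_univ O⟩)
  simp only [h, AddSubgroup.card_top, C.card_W, C.pow_sub_two] at h2
  have h3 := C.Ns_up
  have h4 := Nat.mul_le_mul_left (Fintype.card F - 1) h2
  have hq := C.hq
  obtain ⟨r, hr⟩ : ∃ r, Fintype.card F = r + 4 := ⟨Fintype.card F - 4, by omega⟩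
  rw [hr] at h1 h3 h4
  rw [show r + 4 - 1 = r + 3 by omega] at h1 h4
  rw [show (r + 4) ^ 2 + (r + 4) - 1 = r * r + 9 * r + 19 by
    rw [show (r + 4) ^ 2 + (r + 4) = r * r + 9 * r + 19 + 1 by ring, Nat.add_sub_cancel]] at h3
  have h5 := Nat.mul_le_mul_left (r + 4) h3
  nlinarith [C.L_pos]

/-- Vectors of nonzero value lie only in the regular orbit. -/
theorem rest_sing (h0 : C.pact.AO O0 = ⊤) {O : C.pact.Orb} (hO : O ≠ O0) {w : C.W} (hw : w ∈ C.pact.AO O) :
    Q w.1 = 0 := by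
  classical
  by_contra hQ
  have := Fintype.ofFinite C.W
  have hw0 : w ≠ 0 := fun e => hQ (by rw [e, Submodule.coe_zero, QuadraticMap.map_zero])
  have hc := C.pact.count_le (C.cls (Q w.1)) (fun h => (C.mem_cls.1 h).1 rfl) (Finset.univ.erase O0)
  have he : ∀ w' ∈ C.cls (Q w.1), ((Finset.univ.erase O0) ∩ C.pact.mem w').card = C.m w - 1 := fun w' hw' => by
    rw [Finset.erase_inter, Finset.univ_inter, Finset.card_erase_of_mem
      (C.pact.mem_mem.2 (h0 ▸ AddSubgroup.mem_top w')), ← C.m_cls hw0 w' hw', m]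
  rw [Finset.sum_congr rfl he, Finset.sum_const, smul_eq_mul] at hc
  have hm : 1 ≤ C.m w - 1 := by
    have h2 : ({O0, O} : Finset C.pact.Orb).card ≤ (C.pact.mem w).card := Finset.card_le_card fun x hx => by
      rcases Finset.mem_insert.1 hx with rfl | hx
      · exact C.pact.mem_mem.2 (h0 ▸ AddSubgroup.mem_top w)
      · rw [Finset.mem_singleton.1 hx]; exact C.pact.mem_mem.2 hw
    rw [Finset.card_pair (Ne.symm hO)] at h2
    rw [m]
    omega
  have h1 := C.rest_lt h0
  have h2 : (C.cls (Q w.1)).card ≤ ∑ O ∈ Finset.univ.erase O0, Nat.card (C.pact.AO O) := by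
    have := Nat.le_mul_of_pos_right (C.cls (Q w.1)).card hm
    omega
  have h3 := C.Ns_up
  have h4 := Nat.mul_le_mul_left (Fintype.card F - 1) h2
  obtain ⟨hc1, hc2⟩ := C.card_cls hQ
  generalize ∑ O ∈ Finset.univ.erase O0, Nat.card (C.pact.AO O) = R at h1 h4
  generalize (C.cls (Q w.1)).card = c at hc1 hc2 h4
  have hq := C.hq
  have hL := C.L_pos
  rcases em ((2 : F) = 0) with h2' | h2'
  · have h5 := hc2 h2'
    obtain ⟨r, hr⟩ : ∃ r, Fintype.card F = r + 4 := ⟨Fintype.card F - 4, by omega⟩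
    rw [hr] at h1 h3 h4 h5
    rw [show r + 4 - 1 = r + 3 by omega] at h1 h4 h5
    rw [show (r + 4) ^ 2 - 1 = r * r + 8 * r + 15 by
      rw [show (r + 4) ^ 2 = r * r + 8 * r + 15 + 1 by ring, Nat.add_sub_cancel]] at h5
    rw [show (r + 4) ^ 2 + (r + 4) - 1 = r * r + 9 * r + 19 by
      rw [show (r + 4) ^ 2 + (r + 4) = r * r + 9 * r + 19 + 1 by ring, Nat.add_sub_cancel]] at h3
    have h6 := Nat.mul_le_mul_left (r + 3) h5
    have h7 := Nat.mul_le_mul_left (r + 4) h3
    nlinarith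
  · obtain ⟨r, hr⟩ : ∃ r, Fintype.card F = r + 5 := ⟨Fintype.card F - 5, by
      rcases C.two_odd h2' with ⟨k, hk⟩
      omega⟩
    rw [hr] at h1 h3 h4 hc1
    rw [show r + 5 - 1 = r + 4 by omega] at h1 h4 hc1
    rw [show (r + 5) ^ 2 - 1 = r * r + 10 * r + 24 by
      rw [show (r + 5) ^ 2 = r * r + 10 * r + 24 + 1 by ring, Nat.add_sub_cancel]] at hc1
    rw [show (r + 5) ^ 2 + (r + 5) - 1 = r * r + 11 * r + 29 by
      rw [show (r + 5) ^ 2 + (r + 5) = r * r + 11 * r + 29 + 1 by ring, Nat.add_sub_cancel]] at h3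
    have h6 := Nat.mul_le_mul_left (r + 4) hc1
    have h7 := Nat.mul_le_mul_left (r + 5) h3
    nlinarith

/-- The other orbits are single points. -/
theorem rest_bot (hnp : ∀ O : C.pact.Orb, ¬ C.IsPlane O) (h0 : C.pact.AO O0 = ⊤) {O1 : C.pact.Orb} (hO1 : O1 ≠ O0) :
    C.pact.AO O1 = ⊥ := by
  classical
  refine eq_bot_iff.2 fun v hv => AddSubgroup.mem_bot.2 ?_
  by_contra hv0
  have := Fintype.ofFinite C.W
  have := Fintype.ofFinite C.X
  have hQv := C.rest_sing h0 hO1 hv
  let D : Finset C.W := Finset.univ.filter fun w => w ≠ 0 ∧ Q w.1 = 0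
  have hD : D.card = C.Ns := by
    rw [Ns, nval, Nat.card_eq_fintype_card, Fintype.card_subtype,
      ← Finset.card_erase_of_mem (a := (0 : C.W)) (by simp)]
    congr 1
    ext w
    simp [D]
  let S : Finset C.pact.Orb := (Finset.univ.erase O0).filter fun O => C.pact.AO O ≠ ⊥
  have hc := C.pact.count_le D (fun h => (Finset.mem_filter.1 h).2.1 rfl) S
  have hlow : D.card ≤ ∑ w ∈ D, (S ∩ C.pact.mem w).card := by
    rw [Finset.card_eq_sum_ones]
    refine Finset.sum_le_sum fun w hw => Finset.card_pos.2 ?_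
    obtain ⟨-, hw0, hQw⟩ := Finset.mem_filter.1 hw
    obtain ⟨Γ, hΓ⟩ := C.exists_compat hv0 hw0 one_ne_zero (by rw [hQw, hQv, mul_zero])
    have hinj : Γ.map O1 ≠ O0 := fun h => hO1 (C.top_unique h0 (eq_top_iff.2 fun x _ =>
      Γ.mem_AO.1 (by rw [h, h0]; exact AddSubgroup.mem_top _)))
    refine ⟨Γ.map O1, Finset.mem_inter.2 ⟨Finset.mem_filter.2 ⟨Finset.mem_erase.2 ⟨hinj, Finset.mem_univ _⟩, ?_⟩,
      C.pact.mem_mem.2 (hΓ ▸ Γ.mem_AO.2 hv)⟩⟩
    intro h
    have := Γ.mem_AO.2 hv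
    rw [h, hΓ, AddSubgroup.mem_bot] at this
    exact hw0 this
  have hup : ∑ O ∈ S, Nat.card (C.pact.AO O) ≤ S.card * Fintype.card F := by
    refine (Finset.sum_le_card_nsmul _ _ _ fun O hO => ?_).trans (le_of_eq (smul_eq_mul _ _))
    obtain ⟨hO', -⟩ := Finset.mem_filter.1 hO
    have hne := (Finset.mem_erase.1 hO').1
    obtain ⟨u, hu⟩ := (C.shape hnp O).resolve_left fun h => hne (C.top_unique h0 h)
    exact C.card_line hu
  have hR : ∑ O ∈ S, Nat.card (C.pact.AO O) ≤ ∑ O ∈ Finset.univ.erase O0, Nat.card (C.pact.AO O) :=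
    Finset.sum_le_sum_of_subset (Finset.filter_subset _ _)
  have h1 := C.rest_lt h0
  have hd := C.index_top h0
  generalize ∑ O ∈ Finset.univ.erase O0, Nat.card (C.pact.AO O) = R at hR h1 hd
  generalize hq' : Fintype.card F = q at hup h1 hd
  have hq := C.hq
  obtain ⟨M, hM⟩ := C.dvd_Ns
  rw [hq'] at hq hM
  have hRM : R = q * M := by
    obtain ⟨r, rfl⟩ : ∃ r, q = r + 1 := ⟨q - 1, by omega⟩
    rw [Nat.add_sub_cancel] at h1 hM
    rw [hM] at h1 hD
    have h2 : r * ((r + 1) * M) ≤ r * R := by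
      generalize ∑ O ∈ S, Nat.card (C.pact.AO O) = s at hc hup hR
      generalize ∑ w ∈ D, (S ∩ C.pact.mem w).card = l at hc hlow
      nlinarith
    refine le_antisymm ?_ (Nat.le_of_mul_le_mul_left h2 (by omega))
    by_contra hlt
    have := Nat.mul_le_mul_left r (Nat.succ_le_of_lt (not_le.1 hlt))
    nlinarith
  -- incidences with regular orbits
  obtain ⟨x0, hinc⟩ := C.incidence C.Rg fun g u x hu hh => C.Rg_map g hu hh
  have hrg : Nat.card {x // C.Rg C.a x} = Fintype.card F ^ (Fintype.card ι - 2) := by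
    rw [Nat.card_congr (Equiv.subtypeEquivRight (q := fun x => C.pact.orb x = O0) fun x =>
      C.Rg_a_iff.trans ⟨fun h => C.top_unique h0 h, fun h => by rw [← C.pact.AO_orb, h, h0]⟩),
      C.card_orbit, h0, AddSubgroup.card_top, C.card_W]
  rw [hrg, C.card_Sing_eq, hd, hRM, hM, hq'] at hinc
  have hn := C.S.hn
  obtain ⟨k, hk⟩ : ∃ k, Fintype.card ι - 2 = k + 2 := ⟨Fintype.card ι - 4, by omega⟩
  rw [hk] at hinc
  have hcop : Nat.Coprime (q ^ (k + 1) + M) q := by
    have hMq : Nat.Coprime M q := by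
      refine Nat.coprime_of_dvd' fun p hp hpM hpq => ?_
      have h2 : p ∣ C.Ns + 1 := hpq.trans (hq' ▸ C.dvd_Ns_succ)
      rw [hM] at h2
      exact (Nat.dvd_add_right (dvd_mul_of_dvd_right hpM _)).1 h2
    rw [pow_succ', Nat.coprime_mul_left_add_left]
    exact hMq
  have hde : q ^ (k + 2) + q * M = q * (q ^ (k + 1) + M) := by ring
  set d := q ^ (k + 2) + q * M with hddef
  have hdvd : d ∣ (q - 1) * q ^ (k + 2) := by
    have e : (q * ((q - 1) * M) + (q - 1) + (q - 1) * q ^ (k + 2)) * q ^ (k + 2) =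
        (d + 1) * ((q - 1) * q ^ (k + 2)) := by rw [hddef]; ring
    rw [e] at hinc
    exact (Nat.coprime_self_add_right.2 (Nat.coprime_one_right d)).dvd_of_dvd_mul_left (Dvd.intro _ hinc)
  rw [hde, pow_succ' q (k + 1), ← mul_assoc (q - 1), mul_comm (q - 1) q, mul_assoc] at hdvd
  have h2 := (hcop.pow_right (k + 1)).dvd_of_dvd_mul_right (Nat.dvd_of_mul_dvd_mul_left (by omega) hdvd)
  have h3 := Nat.le_of_dvd (by omega) h2
  have h4 : q ≤ q ^ (k + 1) := Nat.le_self_pow (by omega) _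
  omega



/-- No subgroup of small index. -/
theorem contradiction [Fintype C.pact.Orb] (hH : C.H ≠ ⊤) : False := by
  classical
  by_cases hpl : ∃ O, C.IsPlane O
  · obtain ⟨O, hO⟩ := hpl
    exact C.exceptional_false hO
  push Not at hpl
  obtain ⟨O0, h0⟩ := C.exists_top hH (C.shape hpl)
  have hbot : ∀ O ∈ Finset.univ.erase O0, C.pact.AO O = ⊥ := fun O hO =>
    C.rest_bot hpl h0 (Finset.mem_erase.1 hO).1
  set S := Finset.univ.erase O0 with hS
  have hd : C.H.index = Fintype.card F ^ (Fintype.card ι - 2) + S.card := by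
    rw [C.index_top h0, Finset.sum_congr rfl fun O hO => by rw [hbot O hO, AddSubgroup.card_bot],
      Finset.card_eq_sum_ones]
  obtain ⟨c, hc0, hc1, hsq⟩ := C.exists_sq
  obtain ⟨e, f', P, he, hf'⟩ := C.exists_pair_W
  obtain ⟨g, hg⟩ := tor_isConj C.S C.P P hc0 hsq
  have hfix : fixCard (H := C.H) (tor Q e f' c) = fixCard (H := C.H) (tor Q C.a C.b c) := by
    rw [← hg, fixCard_conj]
  rw [C.fixCard_eq, C.fixCard_eq, ← Finset.add_sum_erase _ _ (Finset.mem_univ O0),
    ← Finset.add_sum_erase _ _ (Finset.mem_univ O0)] at hfix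
  have hT : Nat.card {x : C.X // C.pact.orb x = O0 ∧ tor Q C.a C.b c • x = x} ≤ 1 :=
    C.torA_fix_le hc0 hc1 hsq O0 fun l w _ => h0 ▸ AddSubgroup.mem_top _
  have hmap : (C.torW P he hf' hc0 hsq).map O0 = O0 := C.top_unique h0 (eq_top_iff.2 fun x _ => by
    obtain ⟨y, rfl⟩ := (Finite.injective_iff_surjective.1 (C.σ_inj (C.torW P he hf' hc0 hsq))) x
    exact (C.torW P he hf' hc0 hsq).mem_AO.2 (h0 ▸ AddSubgroup.mem_top _))
  obtain ⟨y, hy, hy'⟩ := C.torW_fix_ge P he hf' hc0 hsq O0 hmap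
  have hK : Nat.card {v : C.W // (B e v.1 = 0 ∧ B f' v.1 = 0) ∧ v ∈ C.pact.K y} ≤ 1 := by
    rw [Finite.card_le_one_iff_subsingleton]
    refine ⟨fun v v' => ?_⟩
    have key : ∀ v : C.W, v ∈ C.pact.K y → v = 0 := fun v hv => C.pact.χ_nd v fun w => by
      rw [C.pact.χ_comm, C.pact.χ_comm]
      have : w ∈ C.pact.A y := by rw [← C.pact.AO_orb, hy, h0]; exact AddSubgroup.mem_top _
      rw [C.pact.χ_comm]
      exact this v hv
    exact Subtype.ext ((key _ v.2.2).trans (key _ v'.2.2).symm)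
  have hsum : ∀ t : GG Q, ∑ O ∈ S, Nat.card {x : C.X // C.pact.orb x = O ∧ t • x = x} ≤ S.card := fun t => by
    rw [Finset.card_eq_sum_ones]
    refine Finset.sum_le_sum fun O hO => ?_
    have := C.card_fix_le_orbit t O
    rwa [hbot O hO, AddSubgroup.card_bot] at this
  have hlow : Fintype.card F ^ (Fintype.card ι - 4) ≤ 1 + S.card := by
    have := hy'.trans (Nat.mul_le_mul_left _ hK)
    rw [mul_one] at this
    have := hsum (tor Q C.a C.b c)
    rw [← hS] at hfix
    omega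
  obtain ⟨x0, hinc⟩ := C.incidence C.Fx fun g u x hu hh => C.Fx_map g hu hh
  have hfx : Nat.card {x // C.Fx C.a x} = S.card := by
    rw [Nat.card_congr (Equiv.subtypeEquivRight (q := fun x => C.pact.AO (C.pact.orb x) = ⊥) fun x => C.Fx_a_iff),
      C.card_pre fun O => C.pact.AO O = ⊥, Finset.sum_congr rfl fun O hO => by
        rw [(Finset.mem_filter.1 hO).2, AddSubgroup.card_bot], ← Finset.card_eq_sum_ones]
    congr 1
    ext O
    rw [Finset.mem_filter, hS, Finset.mem_erase]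
    refine ⟨fun h => ⟨fun e => ?_, h.1⟩, fun h => ⟨h.2, hbot O (Finset.mem_erase.2 h)⟩⟩
    have h1 := congrArg (fun K : AddSubgroup C.W => Nat.card K) (h.2.symm.trans (e ▸ h0))
    simp only [AddSubgroup.card_bot, AddSubgroup.card_top, C.card_W] at h1
    have := Nat.one_lt_pow (show Fintype.card ι - 2 ≠ 0 by have := C.S.hn; omega)
      (show 1 < Fintype.card F by have := C.hq; omega)
    omega
  rw [hfx] at hinc
  have hr := card_isotropic_le C.S (fun v => (v ≠ 0 ∧ Q v = 0) ∧ C.Fx v x0) (fun v hv => hv.1)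
    (fun v w hv hw => C.Fx_orth hH hv.1.2 hw.1.2 hv.2 hw.2)
  rw [← Nat.card_congr (Equiv.subtypeSubtypeEquivSubtypeInter (fun v : ι → F => v ≠ 0 ∧ Q v = 0)
    (fun v => C.Fx v x0))] at hr
  have hsm := C.small
  rw [← card_Sing (Q := Q)] at hsm
  have hn := C.S.hn
  have hq := C.hq
  have hpow : Fintype.card F ^ (Fintype.card ι / 2) ≤ Fintype.card F ^ (Fintype.card ι - 4) :=
    Nat.pow_le_pow_right (by omega) (by omega)
  have hx : 4 ≤ Fintype.card F ^ (Fintype.card ι - 4) := hq.trans (Nat.le_self_pow (by omega) _)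
  generalize Nat.card {v : Sing Q // C.Fx v.1 x0} = r at hinc hr
  generalize Fintype.card F ^ (Fintype.card ι / 2) = y' at hr hpow
  generalize Fintype.card F ^ (Fintype.card ι - 4) = X at hlow hpow hx
  generalize S.card = f at hinc hlow
  generalize Nat.card (Sing Q) = Z at hinc hsm
  obtain ⟨p, hp⟩ : ∃ p, Fintype.card F - 1 = p + 3 := ⟨Fintype.card F - 4, by omega⟩
  rw [hp] at hsm
  have hf : 1 ≤ f := by omega
  have h1 : C.H.index * ((p + 3) * f) < C.H.index * r := by
    rw [hinc, ← mul_assoc]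
    exact Nat.mul_lt_mul_of_pos_right (by omega) hf
  have h2 := Nat.lt_of_mul_lt_mul_left h1
  nlinarith

end Ctx

/-- A proper subgroup of the kernel of the spinor norm has index at least the number of singular points. -/
theorem index_ge (S : Setting Q) (hq : 4 ≤ Fintype.card F) {H : Subgroup (GG Q)} (hH : H ≠ ⊤) :
    nval Q ⊤ 0 ≤ H.index * (Fintype.card F - 1) + 1 := by
  classical
  by_contra hlt
  obtain ⟨a, b, P, -, -⟩ := exists_pair_orth S (W := ⊥) (R := ⊥) inf_le_left
    (by rw [finrank_bot]; have := S.hn; omega)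
  let C : Ctx Q :=
    { S := S, hq := hq, H := H, small := not_le.1 hlt, a := a, b := b, P := P
      ψ := AddChar.FiniteField.primitiveChar_to_Complex F
      hψ := AddChar.FiniteField.primitiveChar_to_Complex_isPrimitive F }
  have : Finite C.pact.Orb := Quotient.finite _
  have := Fintype.ofFinite C.pact.Orb
  exact C.contradiction hH

end Cfsg.Lib.Known.MinIndexO
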