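import Cfsg.Agent.Known.MinIndexO.SmallBase

/-!
Growing nondegenerate frames.
-/

set_option autoImplicit false
set_option linter.unusedSectionVars false
set_option linter.style.haveILetI false

open Matrix Submodule

namespace Cfsg.Lib.Known.MinIndexO

open Cfsg.Lib.Classical Cfsg.Lib.Classical.Refl

universe u

variable {F : Type u} [Field F] [Fintype F] {ι : Type} [Fintype ι] [DecidableEq ι] {Q : QuadraticForm F (ι → F)}

set_option quotPrecheck false in
local notation "B" => QuadraticMap.polar (⇑Q)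

/-- A nondegenerate subspace. -/
def Nd (Q : QuadraticForm F (ι → F)) (T : Submodule F (ι → F)) : Prop :=
  ∀ x ∈ T, (∀ y ∈ T, QuadraticMap.polar (⇑Q) y x = 0) → x = 0

theorem nd_bot : Nd Q ⊥ := fun _ hx _ => (Submodule.mem_bot F).1 hx

theorem mem_perp_sup {T U : Submodule F (ι → F)} {x : ι → F} :
    x ∈ HypQuad.perp Q (T ⊔ U) ↔ x ∈ HypQuad.perp Q T ∧ x ∈ HypQuad.perp Q U := by
  constructor
  · intro h
    exact ⟨(HypQuad.mem_perp Q).2 fun y hy => (HypQuad.mem_perp Q).1 h y (mem_sup_left hy),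
      (HypQuad.mem_perp Q).2 fun y hy => (HypQuad.mem_perp Q).1 h y (mem_sup_right hy)⟩
  · rintro ⟨h1, h2⟩
    refine (HypQuad.mem_perp Q).2 fun y hy => ?_
    obtain ⟨s, hs, t, ht, rfl⟩ := Submodule.mem_sup.1 hy
    rw [QuadraticMap.polar_add_left, (HypQuad.mem_perp Q).1 h1 s hs, (HypQuad.mem_perp Q).1 h2 t ht, add_zero]

theorem mem_perp_singleton {x y : ι → F} : x ∈ HypQuad.perp Q (span F {y}) ↔ B y x = 0 := by
  constructor
  · intro h; exact (HypQuad.mem_perp Q).1 h y (mem_span_singleton_self y)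
  · intro h
    refine (HypQuad.mem_perp Q).2 fun z hz => ?_
    obtain ⟨c, rfl⟩ := mem_span_singleton.1 hz
    rw [QuadraticMap.polar_smul_left, h, smul_zero]

theorem mem_perp_pair {x e f : ι → F} :
    x ∈ HypQuad.perp Q (span F (Set.range ![e, f])) ↔ B e x = 0 ∧ B f x = 0 := by
  rw [mem_perp_range, Fin.forall_fin_two]
  rfl

/-- A vector with nonzero self-polar extends a nondegenerate subspace. -/
theorem Nd.ext_one {T : Submodule F (ι → F)} (hT : Nd Q T) {y : ι → F} (hy : y ∈ HypQuad.perp Q T)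
    (hyy : B y y ≠ 0) : Nd Q (T ⊔ span F {y}) := by
  intro x hx hxy
  obtain ⟨s, hs, t, ht, rfl⟩ := Submodule.mem_sup.1 hx
  obtain ⟨c, rfl⟩ := mem_span_singleton.1 ht
  have hs0 : s = 0 := hT s hs fun z hz => by
    have := hxy z (mem_sup_left hz)
    rwa [QuadraticMap.polar_add_right, QuadraticMap.polar_smul_right, (HypQuad.mem_perp Q).1 hy z hz, smul_zero,
      add_zero] at this
  subst hs0
  have := hxy y (mem_sup_right (mem_span_singleton_self y))
  rw [zero_add, QuadraticMap.polar_smul_right, smul_eq_mul, mul_eq_zero, or_iff_left hyy] at this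
  rw [this, zero_smul, add_zero]

/-- A hyperbolic pair extends a nondegenerate subspace. -/
theorem Nd.ext_pair {T : Submodule F (ι → F)} (hT : Nd Q T) {e f : ι → F} (P : Pair Q e f)
    (he : e ∈ HypQuad.perp Q T) (hf : f ∈ HypQuad.perp Q T) : Nd Q (T ⊔ span F (Set.range ![e, f])) := by
  intro x hx hxy
  obtain ⟨s, hs, t, ht, rfl⟩ := Submodule.mem_sup.1 hx
  rw [Submodule.mem_span_range_iff_exists_fun] at ht
  obtain ⟨c, rfl⟩ := ht
  simp only [Fin.sum_univ_two, Matrix.cons_val_zero, Matrix.cons_val_one] at hxy ⊢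
  have hs0 : s = 0 := hT s hs fun z hz => by
    have := hxy z (mem_sup_left hz)
    simpa only [QuadraticMap.polar_add_right, QuadraticMap.polar_smul_right, (HypQuad.mem_perp Q).1 he z hz,
      (HypQuad.mem_perp Q).1 hf z hz, smul_zero, add_zero] using this
  subst hs0
  have k1 := hxy e (mem_sup_right (subset_span ⟨0, rfl⟩))
  have k2 := hxy f (mem_sup_right (subset_span ⟨1, rfl⟩))
  simp only [zero_add, QuadraticMap.polar_add_right, QuadraticMap.polar_smul_right, P.aa, P.hab, P.bb, P.ba,
    smul_eq_mul, mul_zero, mul_one, add_zero] at k1 k2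
  rw [k1, k2, zero_smul, zero_smul, add_zero, add_zero]

theorem finrank_sup_one (T : Submodule F (ι → F)) (y : ι → F) :
    Module.finrank F ↥(T ⊔ span F {y}) ≤ Module.finrank F T + 1 :=
  (Submodule.finrank_add_le_finrank_add_finrank T (span F {y})).trans
    (Nat.add_le_add_left ((finrank_span_le_card _).trans (by simp)) _)

theorem finrank_sup_two (T : Submodule F (ι → F)) (e f : ι → F) :
    Module.finrank F ↥(T ⊔ span F (Set.range ![e, f])) ≤ Module.finrank F T + 2 :=
  (Submodule.finrank_add_le_finrank_add_finrank T (span F (Set.range ![e, f]))).trans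
    (Nat.add_le_add_left (finrank_range_le _) _)

/-- The perp of a small nondegenerate subspace carries every value. -/
theorem Nd.perp_value (S : Setting Q) {T : Submodule F (ι → F)} (hT : Nd Q T)
    (hd : Module.finrank F T + 2 ≤ Fintype.card ι) {r : F} (hr : r ≠ 0) : ∃ y ∈ HypQuad.perp Q T, Q y = r :=
  FormNormal.exists_value Q _ (nd_perp S.hQ hT) (by
    rw [HypQuad.finrank_perp Q S.hQ, Module.finrank_fintype_fun_eq_card]; omega) r hr

/-- The perp of a proper nondegenerate subspace is not totally singular. -/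
theorem Nd.perp_nonsing (S : Setting Q) {T : Submodule F (ι → F)} (hT : Nd Q T)
    (hd : Module.finrank F T + 1 ≤ Fintype.card ι) : ∃ y ∈ HypQuad.perp Q T, Q y ≠ 0 := by
  by_contra hh
  push Not at hh
  have hfin : Module.finrank F (HypQuad.perp Q T) = Fintype.card ι - Module.finrank F T := by
    rw [HypQuad.finrank_perp Q S.hQ, Module.finrank_fintype_fun_eq_card]
  obtain ⟨y, hy, hy0⟩ := (HypQuad.perp Q T).exists_mem_ne_zero_of_ne_bot fun h => by
    rw [h, finrank_bot] at hfin; omega
  exact hy0 (nd_perp S.hQ hT y hy fun z hz => HypQuad.polar_zero_of_singular Q hh hy hz)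

namespace Ctx0

variable (C : Ctx0 Q)

include C

theorem nd_ab : Nd Q ((⊥ : Submodule F (ι → F)) ⊔ span F (Set.range ![C.a, C.b])) := by
  refine nd_bot.ext_pair C.P ?_ ?_ <;>
  · refine (HypQuad.mem_perp Q).2 fun y hy => ?_
    rw [(Submodule.mem_bot F).1 hy, QuadraticMap.polar_zero_left]

theorem finrank_ab : Module.finrank F ↥((⊥ : Submodule F (ι → F)) ⊔ span F (Set.range ![C.a, C.b])) ≤ 2 := by
  rw [bot_sup_eq]
  exact finrank_range_le _

theorem mem_perp_ab {x : ι → F} :
    x ∈ HypQuad.perp Q ((⊥ : Submodule F (ι → F)) ⊔ span F (Set.range ![C.a, C.b])) ↔ x ∈ Wsub Q C.a C.b := by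
  rw [bot_sup_eq, mem_Wsub]

end Ctx0

end Cfsg.Lib.Known.MinIndexO
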