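import Cfsg.Agent.Known.MinIndexO.Frame

/-!
Characters of nonzero value occur in few orbits, and the perp of such an orbit is everything or lies on a line.
-/

set_option autoImplicit false
set_option linter.unusedSectionVars false
set_option linter.style.haveILetI false

open Matrix Submodule

namespace Cfsg.Lib.Known.MinIndexO

open Cfsg.Lib.Classical Cfsg.Lib.Classical.Refl

universe u

variable {F : Type u} [Field F] [Fintype F] {ι : Type} [Fintype ι] [DecidableEq ι] {Q : QuadraticForm F (ι → F)}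

set_option quotPrecheck false in
local notation "B" => QuadraticMap.polar (⇑Q)

set_option synthInstance.maxHeartbeats 400000

namespace Ctx0

variable (C : Ctx0 Q)

include C

/-- The common unit of the counts. -/
def L (_C : Ctx0 Q) : ℕ := Fintype.card F * Fintype.card F ^ (Fintype.card ι - 6)

theorem L_pos : 0 < C.L := Nat.mul_pos Fintype.card_pos (pow_pos Fintype.card_pos _)

theorem pow_sub_two : Fintype.card F ^ (Fintype.card ι - 2) = Fintype.card F ^ 3 * C.L := by
  have := C.S.hn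
  rw [L, ← mul_assoc, ← pow_succ, ← pow_add]
  congr 1
  omega

theorem pow_sub_four : Fintype.card F ^ (Fintype.card ι - 4) = Fintype.card F * C.L := by
  have := C.S.hn
  rw [L, ← pow_succ', ← pow_succ']
  congr 1
  omega

theorem nval_low (r : F) :
    (Fintype.card F ^ 2 - 1) * C.L ≤ nval Q (Wsub Q C.a C.b) r := by
  refine le_trans (le_of_eq ?_) (C.nval_bounds r).1
  rw [C.pow_sub_four, L]
  obtain ⟨q0, hq0⟩ : ∃ q0, Fintype.card F = q0 + 1 := ⟨Fintype.card F - 1, by have := (Fintype.one_lt_card (α := F)); omega⟩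
  rw [hq0, show q0 + 1 - 1 = q0 by omega, show (q0 + 1) ^ 2 - 1 = q0 * (q0 + 2) by
    rw [show (q0 + 1) ^ 2 = q0 * (q0 + 2) + 1 by ring, Nat.add_sub_cancel]]
  ring

theorem Ns_up : C.Ns + 1 ≤ (Fintype.card F ^ 2 + Fintype.card F - 1) * C.L := by
  have h := (C.nval_bounds 0).2
  rw [C.pow_sub_four, L] at h
  rw [Ns, Nat.sub_add_cancel C.one_le_nval0, L]
  refine h.trans (le_of_eq ?_)
  obtain ⟨q0, hq0⟩ : ∃ q0, Fintype.card F = q0 + 1 := ⟨Fintype.card F - 1, by have := (Fintype.one_lt_card (α := F)); omega⟩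
  rw [hq0, show q0 + 1 - 1 = q0 by omega, show 2 * (q0 + 1) - 1 = 2 * q0 + 1 by omega,
    show (q0 + 1) ^ 2 + (q0 + 1) - 1 = q0 ^ 2 + 3 * q0 + 1 by
      rw [show (q0 + 1) ^ 2 + (q0 + 1) = q0 ^ 2 + 3 * q0 + 1 + 1 by ring, Nat.add_sub_cancel]]
  ring

theorem Ns_low : (Fintype.card F ^ 2 - 1) * C.L ≤ C.Ns + 1 := by
  rw [Ns, Nat.sub_add_cancel C.one_le_nval0]
  exact C.nval_low 0

end Ctx0

namespace Ctx

open Ctx0

variable (C : Ctx Q)

include C

theorem index_lt : C.H.index * (Fintype.card F - 1) <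
    (Fintype.card F ^ 4 + Fintype.card F ^ 2 - Fintype.card F) * C.L := by
  refine C.small'.trans_le ?_
  have h := C.Ns_up
  rw [C.pow_sub_two]
  obtain ⟨q0, hq0⟩ : ∃ q0, Fintype.card F = q0 + 1 := ⟨Fintype.card F - 1, by have := C.hq; omega⟩
  rw [hq0] at h ⊢
  have hL := C.L_pos
  rw [show (q0 + 1) ^ 2 + (q0 + 1) - 1 = q0 ^ 2 + 3 * q0 + 1 by
      rw [show (q0 + 1) ^ 2 + (q0 + 1) = q0 ^ 2 + 3 * q0 + 1 + 1 by ring, Nat.add_sub_cancel]] at h
  rw [show q0 + 1 - 1 = q0 by omega, show (q0 + 1) ^ 4 + (q0 + 1) ^ 2 - (q0 + 1) =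
      (q0 + 1) * (q0 ^ 3 + 3 * q0 ^ 2 + 4 * q0 + 1) by
    rw [show (q0 + 1) ^ 4 + (q0 + 1) ^ 2 = (q0 + 1) * (q0 ^ 3 + 3 * q0 ^ 2 + 4 * q0 + 1) + (q0 + 1) by ring,
      Nat.add_sub_cancel]]
  nlinarith [Nat.mul_le_mul_left (q0 + 1) h]

end Ctx

namespace Ctx0

variable (C : Ctx0 Q)

include C

/-- Vectors of the square class of a value. -/
noncomputable def cls [Fintype C.W] (r : F) : Finset C.W :=
  @Finset.filter _ (fun w => w ≠ 0 ∧ ∃ k : F, k ≠ 0 ∧ Q w.1 = k * k * r) (Classical.decPred _) Finset.univ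

theorem mem_cls [Fintype C.W] {r : F} {w : C.W} :
    w ∈ C.cls r ↔ w ≠ 0 ∧ ∃ k : F, k ≠ 0 ∧ Q w.1 = k * k * r := by
  classical
  simp [cls]

theorem card_cls [Fintype C.W] {r : F} (hr : r ≠ 0) :
    (Fintype.card F - 1) * ((Fintype.card F ^ 2 - 1) * C.L) ≤ 2 * (C.cls r).card ∧
      ((2 : F) = 0 → (Fintype.card F - 1) * ((Fintype.card F ^ 2 - 1) * C.L) ≤ (C.cls r).card) := by
  classical
  let U : Finset F := Finset.univ.erase 0
  let Sq : Finset F := U.image fun k => k * k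
  have hU : U.card = Fintype.card F - 1 := by simp [U]
  have hSq : U.card ≤ 2 * Sq.card ∧ ((2 : F) = 0 → U.card ≤ Sq.card) := by
    refine ⟨?_, fun h2 => le_of_eq (Finset.card_image_of_injective _ fun x y (e : x * x = y * y) => ?_).symm⟩
    · rw [mul_comm]
      refine (Finset.card_le_mul_card_image U 2 fun s hs => ?_).trans (le_of_eq (mul_comm _ _))
      obtain ⟨k, -, rfl⟩ := Finset.mem_image.1 hs
      refine (Finset.card_le_card (t := {k, -k}) fun x hx => ?_).trans Finset.card_le_two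
      rw [Finset.mem_filter] at hx
      rcases mul_self_eq_mul_self_iff.1 hx.2 with h | h <;> simp [h]
    · rcases mul_self_eq_mul_self_iff.1 e with h | h
      · exact h
      · rw [h, neg_eq_iff_add_eq_zero, ← two_mul, h2, zero_mul]
  have key : Sq.card * ((Fintype.card F ^ 2 - 1) * C.L) ≤ (C.cls r).card := by
    refine (Finset.card_nsmul_le_sum Sq (fun s => (Finset.univ.filter fun w : C.W => Q w.1 = s * r).card) _
      fun s hs => ?_).trans ?_
    · refine (C.nval_low (s * r)).trans (le_of_eq ?_)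
      rw [nval, Nat.card_eq_fintype_card, Fintype.card_subtype]
    · rw [← Finset.card_biUnion fun s hs s' hs' hne => ?_]
      · refine Finset.card_le_card fun w hw => ?_
        obtain ⟨s, hs, hw⟩ := Finset.mem_biUnion.1 hw
        obtain ⟨k, hk, rfl⟩ := Finset.mem_image.1 hs
        have hk0 : k ≠ 0 := (Finset.mem_erase.1 hk).1
        rw [Finset.mem_filter] at hw
        exact C.mem_cls.2 ⟨fun e => hr (by
          have := hw.2
          rw [e, Submodule.coe_zero, QuadraticMap.map_zero, eq_comm, mul_eq_zero] at this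
          exact this.resolve_left (mul_ne_zero hk0 hk0)), k, hk0, hw.2⟩
      · refine Finset.disjoint_left.2 fun w h1 h2 => hne ?_
        rw [Finset.mem_filter] at h1 h2
        exact mul_right_cancel₀ hr (h1.2.symm.trans h2.2)
  constructor
  · rw [← hU]
    calc _ ≤ 2 * Sq.card * ((Fintype.card F ^ 2 - 1) * C.L) := Nat.mul_le_mul_right _ hSq.1
      _ ≤ 2 * (C.cls r).card := by rw [mul_assoc]; exact Nat.mul_le_mul_left 2 key
  · intro h2
    rw [← hU]
    exact (Nat.mul_le_mul_right _ (hSq.2 h2)).trans key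

theorem two_odd (h : (2 : F) ≠ 0) : Odd (Fintype.card F) := by
  rcases Nat.even_or_odd (Fintype.card F) with he | ho
  · refine absurd ?_ h
    haveI := ringChar.of_eq (show ringChar F = 2 from FiniteField.even_card_iff_char_two.mpr (Nat.even_iff.1 he))
    exact CharTwo.two_eq_zero
  · exact ho

theorem mul_mem_le [Fintype C.W] [Fintype C.pact.Orb] (D : Finset C.W) (hD : (0 : C.W) ∉ D) {v : C.W}
    (hm : ∀ w ∈ D, C.m w = C.m v) : C.m v * D.card ≤ C.H.index := by
  classical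
  have h := (C.pact.count_le D hD Finset.univ).trans (C.pact.sum_le _)
  rw [C.card_X] at h
  simp only [Finset.univ_inter] at h
  have e : ∑ w ∈ D, (C.pact.mem w).card = C.m v * D.card := by
    refine (Finset.sum_congr rfl (g := fun _ => C.m v) hm).trans ?_
    rw [Finset.sum_const, smul_eq_mul, mul_comm]
  omega

theorem m_cls [Fintype C.W] [Fintype C.pact.Orb] {v : C.W} (hv : v ≠ 0) :
    ∀ w ∈ C.cls (Q v.1), C.m w = C.m v := fun w hw => by
  obtain ⟨hw0, k, hk, e⟩ := C.mem_cls.1 hw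
  exact C.m_eq hv hw0 hk e

end Ctx0

namespace Ctx

open Ctx0

variable (C : Ctx Q)

include C

/-- Vectors of nonzero value lie in few perps. -/
theorem m_small [Fintype C.pact.Orb] {v : C.W} (hv : Q v.1 ≠ 0) :
    C.m v ≤ 4 ∧ ((2 : F) = 0 ∨ (3 : F) = 0 → C.m v ≤ 2) := by
  classical
  have := Fintype.ofFinite C.W
  have hv0 : v ≠ 0 := fun e => hv (by rw [e, Submodule.coe_zero, QuadraticMap.map_zero])
  have h1 := C.mul_mem_le (C.cls (Q v.1)) (fun h => (C.mem_cls.1 h).1 rfl) (C.m_cls hv0)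
  obtain ⟨hc, hc2⟩ := C.card_cls hv
  have hd := C.index_lt
  have hq := C.hq
  obtain ⟨q0, hq0⟩ : ∃ q0, Fintype.card F = q0 + 1 := ⟨Fintype.card F - 1, by omega⟩
  have hL := C.L_pos
  rw [hq0] at hd hc hc2 hq
  rw [show (q0 + 1) ^ 4 + (q0 + 1) ^ 2 - (q0 + 1) = (q0 + 1) * (q0 ^ 3 + 3 * q0 ^ 2 + 4 * q0 + 1) by
    rw [show (q0 + 1) ^ 4 + (q0 + 1) ^ 2 = (q0 + 1) * (q0 ^ 3 + 3 * q0 ^ 2 + 4 * q0 + 1) + (q0 + 1) by ring,
      Nat.add_sub_cancel], show q0 + 1 - 1 = q0 by omega] at hd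
  rw [show (q0 + 1) ^ 2 - 1 = q0 * (q0 + 2) by
    rw [show (q0 + 1) ^ 2 = q0 * (q0 + 2) + 1 by ring, Nat.add_sub_cancel], show q0 + 1 - 1 = q0 by omega] at hc hc2
  have h2 : C.m v * (C.cls (Q v.1)).card * q0 ≤ C.H.index * q0 := Nat.mul_le_mul_right _ h1
  -- a multiplicity above `t` forces a small field
  have bound : ∀ t s, t ≤ C.m v → q0 * (q0 * (q0 + 2) * C.L) ≤ s * (C.cls (Q v.1)).card →
      t * (q0 * (q0 * (q0 + 2))) * q0 < s * ((q0 + 1) * (q0 ^ 3 + 3 * q0 ^ 2 + 4 * q0 + 1)) ∨ s = 0 := by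
    intro t s ht hs
    rcases Nat.eq_zero_or_pos s with hs0 | hs0
    · exact Or.inr hs0
    refine Or.inl (Nat.lt_of_mul_lt_mul_right (a := C.L) ?_)
    calc t * (q0 * (q0 * (q0 + 2))) * q0 * C.L = t * (q0 * (q0 * (q0 + 2) * C.L)) * q0 := by ring
      _ ≤ C.m v * (s * (C.cls (Q v.1)).card) * q0 := Nat.mul_le_mul_right _ (Nat.mul_le_mul ht hs)
      _ = s * (C.m v * (C.cls (Q v.1)).card * q0) := by ring
      _ ≤ s * (C.H.index * q0) := Nat.mul_le_mul_left _ h2
      _ < s * ((q0 + 1) * (q0 ^ 3 + 3 * q0 ^ 2 + 4 * q0 + 1) * C.L) := Nat.mul_lt_mul_of_pos_left hd hs0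
      _ = _ := by ring
  by_cases hF2 : (2 : F) = 0
  · suffices C.m v ≤ 2 from ⟨by omega, fun _ => this⟩
    by_contra hm
    rcases bound 3 1 (by omega) (by rw [one_mul]; exact hc2 hF2) with h | h
    · have e3 : 3 ≤ q0 := by omega
      nlinarith [Nat.mul_le_mul e3 e3, Nat.mul_le_mul (Nat.mul_le_mul e3 e3) e3,
        Nat.mul_le_mul (Nat.mul_le_mul (Nat.mul_le_mul e3 e3) e3) (le_refl q0)]
    · omega
  · have hodd := C.two_odd hF2
    rw [hq0] at hodd
    have e4 : 4 ≤ q0 := by rcases hodd with ⟨k, hk⟩; omega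
    refine ⟨?_, fun h3 => ?_⟩
    · by_contra hm
      rcases bound 5 2 (by omega) hc with h | h
      · nlinarith [Nat.mul_le_mul e4 e4, Nat.mul_le_mul (Nat.mul_le_mul e4 e4) e4,
          Nat.mul_le_mul (Nat.mul_le_mul (Nat.mul_le_mul e4 e4) e4) (le_refl q0)]
      · omega
    · by_contra hm
      have h3' : (3 : F) = 0 := h3.resolve_left hF2
      have e6 : 6 ≤ q0 := by
        rcases hodd with ⟨k, hk⟩
        by_contra hlt
        have h5 : q0 = 4 := by omega
        have hz : ((Fintype.card F : ℕ) : F) = 0 := Nat.cast_card_eq_zero F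
        rw [hq0, h5] at hz
        push_cast at hz
        exact hF2 (by linear_combination hz - h3')
      rcases bound 3 2 (by omega) hc with h | h
      · nlinarith [Nat.mul_le_mul e6 e6, Nat.mul_le_mul (Nat.mul_le_mul e6 e6) e6,
          Nat.mul_le_mul (Nat.mul_le_mul (Nat.mul_le_mul e6 e6) e6) (le_refl q0)]
      · omega

end Ctx

namespace Ctx0

variable (C : Ctx0 Q)

include C

/-- Elements fixing the pair and a vector. -/
def St (v : ι → F) : Subgroup (GG Q) where
  carrier := {g | ac Q g C.a = C.a ∧ ac Q g C.b = C.b ∧ ac Q g v = v}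
  one_mem' := ⟨ac_one Q _, ac_one Q _, ac_one Q _⟩
  mul_mem' {g h} hg hh := by
    obtain ⟨g1, g2, g3⟩ := hg
    obtain ⟨h1, h2, h3⟩ := hh
    exact ⟨by rw [ac_mul, h1, g1], by rw [ac_mul, h2, g2], by rw [ac_mul, h3, g3]⟩
  inv_mem' {g} hg := by
    obtain ⟨g1, g2, g3⟩ := hg
    refine ⟨?_, ?_, ?_⟩
    · conv_lhs => rw [← g1]
      exact ac_inv Q g _
    · conv_lhs => rw [← g2]
      exact ac_inv Q g _
    · conv_lhs => rw [← g3]
      exact ac_inv Q g _

theorem σ_fix {v : C.W} {g : GG Q} (hg : g ∈ C.St v.1) : (C.compat1 g hg.1 hg.2.1).σ v = v :=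
  Subtype.ext ((C.compat1_σ g hg.1 hg.2.1 v).trans hg.2.2)

/-- The permutation of the orbits through a vector. -/
noncomputable def memPerm [Fintype C.pact.Orb] (v : C.W) :
    ↥(C.St v.1) →* Equiv.Perm {O : C.pact.Orb // O ∈ C.pact.mem v} where
  toFun g := (C.compat1 g.1 g.2.1 g.2.2.1).map.subtypeEquiv fun O => by
    rw [Pact.mem_mem, Pact.mem_mem, ← (C.compat1 g.1 g.2.1 g.2.2.1).mem_AO (O := O) (w := v), C.σ_fix g.2]
  map_one' := by
    ext ⟨O, hO⟩
    obtain ⟨x, rfl⟩ := C.pact.orb_surj O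
    show C.pact.orb ((1 : GG Q) • x) = C.pact.orb x
    rw [one_smul]
  map_mul' g h := by
    ext ⟨O, hO⟩
    obtain ⟨x, rfl⟩ := C.pact.orb_surj O
    show C.pact.orb ((g.1 * h.1) • x) = C.pact.orb (g.1 • h.1 • x)
    rw [mul_smul]

/-- An element acting trivially on the orbits through a vector keeps their perps. -/
theorem mem_of_trivial [Fintype C.pact.Orb] {v : C.W} {g : ↥(C.St v.1)} (hg : C.memPerm v g = 1) {O : C.pact.Orb}
    (hO : v ∈ C.pact.AO O) {u : C.W} (hu : u ∈ C.pact.AO O) :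
    (C.compat1 g.1 g.2.1 g.2.2.1).σ u ∈ C.pact.AO O := by
  have e := congrArg (fun π : Equiv.Perm _ => (π ⟨O, C.pact.mem_mem.2 hO⟩).1) hg
  have e' : (C.compat1 g.1 g.2.1 g.2.2.1).map O = O := e
  have := (C.compat1 g.1 g.2.1 g.2.2.1).mem_AO (O := O) (w := u) |>.2 hu
  rwa [e'] at this

end Ctx0

namespace Ctx

open Ctx0

variable (C : Ctx Q)

include C

theorem exists_sq : ∃ c : F, c ≠ 0 ∧ c ≠ 1 ∧ IsSquare c := by
  classical
  obtain ⟨k, hk⟩ : ∃ k : F, k ∉ ({0, 1, -1} : Finset F) := by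
    by_contra h
    push Not at h
    have := Finset.card_le_card (show (Finset.univ : Finset F) ⊆ {0, 1, -1} from fun x _ => h x)
    have := Finset.card_le_three (a := (0 : F)) (b := 1) (c := -1)
    rw [Finset.card_univ] at *
    have := C.hq
    omega
  simp only [Finset.mem_insert, Finset.mem_singleton, not_or] at hk
  refine ⟨k * k, mul_ne_zero hk.1 hk.1, fun h => ?_, ⟨k, rfl⟩⟩
  rcases mul_self_eq_one_iff.1 h with e | e
  · exact hk.2.1 e
  · exact hk.2.2 e

end Ctx

namespace Ctx0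

variable (C : Ctx0 Q)

include C

theorem sg_mem_St {v : C.W} {e z : ι → F} (he : Q e = 0) (heW : e ∈ Wsub Q C.a C.b) (hev : B e v.1 = 0)
    (hzW : z ∈ Wsub Q C.a C.b) (hez : B e z = 0) (hzv : B z v.1 = 0) : sg Q e z ∈ C.St v.1 := by
  obtain ⟨ha, hb⟩ := mem_Wsub.1 heW
  obtain ⟨za, zb⟩ := mem_Wsub.1 hzW
  rw [QuadraticMap.polar_comm] at ha hb za zb
  refine ⟨?_, ?_, ?_⟩
  · rw [sg_apply C.S he hez, siegelMap, ha, za]; simp
  · rw [sg_apply C.S he hez, siegelMap, hb, zb]; simp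
  · rw [sg_apply C.S he hez, siegelMap, hev, hzv]; simp

end Ctx0

namespace Ctx

open Ctx0

variable (C : Ctx Q)

include C

/-- Root elements fixing a vector of nonzero value fix the orbits through it. -/
theorem root_trivial [Fintype C.pact.Orb] {v : C.W} (hv : Q v.1 ≠ 0) {e f : ι → F} (P : Pair Q e f)
    (he : e ∈ Wsub Q C.a C.b) (hf : f ∈ Wsub Q C.a C.b) (hev : B e v.1 = 0) (hfv : B f v.1 = 0)
    {z : ι → F} (hzW : z ∈ Wsub Q C.a C.b) (hez : B e z = 0) (hfz : B f z = 0) (hzv : B z v.1 = 0) :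
    C.memPerm v ⟨sg Q e z, C.sg_mem_St P.ha he hev hzW hez hzv⟩ = 1 := by
  classical
  obtain ⟨hm4, hm2⟩ := C.m_small hv
  have hcard : Fintype.card {O : C.pact.Orb // O ∈ C.pact.mem v} = C.m v := Fintype.card_coe _
  obtain ⟨p, hp⟩ := CharP.exists F
  have hp' : p.Prime := CharP.char_is_prime F p
  by_cases hsmall : (2 : F) = 0 ∨ (3 : F) = 0
  · -- two orbits: permutations commute, and the element is a commutator
    have hle : Fintype.card {O : C.pact.Orb // O ∈ C.pact.mem v} ≤ 2 := hcard ▸ hm2 hsmall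
    have hcomm : ∀ σ τ : Equiv.Perm {O : C.pact.Orb // O ∈ C.pact.mem v}, σ * τ = τ * σ := by
      intro σ τ
      have h2 : Fintype.card (Equiv.Perm {O : C.pact.Orb // O ∈ C.pact.mem v}) ≤ 2 := by
        rw [Fintype.card_perm]
        exact (Nat.factorial_le hle).trans (by norm_num)
      by_contra hne
      have : ({1, σ, τ} : Finset (Equiv.Perm _)).card = 3 := by
        rw [Finset.card_eq_three]
        exact ⟨1, σ, τ, fun h => hne (by rw [← h]; simp), fun h => hne (by rw [← h]; simp),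
          fun h => hne (by rw [h]), rfl⟩
      have := Finset.card_le_univ ({1, σ, τ} : Finset (Equiv.Perm _))
      omega
    obtain ⟨c, hc0, hc1, hsq⟩ := C.exists_sq
    have hc' : c - 1 ≠ 0 := sub_ne_zero.2 hc1
    obtain ⟨ha1, hb1⟩ := mem_Wsub.1 he
    obtain ⟨ha2, hb2⟩ := mem_Wsub.1 hf
    rw [QuadraticMap.polar_comm] at ha1 hb1 ha2 hb2
    have htv : ∀ x, B e x = 0 → B f x = 0 → ac Q (tor Q e f c) x = x := fun x h1 h2 => by
      rw [tor_apply C.S P hc0 hsq, h1, h2]; simp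
    have htm : tor Q e f c ∈ C.St v.1 :=
      ⟨htv _ ha1 ha2, htv _ hb1 hb2, htv _ hev hfv⟩
    have hez' : ∀ k : F, B e (k • z) = 0 := fun k => by rw [QuadraticMap.polar_smul_right, hez, smul_zero]
    have hzv' : B ((c - 1)⁻¹ • z) v.1 = 0 := by rw [QuadraticMap.polar_smul_left, hzv, smul_zero]
    set s : ↥(C.St v.1) := ⟨sg Q e ((c - 1)⁻¹ • z),
      C.sg_mem_St P.ha he hev (Submodule.smul_mem _ _ hzW) (hez' _) hzv'⟩ with hs
    have e1 : (⟨sg Q e z, C.sg_mem_St P.ha he hev hzW hez hzv⟩ : ↥(C.St v.1)) =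
        ⟨tor Q e f c, htm⟩ * s * ⟨tor Q e f c, htm⟩⁻¹ * s⁻¹ := by
      refine Subtype.ext ?_
      show sg Q e z = tor Q e f c * sg Q e _ * (tor Q e f c)⁻¹ * (sg Q e _)⁻¹
      rw [eq_mul_inv_iff_mul_eq, sg_conj C.S _ P.ha (hez' _), htv _ (hez' _) (by
        rw [QuadraticMap.polar_smul_right, hfz, smul_zero]), tor_apply C.S P hc0 hsq, P.aa, P.ba, mul_zero, zero_smul,
        add_zero, mul_one, show e + (c - 1) • e = c • e by module, sg_smul C.S P.ha (hez' _), ← sg_add C.S P.ha hez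
          (hez' _), smul_smul]
      congr 1
      match_scalars
      field_simp
      ring
    rw [e1]
    simp only [map_mul, map_inv]
    rw [hcomm (C.memPerm v _) (C.memPerm v s), mul_inv_cancel_right, mul_inv_cancel]
  · -- an element of prime order above four fixes at most four points
    push Not at hsmall
    have hp5 : 5 ≤ p := by
      have h2 := hp'.two_le
      by_contra hlt
      interval_cases p
      · exact hsmall.1 (CharP.cast_eq_zero F 2)
      · exact hsmall.2 (CharP.cast_eq_zero F 3)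
      · norm_num at hp'
    have hpow : (⟨sg Q e z, C.sg_mem_St P.ha he hev hzW hez hzv⟩ : ↥(C.St v.1)) ^ p = 1 := by
      refine Subtype.ext ?_
      rw [SubgroupClass.coe_pow, OneMemClass.coe_one]
      show sg Q e z ^ p = 1
      have : ∀ k : ℕ, sg Q e z ^ k = sg Q e ((k : F) • z) := by
        intro k
        induction k with
        | zero => rw [pow_zero, Nat.cast_zero, zero_smul, sg_zero C.S P.ha]
        | succ k ih =>
          rw [pow_succ, ih, Nat.cast_succ, add_smul, one_smul,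
            sg_add C.S P.ha (by rw [QuadraticMap.polar_smul_right, hez, smul_zero]) hez]
      rw [this, CharP.cast_eq_zero, zero_smul, sg_zero C.S P.ha]
    rw [← orderOf_eq_one_iff]
    have hd1 : orderOf (C.memPerm v ⟨sg Q e z, C.sg_mem_St P.ha he hev hzW hez hzv⟩) ∣ p :=
      orderOf_dvd_of_pow_eq_one (by rw [← map_pow, hpow, map_one])
    refine ((Nat.dvd_prime hp').1 hd1).resolve_right fun h => ?_
    have hd2 := orderOf_dvd_card (x := C.memPerm v ⟨sg Q e z, C.sg_mem_St P.ha he hev hzW hez hzv⟩)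
    rw [h, Fintype.card_perm, hcard] at hd2
    have := (hp'.dvd_factorial).1 hd2
    omega

end Ctx

namespace Ctx0

variable (C : Ctx0 Q)

include C

/-- The radical of a pair and a vector. -/
theorem rad_abv (v : C.W) :
    span F (Set.range ![C.a, C.b, v.1]) ⊓ HypQuad.perp Q (span F (Set.range ![C.a, C.b, v.1])) ≤ span F {v.1} := by
  rintro x ⟨hx1, hx2⟩
  rw [SetLike.mem_coe, mem_perp_range] at hx2
  rw [SetLike.mem_coe, Submodule.mem_span_range_iff_exists_fun] at hx1
  obtain ⟨c, hc⟩ := hx1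
  simp only [Fin.sum_univ_three, Matrix.cons_val_zero, Matrix.cons_val_one, Matrix.cons_val] at hc
  have f1 : B C.a x = 0 := hx2 0
  have f2 : B C.b x = 0 := hx2 1
  simp only [← hc, QuadraticMap.polar_add_right, QuadraticMap.polar_smul_right, C.P.aa, C.P.hab, C.P.bb, C.P.ba,
    C.aW v, C.bW v, smul_eq_mul] at f1 f2
  exact mem_span_singleton.2 ⟨c 2, by
    rw [← hc, show c 1 = 0 by simpa using f1, show c 0 = 0 by simpa using f2]; simp⟩

/-- A hyperbolic pair in the complement orthogonal to a vector. -/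
theorem exists_pair_perp (v : C.W) : ∃ e f, Pair Q e f ∧ e ∈ Wsub Q C.a C.b ∧ f ∈ Wsub Q C.a C.b ∧
    B e v.1 = 0 ∧ B f v.1 = 0 := by
  have hs : Module.finrank F (span F (Set.range ![C.a, C.b, v.1])) ≤ 3 := finrank_range_le _
  have h1 : Module.finrank F (span F ({v.1} : Set (ι → F))) ≤ 1 := (finrank_span_le_card _).trans (by simp)
  obtain ⟨e, f, P, he, hf⟩ := exists_pair_orth C.S (C.rad_abv v) (by have := C.S.hn; omega)
  rw [mem_perp_range] at he hf
  refine ⟨e, f, P, mem_Wsub.2 ⟨he 0, he 1⟩, mem_Wsub.2 ⟨hf 0, hf 1⟩, ?_, ?_⟩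
  · rw [QuadraticMap.polar_comm]; exact he 2
  · rw [QuadraticMap.polar_comm]; exact hf 2

/-- The perp of a small frame is not totally isotropic. -/
theorem exists_nonisotropic (v : C.W) {e f : ι → F} (P : Pair Q e f) (he : e ∈ Wsub Q C.a C.b)
    (hf : f ∈ Wsub Q C.a C.b) (hev : B e v.1 = 0) (hfv : B f v.1 = 0) :
    ∃ z z', (z ∈ Wsub Q C.a C.b ∧ B e z = 0 ∧ B f z = 0 ∧ B z v.1 = 0) ∧
      (z' ∈ Wsub Q C.a C.b ∧ B e z' = 0 ∧ B f z' = 0 ∧ B z' v.1 = 0) ∧ B z z' ≠ 0 := by
  by_contra hh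
  push Not at hh
  set T := span F (Set.range ![C.a, C.b, v.1, e, f]) with hT
  set Y := HypQuad.perp Q T with hY
  have hmem : ∀ x ∈ Y, x ∈ Wsub Q C.a C.b ∧ B e x = 0 ∧ B f x = 0 ∧ B x v.1 = 0 := by
    intro x hx
    rw [hY, mem_perp_range] at hx
    exact ⟨mem_Wsub.2 ⟨hx 0, hx 1⟩, hx 3, hx 4, by rw [QuadraticMap.polar_comm]; exact hx 2⟩
  have hdim : Fintype.card ι ≤ Module.finrank F Y + 5 := finrank_perp_range C.S _
  have hle : Y ≤ span F {v.1} := by
    intro x hx
    have hxT : x ∈ T := by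
      rw [← perp_perp Q C.S.hQ T, HypQuad.mem_perp]
      intro y hy
      obtain ⟨a1, a2, a3, a4⟩ := hmem y hy
      obtain ⟨b1, b2, b3, b4⟩ := hmem x hx
      exact hh y x ⟨a1, a2, a3, a4⟩ ⟨b1, b2, b3, b4⟩
    obtain ⟨hxW, hxe, hxf, -⟩ := hmem x hx
    rw [hT, Submodule.mem_span_range_iff_exists_fun] at hxT
    obtain ⟨c, hc⟩ := hxT
    simp only [Fin.sum_univ_five, Matrix.cons_val_zero, Matrix.cons_val_one, Matrix.cons_val] at hc
    obtain ⟨f1, f2⟩ := mem_Wsub.1 hxW
    obtain ⟨a1, b1⟩ := mem_Wsub.1 he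
    obtain ⟨a2, b2⟩ := mem_Wsub.1 hf
    have ea : B e C.a = 0 := by rw [QuadraticMap.polar_comm]; exact a1
    have eb : B e C.b = 0 := by rw [QuadraticMap.polar_comm]; exact b1
    have fa : B f C.a = 0 := by rw [QuadraticMap.polar_comm]; exact a2
    have fb : B f C.b = 0 := by rw [QuadraticMap.polar_comm]; exact b2
    simp only [← hc, QuadraticMap.polar_add_right, QuadraticMap.polar_smul_right, C.P.aa, C.P.hab, C.P.bb, C.P.ba,
      C.aW v, C.bW v, a1, a2, b1, b2, ea, eb, fa, fb, P.aa, P.hab, P.bb, P.ba, hev, hfv, smul_eq_mul, mul_zero,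
      mul_one, add_zero, zero_add] at f1 f2 hxe hxf
    exact mem_span_singleton.2 ⟨c 2, by rw [← hc, f1, f2, hxe, hxf]; simp⟩
  have := Submodule.finrank_mono hle
  have h1 : Module.finrank F (span F ({v.1} : Set (ι → F))) ≤ 1 := (finrank_span_le_card _).trans (by simp)
  have := C.S.hn
  omega

end Ctx0

namespace Ctx

open Ctx0

variable (C : Ctx Q)

include C

/-- Multiples of a root centre in the perp of an orbit through a vector of nonzero value. -/
theorem line_mem [Fintype C.pact.Orb] {v : C.W} (hv : Q v.1 ≠ 0) {O : C.pact.Orb} (hO : v ∈ C.pact.AO O)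
    {e f : ι → F} (P : Pair Q e f) (he : e ∈ Wsub Q C.a C.b) (hf : f ∈ Wsub Q C.a C.b) (hev : B e v.1 = 0)
    (hfv : B f v.1 = 0) {u : C.W} (hu : u ∈ C.pact.AO O)
    (hu' : B e u.1 ≠ 0 ∨ ∃ z ∈ Wsub Q C.a C.b, B e z = 0 ∧ B f z = 0 ∧ B z v.1 = 0 ∧ B z u.1 ≠ 0) (k : F) :
    (⟨k • e, Submodule.smul_mem _ k he⟩ : C.W) ∈ C.pact.AO O := by
  have hD : ∀ z (hz : z ∈ Wsub Q C.a C.b), B e z = 0 → B f z = 0 → B z v.1 = 0 →
      (⟨B e u.1 • z + (-B z u.1 - Q z * B e u.1) • e,
        add_mem (Submodule.smul_mem _ _ hz) (Submodule.smul_mem _ _ he)⟩ : C.W) ∈ C.pact.AO O := by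
    intro z hz h1 h2 h3
    have := sub_mem (C.mem_of_trivial (C.root_trivial hv P he hf hev hfv hz h1 h2 h3) hO hu) hu
    convert this using 1
    refine Subtype.ext ?_
    rw [Submodule.coe_sub, C.compat1_σ, sg_apply C.S P.ha h1, siegelMap]
    module
  rcases eq_or_ne (B e u.1) 0 with h0 | h0
  · obtain ⟨z, hz, h1, h2, h3, h4⟩ := hu'.resolve_left (not_not_intro h0)
    have := hD ((-k * (B z u.1)⁻¹) • z) (Submodule.smul_mem _ _ hz)
      (by rw [QuadraticMap.polar_smul_right, h1, smul_zero]) (by rw [QuadraticMap.polar_smul_right, h2, smul_zero])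
      (by rw [QuadraticMap.polar_smul_left, h3, smul_zero])
    convert this using 1
    refine Subtype.ext ?_
    simp only [h0, QuadraticMap.polar_smul_left, smul_eq_mul, zero_smul, zero_add, mul_zero, sub_zero]
    match_scalars
    field_simp
  · obtain ⟨z, z', ⟨zW, z1, z2, z3⟩, ⟨z'W, z'1, z'2, z'3⟩, hzz⟩ := C.exists_nonisotropic v P he hf hev hfv
    set l := k * (B e u.1)⁻¹ * (B z z')⁻¹ with hl
    have hlz : l • z ∈ Wsub Q C.a C.b := Submodule.smul_mem _ _ zW
    have a1 : B e (l • z) = 0 := by rw [QuadraticMap.polar_smul_right, z1, smul_zero]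
    have a2 : B f (l • z) = 0 := by rw [QuadraticMap.polar_smul_right, z2, smul_zero]
    have a3 : B (l • z) v.1 = 0 := by rw [QuadraticMap.polar_smul_left, z3, smul_zero]
    have := sub_mem (add_mem (hD _ hlz a1 a2 a3) (hD z' z'W z'1 z'2 z'3))
      (hD (l • z + z') (add_mem hlz z'W) (by rw [QuadraticMap.polar_add_right, a1, z'1, add_zero])
        (by rw [QuadraticMap.polar_add_right, a2, z'2, add_zero]) (by rw [QuadraticMap.polar_add_left, a3, z'3, add_zero]))
    convert this using 1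
    refine Subtype.ext ?_
    simp only [Submodule.coe_sub, Submodule.coe_add, QuadraticMap.map_add (f := Q), QuadraticMap.polar_add_left,
      QuadraticMap.polar_smul_left, smul_eq_mul, hl]
    match_scalars <;> field_simp <;> ring

/-- The perp of an orbit through a vector of nonzero value, with another direction, contains its whole orthogonal. -/
theorem perp_mem [Fintype C.pact.Orb] {v : C.W} (hv : Q v.1 ≠ 0) {O : C.pact.Orb} (hO : v ∈ C.pact.AO O)
    {u : C.W} (hu : u ∈ C.pact.AO O) (hu' : u.1 ∉ span F {v.1}) {y : C.W} (hy : B y.1 v.1 = 0) :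
    y ∈ C.pact.AO O := by
  obtain ⟨e, f, P, he, hf, hev, hfv⟩ := C.exists_pair_perp v
  have hline : ∀ k : F, (⟨k • e, Submodule.smul_mem _ k he⟩ : C.W) ∈ C.pact.AO O ∧
      (⟨k • f, Submodule.smul_mem _ k hf⟩ : C.W) ∈ C.pact.AO O := by
    have hone : (⟨(1 : F) • e, Submodule.smul_mem _ 1 he⟩ : C.W) ∈ C.pact.AO O ∨
        (⟨(1 : F) • f, Submodule.smul_mem _ 1 hf⟩ : C.W) ∈ C.pact.AO O := by
      by_cases h : B e u.1 ≠ 0 ∨ ∃ z ∈ Wsub Q C.a C.b, B e z = 0 ∧ B f z = 0 ∧ B z v.1 = 0 ∧ B z u.1 ≠ 0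
      · exact Or.inl (C.line_mem hv hO P he hf hev hfv hu h 1)
      push Not at h
      refine Or.inr (C.line_mem hv hO P.symm hf he hfv hev hu (Or.inl fun hfu => hu' ?_) 1)
      have hT : u.1 ∈ span F (Set.range ![C.a, C.b, v.1, e, f]) := by
        rw [← perp_perp Q C.S.hQ (span F (Set.range ![C.a, C.b, v.1, e, f])), HypQuad.mem_perp]
        intro z hz
        rw [mem_perp_range] at hz
        exact h.2 z (mem_Wsub.2 ⟨hz 0, hz 1⟩) (hz 3) (hz 4) (by rw [QuadraticMap.polar_comm]; exact hz 2)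
      rw [Submodule.mem_span_range_iff_exists_fun] at hT
      obtain ⟨c, hc⟩ := hT
      simp only [Fin.sum_univ_five, Matrix.cons_val_zero, Matrix.cons_val_one, Matrix.cons_val] at hc
      obtain ⟨a1, b1⟩ := mem_Wsub.1 he
      obtain ⟨a2, b2⟩ := mem_Wsub.1 hf
      have f1 := C.aW u
      have f2 := C.bW u
      have f3 := h.1
      have f4 := hfu
      have ea : B e C.a = 0 := by rw [QuadraticMap.polar_comm]; exact a1
      have eb : B e C.b = 0 := by rw [QuadraticMap.polar_comm]; exact b1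
      have fa : B f C.a = 0 := by rw [QuadraticMap.polar_comm]; exact a2
      have fb : B f C.b = 0 := by rw [QuadraticMap.polar_comm]; exact b2
      simp only [← hc, QuadraticMap.polar_add_right, QuadraticMap.polar_smul_right, C.P.aa, C.P.hab, C.P.bb, C.P.ba,
        C.aW v, C.bW v, a1, a2, b1, b2, ea, eb, fa, fb, P.aa, P.hab, P.bb, P.ba, hev, hfv, smul_eq_mul, mul_zero,
        mul_one, add_zero, zero_add] at f1 f2 f3 f4
      exact mem_span_singleton.2 ⟨c 2, by rw [← hc, f1, f2, f3, f4]; simp⟩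
    intro k
    rcases hone with h | h
    · refine ⟨?_, C.line_mem hv hO P.symm hf he hfv hev h (Or.inl (by
        rw [QuadraticMap.polar_smul_right, P.ba, smul_eq_mul, mul_one]; exact one_ne_zero)) k⟩
      exact C.line_mem hv hO P he hf hev hfv (C.line_mem hv hO P.symm hf he hfv hev h (Or.inl (by
        rw [QuadraticMap.polar_smul_right, P.ba, smul_eq_mul, mul_one]; exact one_ne_zero)) 1) (Or.inl (by
        rw [QuadraticMap.polar_smul_right, P.hab, smul_eq_mul, mul_one]; exact one_ne_zero)) k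
    · refine ⟨C.line_mem hv hO P he hf hev hfv h (Or.inl (by
        rw [QuadraticMap.polar_smul_right, P.hab, smul_eq_mul, mul_one]; exact one_ne_zero)) k, ?_⟩
      exact C.line_mem hv hO P.symm hf he hfv hev (C.line_mem hv hO P he hf hev hfv h (Or.inl (by
        rw [QuadraticMap.polar_smul_right, P.hab, smul_eq_mul, mul_one]; exact one_ne_zero)) 1) (Or.inl (by
        rw [QuadraticMap.polar_smul_right, P.ba, smul_eq_mul, mul_one]; exact one_ne_zero)) k
  -- the component outside the pair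
  set z := y.1 - B f y.1 • e - B e y.1 • f with hz
  obtain ⟨z1, z2⟩ := mem_Wsub.1 (P.proj y.1)
  have hzW : z ∈ Wsub Q C.a C.b := sub_mem (sub_mem y.2 (Submodule.smul_mem _ _ he)) (Submodule.smul_mem _ _ hf)
  have hzv : B z v.1 = 0 := by
    rw [hz, QuadraticMap.polar_sub_left, QuadraticMap.polar_sub_left, QuadraticMap.polar_smul_left,
      QuadraticMap.polar_smul_left, hy, hev, hfv, smul_zero, smul_zero, sub_zero, sub_zero]
  have h1 := sub_mem (C.mem_of_trivial (C.root_trivial hv P he hf hev hfv hzW z1 z2 hzv) hO (hline 1).2) (hline 1).2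
  have h2 := add_mem (add_mem (add_mem h1 (hline (Q z + B z ((1 : F) • f))).1) (hline (B f y.1)).1) (hline (B e y.1)).2
  convert h2 using 1
  refine Subtype.ext ?_
  simp only [Submodule.coe_add, Submodule.coe_sub, C.compat1_σ, one_smul]
  rw [sg_apply C.S P.ha z1, siegelMap, P.hab, hz]
  module

/-- The perp of an orbit through a vector of nonzero value is everything, or lies on its line. -/
theorem nonsing_member [Fintype C.pact.Orb] {v : C.W} (hv : Q v.1 ≠ 0) {O : C.pact.Orb} (hO : v ∈ C.pact.AO O) :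
    C.pact.AO O = ⊤ ∨ ∀ u ∈ C.pact.AO O, u.1 ∈ span F {v.1} := by
  by_contra hne
  push Not at hne
  obtain ⟨htop, u, hu, hu'⟩ := hne
  obtain ⟨e, f, P, he, hf, hev, hfv⟩ := C.exists_pair_perp v
  have hmem : ∀ (x : ι → F) (hx : x ∈ Wsub Q C.a C.b), B x v.1 = 0 → (⟨x, hx⟩ : C.W) ∈ C.pact.AO O :=
    fun x hx h => C.perp_mem hv hO hu hu' h
  set v' : C.W := ⟨e + Q v.1 • f, add_mem he (Submodule.smul_mem _ _ hf)⟩ with hv'def
  have hv' : Q v'.1 ≠ 0 := by
    show Q (e + Q v.1 • f) ≠ 0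
    rw [P.value]; exact hv
  have hO' : v' ∈ C.pact.AO O := hmem _ _ (by
    rw [QuadraticMap.polar_add_left, QuadraticMap.polar_smul_left, hev, hfv, smul_zero, add_zero])
  have he' : (⟨e, he⟩ : C.W) ∈ C.pact.AO O := hmem _ _ hev
  have he'' : e ∉ span F {v'.1} := fun h => by
    obtain ⟨c, hc⟩ := mem_span_singleton.1 h
    have h1 := congrArg (B e) hc
    rw [show v'.1 = e + Q v.1 • f from rfl, QuadraticMap.polar_smul_right, QuadraticMap.polar_add_right,
      QuadraticMap.polar_smul_right, P.aa, P.hab, zero_add, smul_eq_mul, smul_eq_mul, mul_one, mul_eq_zero] at h1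
    rcases h1 with h1 | h1
    · rw [h1, zero_smul] at hc; exact P.ne hc.symm
    · exact hv h1
  refine htop (eq_top_iff.2 fun y _ => ?_)
  have hvf : B f v'.1 = 1 := by
    show B f (e + Q v.1 • f) = 1
    rw [QuadraticMap.polar_add_right, QuadraticMap.polar_smul_right, P.ba, P.bb, smul_zero, add_zero]
  have hy2 : (⟨y.1 - B y.1 v'.1 • f, sub_mem y.2 (Submodule.smul_mem _ _ hf)⟩ : C.W) ∈ C.pact.AO O := by
    refine C.perp_mem hv' hO' he' he'' ?_
    show B (y.1 - _) v'.1 = 0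
    rw [QuadraticMap.polar_sub_left, QuadraticMap.polar_smul_left, hvf, smul_eq_mul, mul_one, sub_self]
  have := add_mem hy2 (hmem (B y.1 v'.1 • f) (Submodule.smul_mem _ _ hf) (by
    rw [QuadraticMap.polar_smul_left, hfv, smul_zero]))
  convert this using 1
  exact Subtype.ext (sub_add_cancel _ _).symm

end Ctx

end Cfsg.Lib.Known.MinIndexO
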