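import Cfsg.Agent.Known.MinIndexO.Rigid

/-!
Orbits whose perps are totally singular of rank above one: they exist in dimensions seven and eight only, and then the
perps through a singular vector are `q + 1` subspaces with pairwise different spans.
-/

set_option autoImplicit false
set_option linter.unusedSectionVars false
set_option linter.style.haveILetI false

open Matrix Submodule

namespace Cfsg.Lib.Known.MinIndexO

open Cfsg.Lib.Classical Cfsg.Lib.Classical.Refl

universe u

variable {F : Type u} [Field F] [Fintype F] {ι : Type} [Fintype ι] [DecidableEq ι] {Q : QuadraticForm F (ι → F)}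

set_option quotPrecheck false in
local notation "B" => QuadraticMap.polar (⇑Q)

set_option synthInstance.maxHeartbeats 400000

namespace Ctx0

variable (C : Ctx0 Q)

include C

/-- The subspace spanned by the perp of an orbit. -/
def spanO (O : C.pact.Orb) : Submodule F (ι → F) :=
  span F ((fun w : C.W => w.1) '' (C.pact.AO O : Set C.W))

theorem mem_spanO {O : C.pact.Orb} {w : C.W} (hw : w ∈ C.pact.AO O) : w.1 ∈ C.spanO O :=
  subset_span ⟨w, hw, rfl⟩

theorem spanO_le_W (O : C.pact.Orb) : C.spanO O ≤ Wsub Q C.a C.b :=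
  span_le.2 fun _ ⟨w, _, e⟩ => e ▸ w.2

theorem spanO_singular {O : C.pact.Orb} (hA : ∀ w ∈ C.pact.AO O, Q w.1 = 0) :
    ∀ x ∈ C.spanO O, Q x = 0 ∧ ∀ w ∈ C.pact.AO O, B w.1 x = 0 := by
  have h1 : ∀ x ∈ C.spanO O, ∀ w ∈ C.pact.AO O, B w.1 x = 0 := by
    intro x hx w hw
    induction hx using Submodule.span_induction with
    | mem y hy =>
      obtain ⟨u, hu, rfl⟩ := hy
      have := hA _ (add_mem hw hu)
      rwa [Submodule.coe_add, QuadraticMap.map_add (f := Q), hA w hw, hA u hu, zero_add, zero_add] at this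
    | zero => exact QuadraticMap.polar_zero_right Q _
    | add y z _ _ hy hz => rw [QuadraticMap.polar_add_right, hy, hz, add_zero]
    | smul c y _ hy => rw [QuadraticMap.polar_smul_right, hy, smul_zero]
  have h2 : ∀ x ∈ C.spanO O, ∀ y ∈ C.spanO O, B x y = 0 := by
    intro x hx y hy
    induction hx using Submodule.span_induction with
    | mem t ht => obtain ⟨u, hu, rfl⟩ := ht; exact h1 y hy u hu
    | zero => exact QuadraticMap.polar_zero_left Q _
    | add t s _ _ ht hs => rw [QuadraticMap.polar_add_left, ht, hs, add_zero]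
    | smul c t _ ht => rw [QuadraticMap.polar_smul_left, ht, smul_zero]
  intro x hx
  refine ⟨?_, fun w hw => h1 x hx w hw⟩
  induction hx using Submodule.span_induction with
  | mem t ht => obtain ⟨u, hu, rfl⟩ := ht; exact hA u hu
  | zero => exact QuadraticMap.map_zero Q
  | add t s ht' hs' ht hs => rw [QuadraticMap.map_add (f := Q), ht, hs, h2 t ht' s hs']; simp
  | smul c t _ ht => rw [QuadraticMap.map_smul, ht, smul_zero]

theorem polar_spanO {O : C.pact.Orb} (hA : ∀ w ∈ C.pact.AO O, Q w.1 = 0) {x y : ι → F} (hx : x ∈ C.spanO O)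
    (hy : y ∈ C.spanO O) : B x y = 0 :=
  HypQuad.polar_zero_of_singular Q (fun w hw => (C.spanO_singular hA w hw).1) hx hy

theorem finrank_spanO {O : C.pact.Orb} (hA : ∀ w ∈ C.pact.AO O, Q w.1 = 0) :
    2 * Module.finrank F (C.spanO O) + 2 ≤ Fintype.card ι := by
  set U := C.spanO O
  have hsum : U ⊔ span F {C.a} ≤ HypQuad.perp Q (U ⊔ span F {C.a}) := by
    refine HypQuad.le_perp Q fun x hx => ?_
    obtain ⟨y, hy, z, hz, rfl⟩ := Submodule.mem_sup.1 hx
    obtain ⟨c, rfl⟩ := mem_span_singleton.1 hz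
    have hay : B y C.a = 0 := by rw [QuadraticMap.polar_comm]; exact (mem_Wsub.1 (C.spanO_le_W O hy)).1
    rw [WittQuad.val_smul_add, (C.spanO_singular hA y hy).1, C.P.ha, hay]
    ring
  have h1 := Submodule.finrank_mono hsum
  rw [HypQuad.finrank_perp Q C.S.hQ, Module.finrank_fintype_fun_eq_card] at h1
  have hdisj : U ⊓ span F {C.a} = ⊥ := by
    refine eq_bot_iff.2 fun x hx => ?_
    obtain ⟨c, rfl⟩ := mem_span_singleton.1 hx.2
    have := (mem_Wsub.1 (C.spanO_le_W O hx.1)).2
    rw [QuadraticMap.polar_smul_right, C.P.ba, smul_eq_mul, mul_one] at this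
    rw [Submodule.mem_bot, this, zero_smul]
  have h2 := Submodule.finrank_sup_add_finrank_inf_eq U (span F {C.a})
  rw [hdisj, finrank_bot, finrank_span_singleton C.P.ne] at h2
  omega

/-- Transport of spans. -/
theorem spanO_map (g : GG Q) (ga : ac Q g C.a = C.a) (gb : ac Q g C.b = C.b) (O : C.pact.Orb) :
    C.spanO ((C.compat1 g ga gb).map O) = (C.spanO O).map (mat Q g.1).mulVecLin := by
  rw [spanO, spanO, Submodule.map_span, ← Set.image_comp]
  congr 1
  ext x
  constructor
  · rintro ⟨w, hw, rfl⟩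
    have hinj : Function.Injective (C.compat1 g ga gb).σ := fun w w' e => Subtype.ext (ac_inj Q g (by
      rw [← C.compat1_σ g ga gb, ← C.compat1_σ g ga gb, e]))
    obtain ⟨u, rfl⟩ := (Finite.injective_iff_surjective.1 hinj) w
    exact ⟨u, (C.compat1 g ga gb).mem_AO.1 hw, (C.compat1_σ g ga gb u).symm⟩
  · rintro ⟨u, hu, rfl⟩
    exact ⟨(C.compat1 g ga gb).σ u, (C.compat1 g ga gb).mem_AO.2 hu, C.compat1_σ g ga gb u⟩

theorem card_AO_map (Γ : C.pact.Compat) (hinj : Function.Injective Γ.σ) (O : C.pact.Orb) :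
    Nat.card (C.pact.AO (Γ.map O)) = Nat.card (C.pact.AO O) := by
  refine (Nat.card_congr (Equiv.ofBijective (fun w : C.pact.AO O => (⟨Γ.σ w.1, Γ.mem_AO.2 w.2⟩ : C.pact.AO _))
    ⟨fun w w' e => Subtype.ext (hinj (congrArg Subtype.val e)), fun w => ?_⟩)).symm
  obtain ⟨u, hu⟩ := (Finite.injective_iff_surjective.1 hinj) w.1
  exact ⟨⟨u, Γ.mem_AO.1 (hu ▸ w.2)⟩, Subtype.ext hu⟩

theorem compat1_inj (g : GG Q) (ga : ac Q g C.a = C.a) (gb : ac Q g C.b = C.b) :
    Function.Injective (C.compat1 g ga gb).σ := fun w w' e => Subtype.ext (ac_inj Q g (by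
  rw [← C.compat1_σ g ga gb, ← C.compat1_σ g ga gb, e]))

end Ctx0

namespace Ctx

open Ctx0

variable (C : Ctx Q)

include C

/-- Singular vectors are nearly as many as the index. -/
theorem m_sing_le [Fintype C.pact.Orb] {v : C.W} (hv : v ≠ 0) (hQv : Q v.1 = 0) :
    C.m v ≤ Fintype.card F + 1 := by
  classical
  have := Fintype.ofFinite C.W
  let D : Finset C.W := Finset.univ.filter fun w => w ≠ 0 ∧ Q w.1 = 0
  have hD : D.card = C.Ns := by
    rw [Ns, nval, Nat.card_eq_fintype_card, Fintype.card_subtype,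
      ← Finset.card_erase_of_mem (a := (0 : C.W)) (by simp)]
    congr 1
    ext w
    simp [D]
  have h1 := C.mul_mem_le D (by simp [D]) (v := v) fun w hw => by
    obtain ⟨-, hw0, hQw⟩ := Finset.mem_filter.1 hw
    exact C.m_eq hv hw0 one_ne_zero (by rw [hQw, hQv, mul_zero])
  rw [hD] at h1
  by_contra hm
  have h2 := C.small'
  have h3 := C.Ns_low
  have hq := C.hq
  have hL : 4 * 4 ≤ C.L := by
    have hn := C.S.hn
    rw [L, show Fintype.card ι - 6 = (Fintype.card ι - 7) + 1 by omega, pow_succ]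
    calc 4 * 4 ≤ Fintype.card F * Fintype.card F := Nat.mul_le_mul hq hq
      _ ≤ _ := Nat.mul_le_mul_left _ (Nat.le_mul_of_pos_left _ (pow_pos (by omega) _))
  rw [C.pow_sub_two] at h2
  obtain ⟨r, hr⟩ : ∃ r, Fintype.card F = r + 4 := ⟨Fintype.card F - 4, by omega⟩
  rw [hr] at h2 h3 hm
  rw [show r + 4 - 1 = r + 3 by omega] at h2
  rw [show (r + 4) ^ 2 - 1 = r ^ 2 + 8 * r + 15 by
    rw [show (r + 4) ^ 2 = r ^ 2 + 8 * r + 15 + 1 by ring, Nat.add_sub_cancel]] at h3
  have h4 : (r + 6) * C.Ns * (r + 3) ≤ C.H.index * (r + 3) :=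
    Nat.mul_le_mul_right _ ((Nat.mul_le_mul_right _ (by omega)).trans h1)
  have h5 : (r ^ 2 + 8 * r + 14) * C.Ns < (r + 3) + (r + 3) * ((r + 4) ^ 3 * C.L) := by
    nlinarith
  nlinarith [Nat.mul_le_mul_left (r ^ 2 + 8 * r + 14) h3, Nat.mul_le_mul_left (r ^ 3 + 9 * r ^ 2 + 24 * r + 18) hL]

end Ctx

namespace Ctx0

variable (C : Ctx0 Q)

include C

open scoped Classical in
/-- A perp spanning more than a line: the spans through a vector of it. -/
theorem plane_images [Fintype C.pact.Orb] {O : C.pact.Orb} (hA : ∀ w ∈ C.pact.AO O, Q w.1 = 0)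
    {v u : C.W} (hv : v ∈ C.pact.AO O) (hu : u ∈ C.pact.AO O) (huv : u.1 ∉ span F {v.1}) :
    ∃ T : Finset (Submodule F (ι → F)), T ⊆ (C.pact.mem v).image C.spanO ∧
      Fintype.card F ^ (Fintype.card ι - 5) ≤ (T.card - 1) * Fintype.card F ^ (Module.finrank F (C.spanO O) - 1) ∧
      1 ≤ T.card ∧ ∀ U ∈ T, ∃ O' ∈ C.pact.mem v, C.spanO O' = U ∧
        Module.finrank F U = Module.finrank F (C.spanO O) ∧ Nat.card (C.pact.AO O') = Nat.card (C.pact.AO O) := by
  classical
  have := Fintype.ofFinite C.W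
  have hn := C.S.hn
  set U := C.spanO O with hU
  have hUu : u.1 ∈ U := C.mem_spanO hu
  have hUv : v.1 ∈ U := C.mem_spanO hv
  -- a singular partner of `u` orthogonal to `v`
  obtain ⟨x, hxW, hxv, hxu⟩ : ∃ x ∈ Wsub Q C.a C.b, B v.1 x = 0 ∧ B u.1 x ≠ 0 := by
    by_contra hh
    push Not at hh
    have hT : u.1 ∈ span F (Set.range ![C.a, C.b, v.1]) := by
      rw [← perp_perp Q C.S.hQ (span F (Set.range ![C.a, C.b, v.1])), HypQuad.mem_perp]
      intro y hy
      rw [mem_perp_range] at hy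
      rw [QuadraticMap.polar_comm]
      exact hh y (mem_Wsub.2 ⟨hy 0, hy 1⟩) (hy 2)
    rw [Submodule.mem_span_range_iff_exists_fun] at hT
    obtain ⟨c, hc⟩ := hT
    simp only [Fin.sum_univ_three, Matrix.cons_val_zero, Matrix.cons_val_one, Matrix.cons_val] at hc
    have f1 := C.aW u
    have f2 := C.bW u
    simp only [← hc, QuadraticMap.polar_add_right, QuadraticMap.polar_smul_right, C.P.aa, C.P.hab, C.P.bb, C.P.ba,
      C.aW v, C.bW v, smul_eq_mul, mul_zero, mul_one, add_zero, zero_add] at f1 f2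
    exact huv (mem_span_singleton.2 ⟨c 2, by rw [← hc, f1, f2]; simp⟩)
  obtain ⟨x1, hx1W, hx1v, hx1u⟩ : ∃ x1 ∈ Wsub Q C.a C.b, B v.1 x1 = 0 ∧ B u.1 x1 = 1 :=
    ⟨(B u.1 x)⁻¹ • x, Submodule.smul_mem _ _ hxW, by rw [QuadraticMap.polar_smul_right, hxv, smul_zero],
      by rw [QuadraticMap.polar_smul_right, smul_eq_mul, inv_mul_cancel₀ hxu]⟩
  set f := x1 - Q x1 • u.1 with hf
  have hQu : Q u.1 = 0 := hA u hu
  have huu : B u.1 u.1 = 0 := by rw [polar_self_two, hQu, mul_zero]
  have hvu : B v.1 u.1 = 0 := C.polar_spanO hA hUv hUu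
  have P1 : Pair Q u.1 f := by
    refine ⟨hQu, ?_, ?_⟩
    · rw [hf, sub_eq_add_neg, ← neg_smul, WittQuad.val_smul_add, hQu, QuadraticMap.polar_comm (⇑Q) x1 u.1, hx1u]
      ring
    · rw [hf, QuadraticMap.polar_sub_right, QuadraticMap.polar_smul_right, hx1u, huu, smul_zero, sub_zero]
  have hfW : f ∈ Wsub Q C.a C.b := sub_mem hx1W (Submodule.smul_mem _ _ u.2)
  have hvf : B f v.1 = 0 := by
    rw [QuadraticMap.polar_comm, hf, QuadraticMap.polar_sub_right, QuadraticMap.polar_smul_right, hvu, hx1v,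
      smul_zero, sub_zero]
  set T5 := span F (Set.range ![C.a, C.b, v.1, u.1, f]) with hT5
  set Y := HypQuad.perp Q T5 with hY
  have hmemY : ∀ z ∈ Y, z ∈ Wsub Q C.a C.b ∧ B z v.1 = 0 ∧ B z u.1 = 0 ∧ B f z = 0 := by
    intro z hz
    rw [hY, mem_perp_range] at hz
    exact ⟨mem_Wsub.2 ⟨hz 0, hz 1⟩, by rw [QuadraticMap.polar_comm]; exact hz 2,
      by rw [QuadraticMap.polar_comm]; exact hz 3, hz 4⟩
  have hdimY : Fintype.card ι ≤ Module.finrank F Y + 5 := finrank_perp_range C.S _
  have hSt : ∀ z : Y, sg Q f z.1 ∈ C.St v.1 := fun z => by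
    obtain ⟨z1, z2, -, z4⟩ := hmemY z.1 z.2
    exact C.sg_mem_St P1.hb hfW hvf z1 z4 z2
  let g : Y → GG Q := fun z => sg Q f z.1
  let img : Y → C.pact.Orb := fun z => (C.compat1 (g z) (hSt z).1 (hSt z).2.1).map O
  have himg : ∀ z, img z ∈ C.pact.mem v := fun z => by
    rw [Pact.mem_mem, ← C.σ_fix (hSt z)]
    exact (C.compat1 (g z) (hSt z).1 (hSt z).2.1).mem_AO.2 hv
  have hmapdim : ∀ (h : GG Q), Module.finrank F (U.map (mat Q h.1).mulVecLin) = Module.finrank F U := fun h =>
    (LinearEquiv.finrank_eq (Submodule.equivMapOfInjective _ (fun x y e => ac_inj Q h e) U)).symm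
  have hgu : ∀ z : Y, ac Q (g z) u.1 = u.1 + z.1 - Q z.1 • f := fun z => by
    obtain ⟨-, -, z3, z4⟩ := hmemY z.1 z.2
    rw [sg_apply C.S P1.hb z4, siegelMap, P1.ba, z3]
    module
  -- coincidences of images
  have hfib : ∀ z z' : Y, C.spanO (img z) = C.spanO (img z') → (z - z' : Y).1 ∈ U := by
    intro z z' e
    simp only [img] at e
    rw [C.spanO_map, C.spanO_map] at e
    have h1 : ac Q (g z) u.1 ∈ U.map (mat Q (g z').1).mulVecLin := e ▸ ⟨u.1, hUu, rfl⟩
    obtain ⟨y, hy, hy'⟩ := h1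
    have e2 : g z = g z' * g (z - z') := by
      rw [← sg_add C.S P1.hb (hmemY _ z'.2).2.2.2 (hmemY _ (z - z').2).2.2.2, Submodule.coe_sub, add_sub_cancel]
    have h2 : ac Q (g (z - z')) u.1 ∈ U := by
      have : ac Q (g z') y = ac Q (g z') (ac Q (g (z - z')) u.1) := by rw [← ac_mul, ← e2]; exact hy'
      exact ac_inj Q (g z') this ▸ hy
    rw [hgu] at h2
    set δ := (z - z').1 with hδ
    have h3 : δ - Q δ • f ∈ U := by
      have := sub_mem h2 hUu
      rwa [show u.1 + δ - Q δ • f - u.1 = δ - Q δ • f by abel] at this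
    have h4 := C.polar_spanO hA hUu h3
    obtain ⟨-, -, d3, -⟩ := hmemY δ (z - z').2
    rw [QuadraticMap.polar_comm] at d3
    rw [QuadraticMap.polar_sub_right, QuadraticMap.polar_smul_right, d3, P1.hab, smul_eq_mul, mul_one, zero_sub,
      neg_eq_zero] at h4
    rwa [h4, zero_smul, sub_zero] at h3
  -- a vector of nonzero value in `Y`
  obtain ⟨z0, hz0⟩ : ∃ z0 : Y, Q z0.1 ≠ 0 := by
    by_contra hh
    push Not at hh
    have hle : Y ≤ span F {v.1} := by
      intro y hy
      have hyT : y ∈ T5 := by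
        rw [← perp_perp Q C.S.hQ T5, HypQuad.mem_perp]
        exact fun y' hy' => HypQuad.polar_zero_of_singular Q (fun w hw => hh ⟨w, hw⟩) hy' hy
      obtain ⟨hyW, -, y3, y4⟩ := hmemY y hy
      rw [QuadraticMap.polar_comm] at y3
      rw [hT5, Submodule.mem_span_range_iff_exists_fun] at hyT
      obtain ⟨c, hc⟩ := hyT
      simp only [Fin.sum_univ_five, Matrix.cons_val_zero, Matrix.cons_val_one, Matrix.cons_val] at hc
      obtain ⟨f1, f2⟩ := mem_Wsub.1 hyW
      obtain ⟨a2, b2⟩ := mem_Wsub.1 hfW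
      have ua : B u.1 C.a = 0 := by rw [QuadraticMap.polar_comm]; exact C.aW u
      have ub : B u.1 C.b = 0 := by rw [QuadraticMap.polar_comm]; exact C.bW u
      have uv : B u.1 v.1 = 0 := by rw [QuadraticMap.polar_comm]; exact hvu
      have fa : B f C.a = 0 := by rw [QuadraticMap.polar_comm]; exact a2
      have fb : B f C.b = 0 := by rw [QuadraticMap.polar_comm]; exact b2
      simp only [← hc, QuadraticMap.polar_add_right, QuadraticMap.polar_smul_right, C.P.aa, C.P.hab, C.P.bb, C.P.ba,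
        C.aW v, C.bW v, C.aW u, C.bW u, a2, b2, ua, ub, uv, fa, fb, hvf, P1.aa, P1.hab, P1.bb, P1.ba, smul_eq_mul,
        mul_zero, mul_one, add_zero, zero_add] at f1 f2 y3 y4
      exact mem_span_singleton.2 ⟨c 2, by rw [← hc, f1, f2, y3, y4]; simp⟩
    have := Submodule.finrank_mono hle
    have h1 : Module.finrank F (span F ({v.1} : Set (ι → F))) ≤ 1 := (finrank_span_le_card _).trans (by simp)
    omega
  obtain ⟨z01, z02, z03, z04⟩ := hmemY z0.1 z0.2
  set w0 := (Q z0.1)⁻¹ • z0.1 with hw0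
  have hw0u : B u.1 w0 = 0 := by
    rw [hw0, QuadraticMap.polar_smul_right, QuadraticMap.polar_comm, z03, smul_zero]
  have hs0 : sg Q u.1 w0 ∈ C.St v.1 := C.sg_mem_St hQu u.2 (C.polar_spanO hA hUu hUv)
    (Submodule.smul_mem _ _ z01) hw0u (by rw [hw0, QuadraticMap.polar_smul_left, z02, smul_zero])
  set h := sg Q u.1 w0 * g z0 with hh
  have hhSt : h ∈ C.St v.1 := mul_mem hs0 (hSt z0)
  set O1 := (C.compat1 h hhSt.1 hhSt.2.1).map O with hO1
  have hhu : ac Q h u.1 = -Q z0.1 • f := by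
    rw [hh, ac_mul, hgu, sg_apply C.S hQu hw0u, siegelMap, hw0]
    simp only [QuadraticMap.polar_add_right, QuadraticMap.polar_sub_right, QuadraticMap.polar_smul_right,
      QuadraticMap.polar_smul_left, QuadraticMap.map_smul, smul_eq_mul, huu, P1.hab,
      show B u.1 z0.1 = 0 by rw [QuadraticMap.polar_comm]; exact z03, z03,
      show B z0.1 f = 0 by rw [QuadraticMap.polar_comm]; exact z04, polar_self_two Q z0.1]
    match_scalars <;> field_simp <;> ring
  have hextra : ∀ z, C.spanO (img z) ≠ C.spanO O1 := by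
    intro z e
    simp only [img, hO1] at e
    rw [C.spanO_map, C.spanO_map] at e
    have h1 : ac Q h u.1 ∈ U.map (mat Q (g z).1).mulVecLin := e ▸ ⟨u.1, hUu, rfl⟩
    obtain ⟨y, hy, hy'⟩ := h1
    obtain ⟨-, -, -, z4⟩ := hmemY z.1 z.2
    have hfix : ac Q (g z) (-Q z0.1 • f) = -Q z0.1 • f := by
      rw [ac_smul, sg_apply C.S P1.hb z4, siegelMap, P1.bb,
        show B z.1 f = 0 by rw [QuadraticMap.polar_comm]; exact z4]
      simp
    have : ac Q (g z) y = ac Q (g z) (-Q z0.1 • f) := by rw [hfix, ← hhu]; exact hy'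
    have h2 := C.polar_spanO hA hUu (ac_inj Q _ this ▸ hy)
    rw [QuadraticMap.polar_smul_right, P1.hab, smul_eq_mul, mul_one, neg_eq_zero] at h2
    exact hz0 h2
  let T0 : Finset (Submodule F (ι → F)) := (Finset.univ : Finset Y).image fun z => C.spanO (img z)
  refine ⟨insert (C.spanO O1) T0, ?_, ?_, Finset.card_pos.2 (Finset.insert_nonempty _ _), ?_⟩
  · intro U' hU'
    rw [Finset.mem_insert] at hU'
    rcases hU' with rfl | hU'
    · refine Finset.mem_image.2 ⟨O1, ?_, rfl⟩
      rw [Pact.mem_mem, ← C.σ_fix hhSt]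
      exact (C.compat1 h hhSt.1 hhSt.2.1).mem_AO.2 hv
    · obtain ⟨z, -, rfl⟩ := Finset.mem_image.1 hU'
      exact Finset.mem_image.2 ⟨img z, himg z, rfl⟩
  · have hnot : C.spanO O1 ∉ T0 := fun h' => by
      obtain ⟨z, -, e⟩ := Finset.mem_image.1 h'
      exact hextra z e
    rw [Finset.card_insert_of_notMem hnot, Nat.add_sub_cancel]
    have hfin : Module.finrank F ↥(U ⊓ Y) ≤ Module.finrank F U - 1 := by
      have : U ⊓ Y < U := lt_of_le_of_ne inf_le_left fun e => by
        have : u.1 ∈ Y := (e.ge hUu).2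
        have := (hmemY _ this).2.2.2
        rw [P1.ba] at this
        exact one_ne_zero this
      have := Submodule.finrank_lt_finrank_of_lt this
      omega
    have h2 : (Finset.univ : Finset Y).card ≤ Fintype.card F ^ (Module.finrank F U - 1) * T0.card := by
      refine Finset.card_le_mul_card_image _ _ fun U' hU' => ?_
      obtain ⟨z', -, rfl⟩ := Finset.mem_image.1 hU'
      refine le_trans ?_ (Nat.pow_le_pow_right Fintype.card_pos hfin)
      rw [← Nat.card_eq_fintype_card, ← Module.natCard_eq_pow_finrank (K := F) (V := ↥(U ⊓ Y)),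
        Nat.card_eq_fintype_card, ← Finset.card_univ]
      exact Finset.card_le_card_of_injOn (fun z => if hz : (z - z' : Y).1 ∈ U then ⟨_, hz, (z - z').2⟩ else 0)
        (fun z _ => Finset.mem_univ _) fun z hz z2 hz2 e => by
          simp only [Finset.coe_filter, Set.mem_setOf_eq] at hz hz2
          simp only [dif_pos (hfib z z' hz.2), dif_pos (hfib z2 z' hz2.2)] at e
          exact Subtype.ext (sub_left_injective (congrArg Subtype.val e))
    rw [Finset.card_univ, ← Nat.card_eq_fintype_card, Module.natCard_eq_pow_finrank (K := F), Nat.card_eq_fintype_card,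
      mul_comm] at h2
    exact (Nat.pow_le_pow_right Fintype.card_pos (by omega)).trans h2
  · intro U' hU'
    rw [Finset.mem_insert] at hU'
    rcases hU' with rfl | hU'
    · refine ⟨O1, ?_, rfl, by rw [hO1, C.spanO_map, hmapdim], C.card_AO_map _ (C.compat1_inj _ _ _) O⟩
      rw [Pact.mem_mem, ← C.σ_fix hhSt]
      exact (C.compat1 h hhSt.1 hhSt.2.1).mem_AO.2 hv
    · obtain ⟨z, -, rfl⟩ := Finset.mem_image.1 hU'
      exact ⟨img z, himg z, rfl, by simp only [img]; rw [C.spanO_map, hmapdim],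
        C.card_AO_map _ (C.compat1_inj _ _ _) O⟩

end Ctx0

namespace Ctx

open Ctx0

variable (C : Ctx Q)

include C

/-- The shape of a perp spanning more than a line. -/
theorem plane_shape [Fintype C.pact.Orb] {O : C.pact.Orb} (hA : ∀ w ∈ C.pact.AO O, Q w.1 = 0) {v u : C.W}
    (hv0 : v ≠ 0) (hv : v ∈ C.pact.AO O) (hu : u ∈ C.pact.AO O) (huv : u.1 ∉ span F {v.1}) :
    Fintype.card ι ≤ 8 ∧ C.m v = Fintype.card F + 1 ∧ Set.InjOn C.spanO (C.pact.mem v : Set C.pact.Orb) ∧
      ∀ O' ∈ C.pact.mem v, Module.finrank F (C.spanO O') = Fintype.card ι - 5 ∧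
        Nat.card (C.pact.AO O') = Nat.card (C.pact.AO O) := by
  classical
  have hm := C.m_sing_le hv0 (hA v hv)
  have hk := C.finrank_spanO hA
  obtain ⟨T, hT, hcount, hT1, hTmem⟩ := C.plane_images hA hv hu huv
  set k := Module.finrank F (C.spanO O)
  have hTle : T.card ≤ C.m v := (Finset.card_le_card hT).trans Finset.card_image_le
  have hn := C.S.hn
  have hq := C.hq
  have hk2 : 2 ≤ k := by
    have hlt : span F {v.1} < C.spanO O := lt_of_le_of_ne
      ((span_singleton_le_iff_mem _ _).2 (C.mem_spanO hv)) fun e => huv (e ▸ C.mem_spanO hu)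
    have := Submodule.finrank_lt_finrank_of_lt hlt
    rw [finrank_span_singleton (fun e => hv0 (Subtype.ext e))] at this
    omega
  have hle : Fintype.card ι - 5 ≤ k := by
    by_contra hlt
    have h1 : Fintype.card F ^ (Fintype.card ι - 5) ≤ Fintype.card F * Fintype.card F ^ (k - 1) :=
      hcount.trans (Nat.mul_le_mul_right _ (by omega))
    rw [← pow_succ'] at h1
    exact absurd h1 (not_le.2 (Nat.pow_lt_pow_right (by omega) (by omega)))
  have hkeq : k = Fintype.card ι - 5 := by omega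
  have hT2 : C.m v ≤ T.card := by
    rw [← hkeq, show k = (k - 1) + 1 by omega, pow_succ', Nat.add_sub_cancel] at hcount
    have := Nat.le_of_mul_le_mul_right hcount (pow_pos (by omega) _)
    omega
  have himg : T = (C.pact.mem v).image C.spanO :=
    Finset.eq_of_subset_of_card_le hT (Finset.card_image_le.trans hT2)
  have hinj : Set.InjOn C.spanO (C.pact.mem v : Set C.pact.Orb) := by
    refine Finset.card_image_iff.1 ?_
    rw [← himg]
    exact le_antisymm hTle hT2
  refine ⟨by omega, ?_, hinj, fun O' hO' => ?_⟩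
  · rw [← hkeq, show k = (k - 1) + 1 by omega, pow_succ', Nat.add_sub_cancel] at hcount
    have := Nat.le_of_mul_le_mul_right hcount (pow_pos (by omega) _)
    omega
  · obtain ⟨O'', hO'', e, e1, e2⟩ := hTmem (C.spanO O') (by
      rw [himg]; exact Finset.mem_image_of_mem _ hO')
    obtain rfl := hinj hO'' hO' e
    exact ⟨e1.trans hkeq, e2⟩

end Ctx

end Cfsg.Lib.Known.MinIndexO
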