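import Cfsg.Agent.Known.MinIndexO.Main

/-!
Tools for the fields of two and three elements.
-/

set_option autoImplicit false
set_option linter.unusedSectionVars false
set_option linter.style.haveILetI false

open Matrix Submodule

namespace Cfsg.Lib.Known.MinIndexO

open Cfsg.Lib.Classical Cfsg.Lib.Classical.Refl

universe u

variable {F : Type u} [Field F] [Fintype F] {ι : Type} [Fintype ι] [DecidableEq ι] {Q : QuadraticForm F (ι → F)}

set_option quotPrecheck false in
local notation "B" => QuadraticMap.polar (⇑Q)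

set_option synthInstance.maxHeartbeats 400000

/-- Two reflections of equal value. -/
theorem exists_rr (hQ : (QuadraticMap.polarBilin Q).Nondegenerate) {u v : ι → F} (hu : Q u ≠ 0) (h : Q v = Q u) :
    ∃ g : GG Q, ∀ x, ac Q g x =
      (x - ((Q u)⁻¹ * B v x) • v) - ((Q u)⁻¹ * B u (x - ((Q u)⁻¹ * B v x) • v)) • u := by
  have hv : Q v ≠ 0 := h ▸ hu
  refine ⟨⟨refl Q u hu * refl Q v hv, (OmegaCls.omega_iff _).2 ?_⟩, fun x => ?_⟩
  · rw [map_mul, OmegaCls.cls_eq hQ hu hv ⟨Q u, by rw [h]⟩, OmegaCls.cls_sq]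
  · show mat Q (refl Q u hu * refl Q v hv) *ᵥ x = _
    rw [mat, mulVec_mul, coe_refl, coe_refl, mulVec_eq Q v x, mulVec_eq, h]

/-- An isometry agrees with an element of `Ω` on a subspace whose perp carries every nonzero value. -/
theorem agree_val (S : Setting Q) {W : Submodule F (ι → F)}
    (hW : ∀ r : F, r ≠ 0 → ∃ y ∈ HypQuad.perp Q W, Q y = r) (E : (ι → F) ≃ₗ[F] (ι → F)) (hE : ∀ x, Q (E x) = Q x) :
    ∃ g : GG Q, ∀ x ∈ W, ac Q g x = E x := by
  obtain ⟨g, hg⟩ := exists_of_equiv Q E hE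
  let Fix : Subgroup (Cfsg.isometryGroup F (⇑Q)) :=
    { carrier := {k | ∀ x ∈ W, mat Q k *ᵥ x = x}
      mul_mem' := fun {a b} ha hb x hx => by rw [mat, mulVec_mul]; exact (congrArg _ (hb x hx)).trans (ha x hx)
      one_mem' := fun x _ => Matrix.one_mulVec x
      inv_mem' := fun {a} ha x hx => by
        conv_lhs => rw [← ha x hx]
        exact mulVec_inv_cancel Q a x }
  have hd : Fintype.card F ≠ 2 ∨ Fintype.card ι ≠ 4 := Or.inr (by have := S.hn; omega)
  obtain ⟨x, hx, hxg⟩ := OmegaCls.adjust S.hQ hd Fix (fun v hv => by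
    obtain ⟨y, hy, hval⟩ := hW (Q v) hv
    have hne : Q y ≠ 0 := by rw [hval]; exact hv
    refine ⟨refl Q y hne, fun z hz => ?_, OmegaCls.cls_eq S.hQ hne hv ⟨Q v, by rw [hval]⟩⟩
    refine fix Q _ z ?_
    rw [QuadraticMap.polar_comm]
    exact (HypQuad.mem_perp Q).1 hy z hz) g⁻¹
  refine ⟨⟨x * g⁻¹, hxg⟩⁻¹, fun y hy => ?_⟩
  show mat Q (x * g⁻¹)⁻¹ *ᵥ y = _
  rw [_root_.mul_inv_rev, inv_inv, mat, mulVec_mul]
  refine Eq.trans ?_ (hg y)
  exact congrArg _ ((Fix.inv_mem hx) y hy)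

/-- The perp of a nondegenerate subspace is nondegenerate. -/
theorem nd_perp (hQ : (QuadraticMap.polarBilin Q).Nondegenerate) {T : Submodule F (ι → F)}
    (hT : ∀ x ∈ T, (∀ y ∈ T, B y x = 0) → x = 0) : FormNormal.ND Q (HypQuad.perp Q T) := by
  intro x hx h
  refine hT x ?_ fun y hy => (HypQuad.mem_perp Q).1 hx y hy
  rw [← perp_perp Q hQ T, HypQuad.mem_perp]
  intro y hy
  rw [QuadraticMap.polar_comm]
  exact h y hy

namespace Ctx0

variable (C : Ctx0 Q)

include C

/-- The perp of some vectors of the complement, inside the complement. -/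
theorem finrank_W_perp {k : ℕ} (s : Fin k → ι → F) :
    Fintype.card ι ≤ Module.finrank F (HypQuad.perp Q (span F (Set.range (Fin.cons C.a (Fin.cons C.b s))))) + (k + 2) :=
  finrank_perp_range C.S _

theorem mem_W_perp {k : ℕ} {s : Fin k → ι → F} {x : ι → F} :
    x ∈ HypQuad.perp Q (span F (Set.range (Fin.cons C.a (Fin.cons C.b s)))) ↔
      x ∈ Wsub Q C.a C.b ∧ ∀ i, B (s i) x = 0 := by
  rw [mem_perp_range, Fin.forall_fin_succ, Fin.forall_fin_succ, mem_Wsub, and_assoc]
  simp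

/-- An element fixing the pair and a vector moves one vector of the complement to a similar one. -/
theorem move_slice {v x x' : C.W} (hx : x.1 ∉ span F {v.1}) (hx' : x'.1 ∉ span F {v.1}) (hQ : Q x.1 = Q x'.1)
    (hB : B v.1 x.1 = B v.1 x'.1)
    (hval : ∀ r : F, r ≠ 0 → ∃ y ∈ Wsub Q C.a C.b, B v.1 y = 0 ∧ B x.1 y = 0 ∧ Q y = r) :
    ∃ g : ↥(C.St v.1), ac Q g.1 x.1 = x'.1 := by
  have hnot : ∀ z : C.W, z.1 ∉ span F {v.1} → z.1 ∉ span F (Set.range ![C.a, C.b, v.1]) := by
    intro z hz h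
    rw [Submodule.mem_span_range_iff_exists_fun] at h
    obtain ⟨c, hc⟩ := h
    simp only [Fin.sum_univ_three, Matrix.cons_val_zero, Matrix.cons_val_one, Matrix.cons_val] at hc
    have f1 := C.aW z
    have f2 := C.bW z
    simp only [← hc, QuadraticMap.polar_add_right, QuadraticMap.polar_smul_right, C.P.aa, C.P.hab, C.P.bb, C.P.ba,
      C.aW v, C.bW v, smul_eq_mul, mul_zero, mul_one, add_zero, zero_add] at f1 f2
    exact hz (mem_span_singleton.2 ⟨c 2, by rw [← hc, f1, f2]; simp⟩)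
  obtain ⟨E, hE, hfix, hm⟩ := WittQuad.exists_move_fix Q C.S.hQ (span F (Set.range ![C.a, C.b, v.1]))
    (hnot x hx) (hnot x' hx') hQ (fun w hw => by
      rw [Submodule.mem_span_range_iff_exists_fun] at hw
      obtain ⟨c, rfl⟩ := hw
      simp only [Fin.sum_univ_three, Matrix.cons_val_zero, Matrix.cons_val_one, Matrix.cons_val,
        QuadraticMap.polar_add_left, QuadraticMap.polar_smul_left, C.aW x, C.bW x, C.aW x', C.bW x', hB])
  obtain ⟨g, hg⟩ := agree_val C.S (W := span F (Set.range ![C.a, C.b, v.1, x.1])) (fun r hr => by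
    obtain ⟨y, hy, h1, h2, h3⟩ := hval r hr
    refine ⟨y, (mem_perp_range _ _).2 fun i => ?_, h3⟩
    fin_cases i
    exacts [(mem_Wsub.1 hy).1, (mem_Wsub.1 hy).2, h1, h2]) E hE
  refine ⟨⟨g, ?_, ?_, ?_⟩, (hg _ (subset_span ⟨3, rfl⟩)).trans hm⟩
  · exact (hg _ (subset_span ⟨0, rfl⟩)).trans (hfix _ (subset_span ⟨0, rfl⟩))
  · exact (hg _ (subset_span ⟨1, rfl⟩)).trans (hfix _ (subset_span ⟨1, rfl⟩))
  · exact (hg _ (subset_span ⟨2, rfl⟩)).trans (hfix _ (subset_span ⟨2, rfl⟩))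

/-- A similar vector lies in a similar perp through the same vector. -/
theorem exists_image [Fintype C.pact.Orb] {v x x' : C.W} {O : C.pact.Orb} (hv : v ∈ C.pact.AO O)
    (hxO : x ∈ C.pact.AO O) (g : ↥(C.St v.1)) (hg : ac Q g.1 x.1 = x'.1) :
    ∃ O' ∈ C.pact.mem v, x' ∈ C.pact.AO O' ∧ Nat.card (C.pact.AO O') = Nat.card (C.pact.AO O) := by
  set Γ := C.compat1 g.1 g.2.1 g.2.2.1
  refine ⟨Γ.map O, C.pact.mem_mem.2 ?_, ?_, C.card_AO_map Γ (C.σ_inj Γ) O⟩
  · rw [← C.σ_fix g.2]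
    exact Γ.mem_AO.2 hv
  · have e : Γ.σ x = x' := Subtype.ext ((C.compat1_σ _ _ _ x).trans hg)
    rw [← e]
    exact Γ.mem_AO.2 hxO

/-- A set covered by some orbits. -/
theorem cover_card [Fintype C.pact.Orb] [Fintype C.W] (D : Finset C.W) (T : Finset C.pact.Orb) (k : ℕ)
    [∀ O : C.pact.Orb, DecidablePred (· ∈ C.pact.AO O)]
    (hcov : ∀ x ∈ D, ∃ O ∈ T, x ∈ C.pact.AO O) (hk : ∀ O ∈ T, (D.filter (· ∈ C.pact.AO O)).card ≤ k) :
    D.card ≤ T.card * k := by
  classical
  have h : D ⊆ T.biUnion fun O => D.filter (· ∈ C.pact.AO O) := fun x hx => by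
    obtain ⟨O, hO, hxO⟩ := hcov x hx
    exact Finset.mem_biUnion.2 ⟨O, hO, Finset.mem_filter.2 ⟨hx, hxO⟩⟩
  exact (Finset.card_le_card h).trans (Finset.card_biUnion_le_card_mul _ _ _ hk)

/-- A transport of order prime to the characteristic keeping an orbit has a fixed point on it. -/
theorem exists_fixed' (Γ : C.pact.Compat) {O : C.pact.Orb} (hO : Γ.map O = O) (k : ℕ) (hk : (k : F) ≠ 0)
    (hpow : ∀ x, (⇑Γ.g)^[k] x = x) : ∃ y, C.pact.orb y = O ∧ Γ.g y = y := by
  obtain ⟨x0, rfl⟩ := C.pact.orb_surj O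
  obtain ⟨v0, hv0⟩ := C.pact.orb_eq.1 hO.symm
  let v : ℕ → C.W := fun i => Nat.rec 0 (fun _ w => Γ.π w + v0) i
  have hsucc : ∀ i, v (i + 1) = Γ.π (v i) + v0 := fun i => rfl
  have hit : ∀ i, (⇑Γ.g)^[i] x0 = C.pact.f (v i) x0 := by
    intro i
    induction i with
    | zero => exact (C.pact.f_zero x0).symm
    | succ i ih =>
      rw [Function.iterate_succ_apply', ih, Γ.comm, hsucc, C.pact.f_add, hv0]
  -- a multiple of one modulo the characteristic inverts `k`
  obtain ⟨p, hp⟩ := CharP.exists F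
  have hp' : p.Prime := CharP.char_is_prime F p
  haveI := Fact.mk hp'
  obtain ⟨j, hj⟩ : ∃ j : ℕ, ((j * k : ℕ) : F) = 1 := by
    have hk' : (k : ZMod p) ≠ 0 := fun h => hk (by
      rw [ZMod.natCast_eq_zero_iff] at h
      rwa [CharP.cast_eq_zero_iff F p])
    refine ⟨((k : ZMod p)⁻¹).val, ?_⟩
    have : (((((k : ZMod p)⁻¹).val * k : ℕ)) : ZMod p) = 1 := by
      rw [Nat.cast_mul, ZMod.natCast_zmod_val, inv_mul_cancel₀ hk']
    have := congrArg (ZMod.castHom (dvd_refl p) F) this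
    rwa [map_natCast, map_one] at this
  have hone : ∀ w : C.W, (j * k) • w = w := fun w => by
    rw [← Nat.cast_smul_eq_nsmul F, hj, one_smul]
  set w := j • ∑ i ∈ Finset.range k, v i with hw
  refine ⟨C.pact.f w x0, C.pact.orb_f w x0, ?_⟩
  have h1 : ∑ i ∈ Finset.range k, v (i + 1) = (∑ i ∈ Finset.range k, Γ.π (v i)) + k • v0 := by
    simp only [hsucc]
    rw [Finset.sum_add_distrib, Finset.sum_const, Finset.card_range]
  have h2 : ∑ i ∈ Finset.range k, v (i + 1) + v 0 = ∑ i ∈ Finset.range k, v i + v k := by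
    rw [← Finset.sum_range_succ', Finset.sum_range_succ]
  have h3 : Γ.π w + v0 = w + j • v k := by
    have hv00 : v 0 = 0 := rfl
    rw [hv00, add_zero, h1] at h2
    rw [hw, map_nsmul, map_sum, ← smul_add, ← h2, smul_add, smul_smul, hone]
  have hvk : j • v k ∈ C.pact.K x0 := AddSubgroup.nsmul_mem _ (C.pact.mem_K.2 (by rw [← hit, hpow])) j
  rw [Γ.comm, ← hv0, ← C.pact.f_add, h3, C.pact.f_add]
  congr 1

/-- The perps are subspaces over a prime field. -/
theorem smul_mem_AO (hp : (Fintype.card F).Prime) {O : C.pact.Orb} {w : C.W} (hw : w ∈ C.pact.AO O) (k : F) :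
    k • w ∈ C.pact.AO O := by
  haveI := Fact.mk hp
  haveI : CharP F (Fintype.card F) := charP_of_card_eq_prime rfl
  obtain ⟨k', rfl⟩ := (ZMod.castHom_bijective F (n := Fintype.card F) rfl).2 k
  rw [← ZMod.natCast_zmod_val k', map_natCast, Nat.cast_smul_eq_nsmul]
  exact AddSubgroup.nsmul_mem _ hw _

/-- A perp is the space it spans over a prime field. -/
theorem spanO_eq (hp : (Fintype.card F).Prime) {O : C.pact.Orb} {x : ι → F} (hx : x ∈ C.spanO O) :
    ∃ hW : x ∈ Wsub Q C.a C.b, (⟨x, hW⟩ : C.W) ∈ C.pact.AO O := by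
  induction hx using Submodule.span_induction with
  | mem y hy =>
    obtain ⟨u, hu, rfl⟩ := hy
    exact ⟨u.2, hu⟩
  | zero => exact ⟨zero_mem _, zero_mem _⟩
  | add y z _ _ hy hz =>
    obtain ⟨h1, h2⟩ := hy
    obtain ⟨h3, h4⟩ := hz
    exact ⟨add_mem h1 h3, add_mem h2 h4⟩
  | smul c y _ hy =>
    obtain ⟨h1, h2⟩ := hy
    exact ⟨Submodule.smul_mem _ c h1, C.smul_mem_AO hp h2 c⟩

theorem card_AO_pow (hp : (Fintype.card F).Prime) (O : C.pact.Orb) :
    Nat.card (C.pact.AO O) = Fintype.card F ^ Module.finrank F (C.spanO O) := by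
  rw [← Nat.card_eq_fintype_card (α := F), ← Module.natCard_eq_pow_finrank (K := F) (V := C.spanO O)]
  refine Nat.card_congr (Equiv.ofBijective (fun w : C.pact.AO O => (⟨w.1.1, C.mem_spanO w.2⟩ : C.spanO O))
    ⟨fun w w' e => Subtype.ext (Subtype.ext (congrArg (fun t : C.spanO O => t.1) e)), fun x => ?_⟩)
  obtain ⟨hW, h⟩ := C.spanO_eq hp x.2
  exact ⟨⟨⟨x.1, hW⟩, h⟩, rfl⟩

theorem card_K (x : C.X) : Nat.card (C.pact.K x) * Nat.card (C.pact.A x) = Nat.card C.W := by
  rw [Pact.A, C.pact.card_perp, mul_comm, AddSubgroup.index_mul_card]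

/-- Perps with a large orbit have a small stabiliser, which is met by every vector of some values. -/
theorem big_bound [Fintype C.pact.Orb] [Fintype C.W] (D : Finset C.W) (hD : (0 : C.W) ∉ D) (x : C.X)
    (hval : ∀ w ∈ D, ∃ v ∈ C.pact.K x, v ≠ 0 ∧ Q v.1 = Q w.1) :
    D.card * Nat.card (C.pact.A x) * Nat.card (C.pact.A x) ≤
      C.H.index * (Nat.card C.W - Nat.card (C.pact.A x)) := by
  classical
  set s := Nat.card (C.pact.A x) with hs
  let S : Finset C.pact.Orb := Finset.univ.filter fun O => Nat.card (C.pact.AO O) = s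
  let KO : C.pact.Orb → Finset C.W := fun O =>
    (Finset.univ.filter fun w => ∀ u ∈ C.pact.AO O, C.pact.χ w u = 1).erase 0
  have hcov : D ⊆ S.biUnion KO := by
    intro w hw
    obtain ⟨v, hv, hv0, hQ⟩ := hval w hw
    obtain ⟨g, g1, g2, g3⟩ := move_W C.S C.P v.2 w.2 (fun e => hv0 (Subtype.ext e))
      (fun e => hD ((show w = 0 from Subtype.ext e) ▸ hw)) hQ
    set Γ := C.compat1 g g1 g2
    have hπ : Γ.π v = w := Subtype.ext ((one_smul F _).trans g3)
    have hc : Nat.card (C.pact.AO (Γ.map (C.pact.orb x))) = s := C.card_AO_map Γ (C.σ_inj Γ) _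
    refine Finset.mem_biUnion.2 ⟨Γ.map (C.pact.orb x), Finset.mem_filter.2 ⟨Finset.mem_univ _, hc⟩,
      Finset.mem_erase.2 ⟨fun e => hD (e ▸ hw), Finset.mem_filter.2 ⟨Finset.mem_univ _, ?_⟩⟩⟩
    have hK : w ∈ C.pact.K (Γ.g x) := hπ ▸ Γ.mem_K.2 hv
    exact fun u hu => C.pact.mem_K_iff.1 hK u hu
  have hK : ∀ O ∈ S, (KO O).card * s ≤ Nat.card C.W - s := by
    intro O hO
    obtain ⟨y, rfl⟩ := C.pact.orb_surj O
    have hy : Nat.card (C.pact.A y) = s := (Finset.mem_filter.1 hO).2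
    have e : (KO (C.pact.orb y)).card + 1 = Nat.card (C.pact.K y) := by
      rw [Finset.card_erase_add_one (Finset.mem_filter.2 ⟨Finset.mem_univ _, fun u _ => C.pact.χ_zero_left u⟩),
        Nat.card_eq_fintype_card, Fintype.card_subtype]
      congr 1
      ext w
      simp only [Finset.mem_filter, Finset.mem_univ, true_and]
      exact (C.pact.mem_K_iff (x := y)).symm
    have := C.card_K y
    rw [← e, hy, add_mul, one_mul] at this
    omega
  have h1 : D.card ≤ ∑ O ∈ S, (KO O).card := (Finset.card_le_card hcov).trans Finset.card_biUnion_le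
  have h2 : S.card * s ≤ C.H.index := by
    refine le_trans ?_ ((C.pact.sum_le S).trans (le_of_eq C.card_X))
    rw [Finset.sum_congr rfl fun O hO => (Finset.mem_filter.1 hO).2, Finset.sum_const, smul_eq_mul]
  calc D.card * s * s ≤ (∑ O ∈ S, (KO O).card) * s * s :=
        Nat.mul_le_mul_right _ (Nat.mul_le_mul_right _ h1)
    _ = (∑ O ∈ S, (KO O).card * s) * s := by rw [Finset.sum_mul]
    _ ≤ (S.card * (Nat.card C.W - s)) * s := Nat.mul_le_mul_right _ (by
        rw [← smul_eq_mul, ← Finset.sum_const]; exact Finset.sum_le_sum hK)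
    _ = S.card * s * (Nat.card C.W - s) := by ring
    _ ≤ _ := Nat.mul_le_mul_right _ h2

/-- Lines through the vectors of a class. -/
theorem line_count [Fintype C.pact.Orb] [Fintype C.W] {O0 : C.pact.Orb} [DecidableEq C.pact.Orb]
    (h0 : C.pact.AO O0 = ⊤) (hline : ∀ O, O ≠ O0 → Nat.card (C.pact.AO O) ≤ Fintype.card F)
    (D : Finset C.W) (hD : (0 : C.W) ∉ D) {O : C.pact.Orb} (hO : O ≠ O0) {v : C.W} (hv : v ∈ C.pact.AO O)
    (hv0 : v ≠ 0) (hDv : ∀ w ∈ D, Q w.1 = Q v.1) :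
    Fintype.card F * D.card ≤ (Fintype.card F - 1) * ∑ O ∈ Finset.univ.erase O0, Nat.card (C.pact.AO O) := by
  classical
  let S : Finset C.pact.Orb := (Finset.univ.erase O0).filter fun O => C.pact.AO O ≠ ⊥
  have hc : ∑ w ∈ D, (S ∩ C.pact.mem w).card + S.card ≤ ∑ O ∈ S, Nat.card (C.pact.AO O) := by
    convert C.pact.count_le D hD S
  have hlow : D.card ≤ ∑ w ∈ D, (S ∩ C.pact.mem w).card := by
    rw [Finset.card_eq_sum_ones]
    refine Finset.sum_le_sum fun w hw => Finset.card_pos.2 ?_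
    have hw0 : w ≠ 0 := fun e => hD (e ▸ hw)
    obtain ⟨g, g1, g2, g3⟩ := move_W C.S C.P v.2 w.2 (fun e => hv0 (Subtype.ext e))
      (fun e => hw0 (Subtype.ext e)) (hDv w hw).symm
    set Γ := C.compat1 g g1 g2
    have hσ : Γ.σ v = w := Subtype.ext ((C.compat1_σ g g1 g2 v).trans g3)
    have hne : Γ.map O ≠ O0 := fun h => by
      have h1 := C.card_AO_map Γ (C.σ_inj Γ) O
      rw [h, h0, AddSubgroup.card_top, C.card_W] at h1
      have h2 := hline O hO
      rw [← h1] at h2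
      have : 2 ≤ Fintype.card ι - 2 := by have := C.S.hn; omega
      exact absurd h2 (not_le.2 (by
        calc Fintype.card F = Fintype.card F ^ 1 := (pow_one _).symm
          _ < _ := Nat.pow_lt_pow_right Fintype.one_lt_card (by omega)))
    refine ⟨Γ.map O, Finset.mem_inter.2 ⟨Finset.mem_filter.2 ⟨Finset.mem_erase.2 ⟨hne, Finset.mem_univ _⟩, ?_⟩,
      C.pact.mem_mem.2 (hσ ▸ Γ.mem_AO.2 hv)⟩⟩
    intro h
    have := Γ.mem_AO.2 hv
    rw [h, hσ, AddSubgroup.mem_bot] at this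
    exact hw0 this
  have hup : ∑ O ∈ S, Nat.card (C.pact.AO O) ≤ S.card * Fintype.card F :=
    (Finset.sum_le_card_nsmul _ _ _ fun O hO => hline O (Finset.mem_erase.1 (Finset.mem_filter.1 hO).1).1).trans
      (le_of_eq (smul_eq_mul _ _))
  have hR : ∑ O ∈ S, Nat.card (C.pact.AO O) ≤ ∑ O ∈ Finset.univ.erase O0, Nat.card (C.pact.AO O) :=
    Finset.sum_le_sum_of_subset (Finset.filter_subset _ _)
  generalize ∑ O ∈ Finset.univ.erase O0, Nat.card (C.pact.AO O) = R at hR
  obtain ⟨r, hr⟩ : ∃ r, Fintype.card F = r + 1 :=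
    ⟨Fintype.card F - 1, (Nat.sub_add_cancel Fintype.card_pos).symm⟩
  rw [hr] at hup ⊢
  rw [Nat.add_sub_cancel]
  generalize ∑ O ∈ S, Nat.card (C.pact.AO O) = s at hc hup hR
  generalize ∑ w ∈ D, (S ∩ C.pact.mem w).card = l at hc hlow
  have h9 : D.card + S.card ≤ s := by omega
  nlinarith [Nat.mul_le_mul_left (r + 1) h9]

open scoped Classical in
/-- The vectors of a value. -/
theorem card_val [Fintype C.W] (r : F) (D : Finset C.W) (hD : ∀ w, w ∈ D ↔ w ≠ 0 ∧ Q w.1 = r) :
    D.card + (@ite ℕ (r = 0) (Classical.propDecidable _) 1 0) = nval Q (Wsub Q C.a C.b) r := by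
  classical
  rw [nval, Nat.card_eq_fintype_card, Fintype.card_subtype]
  split
  · subst r
    rw [← Finset.card_erase_add_one (a := (0 : C.W)) (s := Finset.univ.filter fun w : C.W => Q w.1 = 0) (by simp)]
    congr 2
    ext w
    simp [hD]
  · rename_i h
    rw [add_zero]
    congr 1
    ext w
    simp only [hD, Finset.mem_filter, Finset.mem_univ, true_and, and_iff_right_iff_imp]
    intro hw e
    exact h (by rw [← hw, e, Submodule.coe_zero, QuadraticMap.map_zero])

/-- Beside a regular orbit everything is fixed; a root element with a fixed point there is too many. -/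
theorem fixed_low [Fintype C.pact.Orb] {O0 : C.pact.Orb} [DecidableEq C.pact.Orb] (h0 : C.pact.AO O0 = ⊤)
    (hbot : ∀ O, O ≠ O0 → C.pact.AO O = ⊥) {e p : ι → F} (he : e ∈ Wsub Q C.a C.b) (hp : p ∈ Wsub Q C.a C.b)
    (he0 : e ≠ 0) (hQe : Q e = 0) (hep : B e p = 0) (hpe : p ∉ span F {e}) {y : C.X} (hy : C.pact.orb y = O0)
    (hfix : sg Q e p • y = y) :
    Fintype.card F ^ (Fintype.card ι - 4) ≤ (Finset.univ.erase O0).card := by
  classical
  have := Fintype.ofFinite C.W
  have := Fintype.ofFinite C.X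
  have hn := C.S.hn
  obtain ⟨ea, eb⟩ := mem_Wsub.1 he
  obtain ⟨pa, pb⟩ := mem_Wsub.1 hp
  have hp0 : p ≠ 0 := fun h => hpe (by rw [h]; exact zero_mem _)
  have hpa : p ∉ span F ({C.a} : Set (ι → F)) := fun h => by
    obtain ⟨c, rfl⟩ := mem_span_singleton.1 h
    rw [QuadraticMap.polar_smul_right, C.P.ba, smul_eq_mul, mul_one] at pb
    exact hp0 (by rw [pb, zero_smul])
  have hs : Module.finrank F (span F (Set.range ![C.a, p])) ≤ 2 := finrank_range_le _
  obtain ⟨g, ga, gp⟩ := move_two C.S C.P.ne he0 hpa hpe (by rw [C.P.ha, hQe]) rfl (by rw [pa, hep])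
    inf_le_left (by omega)
  have hconj : g * sg Q C.a p * g⁻¹ = sg Q e p := by rw [sg_conj C.S g C.P.ha pa, ga, gp]
  have hfixc : fixCard (H := C.H) (sg Q e p) = fixCard (H := C.H) (sg Q C.a p) := by rw [← hconj, fixCard_conj]
  rw [C.fixCard_eq, C.fixCard_eq, ← Finset.add_sum_erase _ _ (Finset.mem_univ O0),
    ← Finset.add_sum_erase _ _ (Finset.mem_univ O0)] at hfixc
  have hKy : ∀ v ∈ C.pact.K y, v = 0 := fun v hv => C.pact.χ_nd v fun w => by
    have hw : w ∈ C.pact.A y := by rw [← C.pact.AO_orb, hy, h0]; exact AddSubgroup.mem_top _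
    rw [C.pact.χ_comm]
    exact hw v hv
  have h1 : Nat.card {x : C.X // C.pact.orb x = O0 ∧ sg Q C.a p • x = x} = 0 := by
    rw [Finite.card_eq_zero_iff, isEmpty_subtype]
    rintro x ⟨hx, hgx⟩
    obtain ⟨v, hv⟩ := C.pact.orb_eq.1 (hy.trans hx.symm)
    have : (⟨p, hp⟩ : C.W) ∈ C.pact.K x := hgx
    rw [← hv, C.pact.K_f] at this
    exact hp0 (congrArg Subtype.val (hKy _ this))
  have h2 : Fintype.card F ^ (Fintype.card ι - 4) ≤
      Nat.card {x : C.X // C.pact.orb x = O0 ∧ sg Q e p • x = x} := by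
    set X := HypQuad.perp Q (span F (Set.range ![C.a, C.b, e, p]))
    have hmem : ∀ v : X, v.1 ∈ Wsub Q C.a C.b ∧ B e v.1 = 0 ∧ B p v.1 = 0 := fun v => by
      have := (mem_perp_range _ _).1 v.2
      exact ⟨mem_Wsub.2 ⟨this 0, this 1⟩, this 2, this 3⟩
    let φ : X → {x : C.X // C.pact.orb x = O0 ∧ sg Q e p • x = x} := fun v =>
      ⟨C.pact.f ⟨v.1, (hmem v).1⟩ y, (C.pact.orb_f _ _).trans hy, by
        obtain ⟨v1, v2, v3⟩ := hmem v
        have ga' : ac Q (sg Q e p) C.a = C.a := by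
          rw [sg_apply C.S hQe hep, siegelMap, show B e C.a = 0 by rw [QuadraticMap.polar_comm]; exact ea,
            show B p C.a = 0 by rw [QuadraticMap.polar_comm]; exact pa]
          simp
        have gb' : ac Q (sg Q e p) C.b = C.b := by
          rw [sg_apply C.S hQe hep, siegelMap, show B e C.b = 0 by rw [QuadraticMap.polar_comm]; exact eb,
            show B p C.b = 0 by rw [QuadraticMap.polar_comm]; exact pb]
          simp
        have hπ : (C.compat1 (sg Q e p) ga' gb').π ⟨v.1, v1⟩ = ⟨v.1, v1⟩ := Subtype.ext (by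
          refine (one_smul F _).trans ?_
          show ac Q (sg Q e p) v.1 = v.1
          rw [sg_apply C.S hQe hep, siegelMap, v2, v3]
          simp)
        have := (C.compat1 (sg Q e p) ga' gb').comm ⟨v.1, v1⟩ y
        rw [hπ, show (C.compat1 (sg Q e p) ga' gb').g y = y from hfix] at this
        exact this⟩
    have hφ : Function.Injective φ := fun v v' e' => by
      have e1 : C.pact.f ⟨v.1, (hmem v).1⟩ y = C.pact.f ⟨v'.1, (hmem v').1⟩ y := congrArg Subtype.val e'
      have : (-⟨v'.1, (hmem v').1⟩ + ⟨v.1, (hmem v).1⟩ : C.W) ∈ C.pact.K y := by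
        rw [C.pact.mem_K, C.pact.f_add, e1, C.pact.f_neg]
      have h3 := congrArg Subtype.val (hKy _ this)
      rw [Submodule.coe_add, Submodule.coe_neg, Submodule.coe_zero, neg_add_eq_zero] at h3
      exact Subtype.ext h3.symm
    refine le_trans ?_ (Nat.card_le_card_of_injective φ hφ)
    rw [Module.natCard_eq_pow_finrank (K := F), Nat.card_eq_fintype_card]
    have hd : Fintype.card ι ≤ Module.finrank F X + 4 := finrank_perp_range C.S _
    exact Nat.pow_le_pow_right Fintype.card_pos (by omega)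
  have h3 : ∑ O ∈ Finset.univ.erase O0, Nat.card {x : C.X // C.pact.orb x = O ∧ sg Q C.a p • x = x} ≤
      (Finset.univ.erase O0).card := by
    rw [Finset.card_eq_sum_ones]
    refine Finset.sum_le_sum fun O hO => ?_
    have := C.card_fix_le_orbit (sg Q C.a p) O
    rwa [hbot O (Finset.mem_erase.1 hO).1, AddSubgroup.card_bot] at this
  omega

/-- Too many fixed points. -/
theorem fixed_false [Fintype C.pact.Orb] (hH : C.H ≠ ⊤) {O0 : C.pact.Orb} [DecidableEq C.pact.Orb]
    (h0 : C.pact.AO O0 = ⊤) (hbot : ∀ O, O ≠ O0 → C.pact.AO O = ⊥)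
    (hZ : C.H.index * (Fintype.card F - 1) < Nat.card (Sing Q))
    (hbig : Fintype.card F ^ (Fintype.card ι / 2) ≤ (Fintype.card F - 1) * (Finset.univ.erase O0).card + 1) :
    False := by
  classical
  obtain ⟨x0, hinc⟩ := C.incidence C.Fx fun g u x hu hh => C.Fx_map g hu hh
  have hq := Fintype.one_lt_card (α := F)
  have hfx : Nat.card {x // C.Fx C.a x} = (Finset.univ.erase O0).card := by
    rw [Nat.card_congr (Equiv.subtypeEquivRight (q := fun x => C.pact.AO (C.pact.orb x) = ⊥) fun x => C.Fx_a_iff),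
      C.card_pre fun O => C.pact.AO O = ⊥, Finset.sum_congr rfl fun O hO => by
        rw [(Finset.mem_filter.1 hO).2, AddSubgroup.card_bot], ← Finset.card_eq_sum_ones]
    congr 1
    ext O
    rw [Finset.mem_filter, Finset.mem_erase]
    refine ⟨fun h => ⟨fun e => ?_, h.1⟩, fun h => ⟨h.2, hbot O h.1⟩⟩
    have h1 := congrArg (fun K : AddSubgroup C.W => Nat.card K) (h.2.symm.trans (e ▸ h0))
    simp only [AddSubgroup.card_bot, AddSubgroup.card_top, C.card_W] at h1
    have := Nat.one_lt_pow (show Fintype.card ι - 2 ≠ 0 by have := C.S.hn; omega) hq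
    omega
  rw [hfx] at hinc
  have hr := card_isotropic_le C.S (fun v => (v ≠ 0 ∧ Q v = 0) ∧ C.Fx v x0) (fun v hv => hv.1)
    (fun v w hv hw => C.Fx_orth hH hv.1.2 hw.1.2 hv.2 hw.2)
  rw [← Nat.card_congr (Equiv.subtypeSubtypeEquivSubtypeInter (fun v : ι → F => v ≠ 0 ∧ Q v = 0)
    (fun v => C.Fx v x0))] at hr
  have hx : Fintype.card F ≤ Fintype.card F ^ (Fintype.card ι / 2) :=
    Nat.le_self_pow (by have := C.S.hn; omega) _
  generalize Nat.card {v : Sing Q // C.Fx v.1 x0} = r at hinc hr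
  generalize Fintype.card F ^ (Fintype.card ι / 2) = y at hr hbig hx
  generalize (Finset.univ.erase O0).card = f at hinc hbig
  generalize Nat.card (Sing Q) = Z at hinc hZ
  generalize Fintype.card F - 1 = p at hbig hZ
  rcases Nat.eq_zero_or_pos f with rfl | hf
  · omega
  have h1 : C.H.index * (p * f) < C.H.index * r := by
    rw [hinc, ← mul_assoc]
    exact Nat.mul_lt_mul_of_pos_right hZ hf
  have h2 := Nat.lt_of_mul_lt_mul_left h1
  omega

end Ctx0

end Cfsg.Lib.Known.MinIndexO
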