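import Cfsg.Agent.Known.MinIndexO.NdExt

/-!
The field of three elements: no subgroup of small index.
-/

set_option autoImplicit false
set_option linter.unusedSectionVars false
set_option linter.style.haveILetI false

open Matrix Submodule

namespace Cfsg.Lib.Known.MinIndexO

open Cfsg.Lib.Classical Cfsg.Lib.Classical.Refl

universe u

variable {F : Type u} [Field F] [Fintype F] {ι : Type} [Fintype ι] [DecidableEq ι] {Q : QuadraticForm F (ι → F)}

set_option quotPrecheck false in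
local notation "B" => QuadraticMap.polar (⇑Q)

set_option synthInstance.maxHeartbeats 400000

/-- The counts over three elements: odd dimension and the minus type. -/
def ThreeData (C : Ctx0 Q) (j : ℕ) : Prop :=
  (Fintype.card ι = 2 * j + 3 ∧ 2 ≤ j ∧ C.Ns + 1 = 3 ^ j * 3 ^ j ∧
      (∀ r : F, r ≠ 0 → 3 ^ j * 3 ^ j ≤ nval Q (Wsub Q C.a C.b) r + 3 ^ j) ∧
      2 * C.H.index + 3 * 3 ^ j < 9 * (3 ^ j * 3 ^ j)) ∨
    (Fintype.card ι = 2 * j + 2 ∧ 3 ≤ j ∧ 3 * (C.Ns + 1) + 2 * 3 ^ j = 3 ^ j * 3 ^ j ∧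
      (∀ r : F, r ≠ 0 → 3 ^ j * 3 ^ j + 3 ^ j ≤ 3 * nval Q (Wsub Q C.a C.b) r) ∧
      2 * C.H.index + 2 * 3 ^ j + 1 < 3 * (3 ^ j * 3 ^ j))

namespace Ctx0

variable (C : Ctx0 Q) (hq : Fintype.card F = 3) {j : ℕ} (hdata : ThreeData C j)

include C hq hdata

theorem three_zero : (3 : F) = 0 := by
  have := Nat.cast_card_eq_zero F
  rwa [hq, Nat.cast_ofNat] at this

theorem three_two_ne : (2 : F) ≠ 0 := fun h => one_ne_zero (α := F) (by
  linear_combination C.three_zero hq hdata - h)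

theorem three_sq {r : F} (hr : r ≠ 0) : r * r = 1 := by
  have := FiniteField.pow_card_sub_one_eq_one r hr
  rwa [hq, show 3 - 1 = 2 from rfl, pow_two] at this

/-- The classes are large. -/
theorem three_class_low [Fintype C.W] (r : F) (D : Finset C.W) (hD : ∀ w, w ∈ D ↔ w ≠ 0 ∧ Q w.1 = r) :
    (r = 0 → D.card = C.Ns) ∧ (r ≠ 0 → D.card = nval Q (Wsub Q C.a C.b) r) ∧
    ((Fintype.card ι = 2 * j + 3 → 3 ^ j * 3 ^ j ≤ D.card + 3 ^ j) ∧
      (Fintype.card ι = 2 * j + 2 → 3 ^ j * 3 ^ j ≤ 3 * D.card + 2 * 3 ^ j + 3)) := by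
  classical
  have h := C.card_val r D hD
  have h0 : r = 0 → D.card = C.Ns := fun hr => by
    rw [if_pos hr] at h
    subst hr
    rw [Ns]
    omega
  have h1 : r ≠ 0 → D.card = nval Q (Wsub Q C.a C.b) r := fun hr => by
    rw [if_neg hr, add_zero] at h
    exact h
  have hX : 1 ≤ 3 ^ j := Nat.one_le_pow _ _ (by norm_num)
  refine ⟨h0, h1, fun hn => ?_, fun hn => ?_⟩ <;>
  · rcases hdata with ⟨hn', -, e1, e2, -⟩ | ⟨hn', -, e1, e2, -⟩
    all_goals first
      | omega
      | (generalize 3 ^ j * 3 ^ j = W2 at e1 e2 ⊢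
         generalize 3 ^ j = X at e1 e2 hX ⊢
         rcases eq_or_ne r 0 with hr | hr
         · have := h0 hr; omega
         · have := h1 hr; have := e2 r hr; omega)

/-- Every vector lies in at most four perps. -/
theorem three_m_le [Fintype C.pact.Orb] {v : C.W} (hv : v ≠ 0) : C.m v ≤ 4 := by
  classical
  have := Fintype.ofFinite C.W
  let D : Finset C.W := Finset.univ.filter fun w => w ≠ 0 ∧ Q w.1 = Q v.1
  obtain ⟨-, -, hodd, heven⟩ := C.three_class_low hq hdata (Q v.1) D (by simp [D])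
  have h := C.mul_mem_le D (by simp [D]) (v := v) fun w hw => C.m_eq hv (Finset.mem_filter.1 hw).2.1 one_ne_zero
    (by rw [(Finset.mem_filter.1 hw).2.2, one_mul, one_mul])
  by_contra hm
  have h5 := (Nat.mul_le_mul_right D.card (show 5 ≤ C.m v by omega)).trans h
  rcases hdata with ⟨hn, hj, -, -, hd⟩ | ⟨hn, hj, -, -, hd⟩
  · have h2 := hodd hn
    have hX : 9 ≤ 3 ^ j := le_trans (by norm_num) (Nat.pow_le_pow_right (by norm_num) hj)
    generalize 3 ^ j = X at h2 hX hd
    nlinarith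
  · have h2 := heven hn
    have hX : 27 ≤ 3 ^ j := le_trans (by norm_num) (Nat.pow_le_pow_right (by norm_num) hj)
    generalize 3 ^ j = X at h2 hX hd
    nlinarith

/-- Values on the common perp of a nonsingular vector and an orthogonal one. -/
theorem three_values {w x : C.W} (hw : Q w.1 ≠ 0) (hx : B w.1 x.1 = 0) (hx0 : x ≠ 0) (r : F) (hr : r ≠ 0) :
    ∃ y ∈ Wsub Q C.a C.b, B w.1 y = 0 ∧ B x.1 y = 0 ∧ Q y = r := by
  have h2 := C.three_two_ne hq hdata
  have hww : B w.1 w.1 ≠ 0 := by rw [polar_self_two]; exact mul_ne_zero h2 hw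
  have hn := C.S.hn
  have n3 := C.nd_ab.ext_one (y := w.1) (C.mem_perp_ab.2 w.2) hww
  have d3 := finrank_sup_one ((⊥ : Submodule F (ι → F)) ⊔ span F (Set.range ![C.a, C.b])) w.1
  have d2 := C.finrank_ab
  rcases eq_or_ne (Q x.1) 0 with hQx | hQx
  · -- a partner of a singular vector
    obtain ⟨y, hy⟩ : ∃ y : C.W, B y.1 x.1 ≠ 0 := by
      by_contra hh
      push Not at hh
      exact hx0 (Subtype.ext (C.eq_zero_of_perp x.2 hh))
    rw [QuadraticMap.polar_comm] at hy
    set y1 := y.1 - ((B w.1 w.1)⁻¹ * B w.1 y.1) • w.1 with hy1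
    have hwy : B w.1 y1 = 0 := by
      rw [hy1, QuadraticMap.polar_sub_right, QuadraticMap.polar_smul_right, smul_eq_mul]
      field_simp
      ring
    have hxy : B x.1 y1 = B x.1 y.1 := by
      rw [hy1, QuadraticMap.polar_sub_right, QuadraticMap.polar_smul_right, QuadraticMap.polar_comm (⇑Q) x.1 w.1,
        hx, smul_zero, sub_zero]
    have hy1W : y1 ∈ Wsub Q C.a C.b := sub_mem y.2 (Submodule.smul_mem _ _ w.2)
    set y2 := (B x.1 y.1)⁻¹ • y1 with hy2
    have hxy2 : B x.1 y2 = 1 := by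
      rw [hy2, QuadraticMap.polar_smul_right, hxy, smul_eq_mul, inv_mul_cancel₀ hy]
    have hxx : B x.1 x.1 = 0 := by rw [polar_self_two, hQx, mul_zero]
    have hwy2 : B w.1 y2 = 0 := by rw [hy2, QuadraticMap.polar_smul_right, hwy, smul_zero]
    have hy2W : y2 ∈ Wsub Q C.a C.b := Submodule.smul_mem _ _ hy1W
    clear_value y2
    set f' := y2 + (-Q y2) • x.1 with hf'
    have P : Pair Q x.1 f' := by
      refine ⟨hQx, ?_, ?_⟩
      · rw [hf', WittQuad.val_smul_add, hQx, QuadraticMap.polar_comm (⇑Q) y2 x.1, hxy2]; ring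
      · rw [hf', QuadraticMap.polar_add_right, QuadraticMap.polar_smul_right, hxy2, hxx, smul_zero, add_zero]
    have hf'W : f' ∈ Wsub Q C.a C.b := add_mem hy2W (Submodule.smul_mem _ _ x.2)
    have n5 := n3.ext_pair P (mem_perp_sup.2 ⟨C.mem_perp_ab.2 x.2, mem_perp_singleton.2 hx⟩)
      (mem_perp_sup.2 ⟨C.mem_perp_ab.2 hf'W, mem_perp_singleton.2 (by
        rw [hf', QuadraticMap.polar_add_right, QuadraticMap.polar_smul_right, hwy2, hx, smul_zero, add_zero])⟩)
    have d5 := finrank_sup_two ((⊥ : Submodule F (ι → F)) ⊔ span F (Set.range ![C.a, C.b]) ⊔ span F {w.1}) x.1 f'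
    obtain ⟨z, hz, hQz⟩ := n5.perp_value C.S (by omega) hr
    obtain ⟨hz1, hz3⟩ := mem_perp_sup.1 hz
    obtain ⟨hz1, hz2⟩ := mem_perp_sup.1 hz1
    exact ⟨z, C.mem_perp_ab.1 hz1, mem_perp_singleton.1 hz2, (mem_perp_pair.1 hz3).1, hQz⟩
  · have n4 := n3.ext_one (y := x.1) (mem_perp_sup.2 ⟨C.mem_perp_ab.2 x.2, mem_perp_singleton.2 hx⟩)
      (by rw [polar_self_two]; exact mul_ne_zero h2 hQx)
    have d4 := finrank_sup_one ((⊥ : Submodule F (ι → F)) ⊔ span F (Set.range ![C.a, C.b]) ⊔ span F {w.1}) x.1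
    obtain ⟨z, hz, hQz⟩ := n4.perp_value C.S (by omega) hr
    rw [mem_perp_sup, mem_perp_sup, C.mem_perp_ab, mem_perp_singleton, mem_perp_singleton] at hz
    exact ⟨z, hz.1.1, hz.1.2, hz.2, hQz⟩

/-- The perp of a nonsingular vector has many vectors of each value. -/
theorem three_perp_low {w : C.W} (hw : Q w.1 ≠ 0) (r : F) :
    2 * 3 ^ (Fintype.card ι - 5) ≤ nval Q (HypQuad.perp Q (span F (Set.range ![C.a, C.b, w.1]))) r ∧
      (Fintype.card ι = 7 → r ≠ 0 → 2 * 3 ^ 2 + 3 * 2 ≤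
        nval Q (HypQuad.perp Q (span F (Set.range ![C.a, C.b, w.1]))) r) := by
  classical
  obtain ⟨e, f, P, he, hf, hev, hfv⟩ := C.exists_pair_perp w
  set Y := HypQuad.perp Q (span F (Set.range ![C.a, C.b, w.1])) with hY
  have hmem : ∀ {z : ι → F}, z ∈ Wsub Q C.a C.b → B z w.1 = 0 → z ∈ Y := fun {z} hz h => by
    rw [hY, mem_perp_range]
    intro i
    fin_cases i
    exacts [(mem_Wsub.1 hz).1, (mem_Wsub.1 hz).2, (QuadraticMap.polar_comm (⇑Q) _ _).trans h]
  have heY := hmem he hev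
  have hfY := hmem hf hfv
  have d1 := P.finrank_split heY hfY
  have dY : Fintype.card ι ≤ Module.finrank F Y + 3 := finrank_perp_range C.S _
  have e1 := P.nval_eq heY hfY r
  rw [hq, Module.natCard_eq_pow_finrank (K := F), Nat.card_eq_fintype_card (α := F), hq] at e1
  constructor
  · rw [e1]
    have : 3 ^ (Fintype.card ι - 5) ≤ 3 ^ Module.finrank F ↥(Y ⊓ Wsub Q e f) :=
      Nat.pow_le_pow_right (by norm_num) (by omega)
    omega
  · intro h7 hr
    rw [e1]
    have h2 := C.three_two_ne hq hdata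
    have hww : B w.1 w.1 ≠ 0 := by rw [polar_self_two]; exact mul_ne_zero h2 hw
    have n3 := C.nd_ab.ext_one (y := w.1) (C.mem_perp_ab.2 w.2) hww
    have n5 := n3.ext_pair P
      (mem_perp_sup.2 ⟨C.mem_perp_ab.2 he, mem_perp_singleton.2 ((QuadraticMap.polar_comm (⇑Q) _ _).trans hev)⟩)
      (mem_perp_sup.2 ⟨C.mem_perp_ab.2 hf, mem_perp_singleton.2 ((QuadraticMap.polar_comm (⇑Q) _ _).trans hfv)⟩)
    have d3 := finrank_sup_one ((⊥ : Submodule F (ι → F)) ⊔ span F (Set.range ![C.a, C.b])) w.1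
    have d2 := C.finrank_ab
    have d5 := finrank_sup_two ((⊥ : Submodule F (ι → F)) ⊔ span F (Set.range ![C.a, C.b]) ⊔ span F {w.1}) e f
    obtain ⟨z, hz, hQz⟩ := n5.perp_value C.S (by omega) hr
    obtain ⟨hz1, hz3⟩ := mem_perp_sup.1 hz
    obtain ⟨hz1, hz2⟩ := mem_perp_sup.1 hz1
    have hz' : z ∈ Y ⊓ Wsub Q e f :=
      ⟨hmem (C.mem_perp_ab.1 hz1) ((QuadraticMap.polar_comm (⇑Q) _ _).trans (mem_perp_singleton.1 hz2)),
        mem_Wsub.2 (mem_perp_pair.1 hz3)⟩
    have hz2 : 2 ≤ nval Q (Y ⊓ Wsub Q e f) r := by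
      let a1 : {x : ↥(Y ⊓ Wsub Q e f) // Q x.1 = r} := ⟨⟨z, hz'⟩, hQz⟩
      let a2 : {x : ↥(Y ⊓ Wsub Q e f) // Q x.1 = r} :=
        ⟨⟨(-1 : F) • z, Submodule.smul_mem _ _ hz'⟩, by rw [QuadraticMap.map_smul, hQz]; simp⟩
      have : Nontrivial {x : ↥(Y ⊓ Wsub Q e f) // Q x.1 = r} := ⟨a1, a2, fun e' => by
        have e'' : z = (-1 : F) • z := congrArg (fun t : {x : ↥(Y ⊓ Wsub Q e f) // Q x.1 = r} => t.1.1) e'
        have h3 : (2 : F) • z = 0 := by
          rw [two_smul]
          conv_lhs => lhs; rw [e'']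
          rw [neg_one_smul, neg_add_cancel]
        rcases smul_eq_zero.1 h3 with h | h
        · exact h2 h
        · exact hr (by rw [← hQz, h, QuadraticMap.map_zero])⟩
      exact Finite.one_lt_card
    have h3 : 3 ^ 2 ≤ 3 ^ Module.finrank F ↥(Y ⊓ Wsub Q e f) := Nat.pow_le_pow_right (by norm_num) (by omega)
    omega

omit hdata in
set_option maxHeartbeats 1000000 in
/-- The seven-dimensional case with perps of dimension three. -/
theorem three_special [Fintype C.pact.Orb] [Fintype C.W] (hdata' : ThreeData C 2) (hn : Fintype.card ι = 2 * 2 + 3)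
    (hd : 2 * C.H.index + 3 * 3 ^ 2 < 9 * (3 ^ 2 * 3 ^ 2)) (hWn : Nat.card C.W = 3 ^ (Fintype.card ι - 2))
    (x : C.X) (hA : Nat.card (C.pact.A x) = 27) {w : C.W} (hw : w ∈ C.pact.AO (C.pact.orb x)) (hQw : Q w.1 ≠ 0)
    (cover : ∀ v ∈ C.pact.AO (C.pact.orb x), B w.1 v.1 = 0 → v ≠ 0 →
      nval Q (HypQuad.perp Q (span F (Set.range ![C.a, C.b, w.1]))) (Q v.1) ≤ C.m w * (3 ^ 2 - 1) + 1) :
    False := by
  classical
  have hp : (Fintype.card F).Prime := hq ▸ Nat.prime_three
  have h2F := C.three_two_ne hq hdata'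
  have h7 : Fintype.card ι = 7 := hn
  have hw0 : w ≠ 0 := fun e => hQw (by rw [e, Submodule.coe_zero, QuadraticMap.map_zero])
  have hww : B w.1 w.1 ≠ 0 := by rw [polar_self_two]; exact mul_ne_zero h2F hQw
  set Y := HypQuad.perp Q (span F (Set.range ![C.a, C.b, w.1])) with hY
  have hmemY : ∀ {z : ι → F}, z ∈ Y ↔ z ∈ Wsub Q C.a C.b ∧ B w.1 z = 0 := fun {z} => by
    rw [hY, mem_perp_range, mem_Wsub, and_assoc]
    simp [Fin.forall_fin_succ]
  have hW : Nat.card C.W = 243 := by rw [hWn, h7]; rfl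
  have hK : Nat.card (C.pact.K x) = 9 := by
    have := C.card_K x
    rw [hA, hW] at this
    omega
  -- the stabiliser takes one value only, so it is totally singular
  have hone : ∀ v1 ∈ C.pact.K x, ∀ v2 ∈ C.pact.K x, v1 ≠ 0 → v2 ≠ 0 → Q v1.1 = Q v2.1 := by
    intro v1 hv1 v2 hv2 h01 h02
    by_contra hne
    let D1 : Finset C.W := Finset.univ.filter fun w => w ≠ 0 ∧ Q w.1 = Q v1.1
    let D2 : Finset C.W := Finset.univ.filter fun w => w ≠ 0 ∧ Q w.1 = Q v2.1
    have l1 := (C.three_class_low hq hdata' (Q v1.1) D1 (by simp [D1])).2.2.1 hn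
    have l2 := (C.three_class_low hq hdata' (Q v2.1) D2 (by simp [D2])).2.2.1 hn
    have hdisj : Disjoint D1 D2 := Finset.disjoint_left.2 fun y hy hy' =>
      hne ((Finset.mem_filter.1 hy).2.2.symm.trans (Finset.mem_filter.1 hy').2.2)
    have hb := C.big_bound (D1 ∪ D2) (by simp [D1, D2]) x fun y hy => by
      rcases Finset.mem_union.1 hy with hy | hy
      · exact ⟨v1, hv1, h01, (Finset.mem_filter.1 hy).2.2.symm⟩
      · exact ⟨v2, hv2, h02, (Finset.mem_filter.1 hy).2.2.symm⟩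
    rw [Finset.card_union_of_disjoint hdisj, hA, hW] at hb
    norm_num at l1 l2 hd
    omega
  obtain ⟨v1, hv1, h01⟩ : ∃ v ∈ C.pact.K x, v ≠ 0 := by
    by_contra hc
    push Not at hc
    rw [show C.pact.K x = ⊥ from eq_bot_iff.2 fun v hv => AddSubgroup.mem_bot.2 (hc v hv),
      AddSubgroup.card_bot] at hK
    omega
  obtain ⟨v2, hv2, h20, h21, h22⟩ : ∃ v ∈ C.pact.K x, v ≠ 0 ∧ v ≠ v1 ∧ v ≠ -v1 := by
    by_contra hc
    push Not at hc
    have hsub : (Finset.univ.filter (· ∈ C.pact.K x)) ⊆ ({0, v1, -v1} : Finset C.W) := fun v hv => by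
      by_contra hv'
      simp only [Finset.mem_insert, Finset.mem_singleton, not_or] at hv'
      exact hv'.2.2 (hc v (Finset.mem_filter.1 hv).2 hv'.1 hv'.2.1)
    have := (Finset.card_le_card hsub).trans Finset.card_le_three
    rw [← Fintype.card_subtype, ← Nat.card_eq_fintype_card] at this
    change Nat.card (C.pact.K x) ≤ 3 at this
    omega
  have hQ0 : ∀ v ∈ C.pact.K x, Q v.1 = 0 := by
    have e1 := hone (v1 + v2) (add_mem hv1 hv2) v1 hv1
      (fun e => h22 (eq_neg_of_add_eq_zero_right e)) h01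
    have e2 := hone (v1 - v2) (sub_mem hv1 hv2) v1 hv1 (fun e => h21 (sub_eq_zero.1 e).symm) h01
    have e3 := hone v2 hv2 v1 hv1 h20 h01
    rw [Submodule.coe_add, QuadraticMap.map_add (f := Q)] at e1
    rw [Submodule.coe_sub, sub_eq_add_neg, QuadraticMap.map_add (f := Q), QuadraticMap.map_neg,
      QuadraticMap.polar_neg_right] at e2
    have h0 : Q v1.1 = 0 := by
      have : (2 : F) * Q v1.1 = 0 := by linear_combination e1 + e2 - 2 * e3
      exact (mul_eq_zero.1 this).resolve_left h2F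
    intro v hv
    rcases eq_or_ne v 0 with rfl | hv0
    · rw [Submodule.coe_zero, QuadraticMap.map_zero]
    · rw [hone v hv v1 hv1 hv0 h01, h0]
  have hKperp : ∀ v ∈ C.pact.K x, B w.1 v.1 = 0 := fun v hv => C.ψ_sep fun k => by
    have := C.pact.mem_K_iff.1 hv _ (C.smul_mem_AO hp hw k)
    change C.ψ (B v.1 (k • w).1) = 1 at this
    rwa [Submodule.coe_smul, QuadraticMap.polar_smul_right, smul_eq_mul, QuadraticMap.polar_comm] at this
  have hKA : ∀ v ∈ C.pact.K x, v ∈ C.pact.AO (C.pact.orb x) := fun v hv u hu => by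
    show C.ψ (B u.1 v.1) = 1
    have h1 := hQ0 _ (add_mem hu hv)
    rw [Submodule.coe_add, QuadraticMap.map_add (f := Q), hQ0 u hu, hQ0 v hv, zero_add, zero_add] at h1
    rw [h1, AddChar.map_zero_eq_one]
  -- the perp of the nonsingular vector is of plus type
  let U : Submodule F (ι → F) := span F {y | ∃ v ∈ C.pact.K x, v.1 = y}
  have hUY : U ≤ Y := span_le.2 fun y ⟨v, hv, e⟩ => e ▸ hmemY.2 ⟨v.2, hKperp v hv⟩
  have hUK : ∀ y ∈ U, Q y = 0 ∧ ∀ v ∈ C.pact.K x, B v.1 y = 0 := by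
    intro y hy
    induction hy using Submodule.span_induction with
    | mem y hy =>
      obtain ⟨v, hv, rfl⟩ := hy
      refine ⟨hQ0 v hv, fun u hu => ?_⟩
      have h1 := hQ0 _ (add_mem hu hv)
      rw [Submodule.coe_add, QuadraticMap.map_add (f := Q), hQ0 u hu, hQ0 v hv, zero_add, zero_add] at h1
      exact h1
    | zero => exact ⟨QuadraticMap.map_zero _, fun v _ => QuadraticMap.polar_zero_right _ _⟩
    | add y z hyU _ hy hz =>
      obtain ⟨a1, a2⟩ := hy
      obtain ⟨a3, a4⟩ := hz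
      refine ⟨?_, fun v hv => by rw [QuadraticMap.polar_add_right, a2 v hv, a4 v hv, add_zero]⟩
      rw [QuadraticMap.map_add (f := Q), a1, a3, zero_add, zero_add]
      refine (HypQuad.mem_perp Q).1 ?_ y hyU
      refine (HypQuad.mem_perp Q).2 fun t ht => ?_
      induction ht using Submodule.span_induction with
      | mem t ht => obtain ⟨v, hv, rfl⟩ := ht; exact a4 v hv
      | zero => exact QuadraticMap.polar_zero_left _ _
      | add t t' _ _ k k' => rw [QuadraticMap.polar_add_left, k, k', add_zero]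
      | smul c t _ k => rw [QuadraticMap.polar_smul_left, k, smul_zero]
    | smul c y _ hy =>
      obtain ⟨a1, a2⟩ := hy
      exact ⟨by rw [QuadraticMap.map_smul, a1, smul_zero],
        fun v hv => by rw [QuadraticMap.polar_smul_right, a2 v hv, smul_zero]⟩
  have hU2 : 2 ≤ Module.finrank F U := by
    have h1 : Nat.card (C.pact.K x) ≤ Nat.card U := Nat.card_le_card_of_injective
      (fun v : C.pact.K x => (⟨v.1.1, subset_span ⟨v.1, v.2, rfl⟩⟩ : U))
      fun v v' e => Subtype.ext (Subtype.ext (congrArg (fun t : U => t.1) e))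
    rw [hK, Module.natCard_eq_pow_finrank (K := F) (V := U), Nat.card_eq_fintype_card (α := F), hq] at h1
    exact (Nat.pow_le_pow_iff_right (show 1 < 3 by norm_num)).1 (show 3 ^ 2 ≤ _ from h1)
  have hY4 : Module.finrank F Y = 4 := by
    have hYW : Y ≤ Wsub Q C.a C.b := fun z hz => (hmemY.1 hz).1
    have hlt' : Y < Wsub Q C.a C.b := lt_of_le_of_ne hYW fun e => hww (hmemY.1 (e.ge w.2)).2
    have h1 := Submodule.finrank_lt_finrank_of_lt hlt'
    have dW : Module.finrank F ↥(Wsub Q C.a C.b) + 2 = Fintype.card ι := C.finrank_W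
    have dY : Fintype.card ι ≤ Module.finrank F Y + 3 := finrank_perp_range C.S _
    omega
  have hndY : ∀ z ∈ Y, (∀ y ∈ Y, B y z = 0) → z = 0 := by
    intro z hz hzz
    obtain ⟨hzW, hwz⟩ := hmemY.1 hz
    refine C.eq_zero_of_perp hzW fun u => ?_
    have hu : u.1 - ((B w.1 w.1)⁻¹ * B w.1 u.1) • w.1 ∈ Y := hmemY.2 ⟨sub_mem u.2 (Submodule.smul_mem _ _ w.2), by
      rw [QuadraticMap.polar_sub_right, QuadraticMap.polar_smul_right, smul_eq_mul]
      field_simp
      ring⟩
    have := hzz _ hu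
    rwa [QuadraticMap.polar_sub_left, QuadraticMap.polar_smul_left, hwz, smul_zero, sub_zero] at this
  have hY0 : 3 * nval Q Y 0 + 9 = 81 + 27 := by
    have := (zeros_of_witt 2 Y U hndY hUY (fun y hy => (hUK y hy).1) hU2).2 hY4
    rwa [hq] at this
  -- the class of the nonsingular vector has ninety members
  let D : Finset C.W := Finset.univ.filter fun y => y ≠ 0 ∧ Q y.1 = Q w.1
  have hDm := C.mul_mem_le D (by simp [D]) (v := w) fun y hy => C.m_eq hw0 (Finset.mem_filter.1 hy).2.1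
    one_ne_zero (by rw [(Finset.mem_filter.1 hy).2.2, one_mul, one_mul])
  have hD90 : 90 ≤ D.card := by
    let Z0 := {z : Y // Q z.1 = 0}
    let Zr := {z : Y // Q z.1 = Q w.1}
    let φ : (Fˣ × Z0) ⊕ Zr → {y : C.W // y ∈ D} := Sum.elim
      (fun p => ⟨⟨(p.1 : F) • w.1 + p.2.1.1, add_mem (Submodule.smul_mem _ _ w.2) (hmemY.1 p.2.1.2).1⟩, by
        obtain ⟨-, h1⟩ := hmemY.1 p.2.1.2
        have hQ : Q ((p.1 : F) • w.1 + p.2.1.1) = Q w.1 := by
          rw [QuadraticMap.map_add (f := Q), QuadraticMap.map_smul, p.2.2, QuadraticMap.polar_smul_left, h1,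
            C.three_sq hq hdata' p.1.ne_zero, one_smul, smul_zero, add_zero, add_zero]
        refine Finset.mem_filter.2 ⟨Finset.mem_univ _, fun e => hQw ?_, hQ⟩
        rw [← hQ, show (p.1 : F) • w.1 + p.2.1.1 = 0 from congrArg Subtype.val e, QuadraticMap.map_zero]⟩)
      (fun z => ⟨⟨z.1.1, (hmemY.1 z.1.2).1⟩, Finset.mem_filter.2 ⟨Finset.mem_univ _, fun e => hQw (by
        rw [← z.2, show z.1.1 = 0 from congrArg Subtype.val e, QuadraticMap.map_zero]), z.2⟩⟩)
    have hφ : Function.Injective φ := by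
      have key : ∀ {a b : F} {y z : ι → F}, y ∈ Y → z ∈ Y → a • w.1 + y = b • w.1 + z → a = b ∧ y = z :=
        fun {a b y z} hy hz e => by
          have := congrArg (B w.1) e
          rw [QuadraticMap.polar_add_right, QuadraticMap.polar_add_right, QuadraticMap.polar_smul_right,
            QuadraticMap.polar_smul_right, (hmemY.1 hy).2, (hmemY.1 hz).2, add_zero, add_zero, smul_eq_mul,
            smul_eq_mul] at this
          obtain rfl := mul_right_cancel₀ hww this
          exact ⟨rfl, add_left_cancel e⟩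
      rintro (⟨c, z⟩ | z) (⟨c', z'⟩ | z') e
      · have e' : (c : F) • w.1 + z.1.1 = (c' : F) • w.1 + z'.1.1 :=
          congrArg (fun t : {y : C.W // y ∈ D} => t.1.1) e
        obtain ⟨h1, h2⟩ := key z.1.2 z'.1.2 e'
        exact congrArg Sum.inl (Prod.ext (Units.ext h1) (Subtype.ext (Subtype.ext h2)))
      · have e' : (c : F) • w.1 + z.1.1 = z'.1.1 := congrArg (fun t : {y : C.W // y ∈ D} => t.1.1) e
        exact absurd (key z.1.2 z'.1.2 (e'.trans (by rw [zero_smul, zero_add]))).1 c.ne_zero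
      · have e' : z.1.1 = (c' : F) • w.1 + z'.1.1 := congrArg (fun t : {y : C.W // y ∈ D} => t.1.1) e
        exact absurd (key z'.1.2 z.1.2 (e'.symm.trans (by rw [zero_smul, zero_add]))).1 c'.ne_zero
      · exact congrArg Sum.inr (Subtype.ext (Subtype.ext (congrArg (fun t : {y : C.W // y ∈ D} => t.1.1) e :)))
    have h1 := Nat.card_le_card_of_injective φ hφ
    rw [Nat.card_sum, Nat.card_prod, Nat.card_units, Nat.card_eq_fintype_card (α := F), hq,
      Nat.card_eq_fintype_card (α := {y // y ∈ D}), Fintype.card_coe] at h1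
    have h2 := (C.three_perp_low hq hdata' hQw (Q w.1)).2 h7 hQw
    change 2 * 3 ^ 2 + 3 * 2 ≤ Nat.card Zr at h2
    change 3 * Nat.card Z0 + 9 = 81 + 27 at hY0
    omega
  have hc1 := cover v1 (hKA v1 hv1) (hKperp v1 hv1) h01
  rw [hQ0 v1 hv1] at hc1
  have h5 : C.m w * 90 ≤ C.H.index := (Nat.mul_le_mul_left _ hD90).trans hDm
  norm_num at hc1 hd
  omega

set_option maxHeartbeats 4000000 in
/-- Over three elements every perp is everything or lies on a line. -/
theorem three_shape [Fintype C.pact.Orb] (O : C.pact.Orb) :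
    C.pact.AO O = ⊤ ∨ ∃ v : C.W, ∀ u ∈ C.pact.AO O, u.1 ∈ span F {v.1} := by
  classical
  have := Fintype.ofFinite C.W
  have hp : (Fintype.card F).Prime := hq ▸ Nat.prime_three
  have h2F := C.three_two_ne hq hdata
  have hs := C.card_AO_pow hp O
  rw [hq] at hs
  set h := Module.finrank F (C.spanO O) with hh
  have hWn : Nat.card C.W = 3 ^ (Fintype.card ι - 2) := by rw [C.card_W, hq]
  by_cases htop : C.pact.AO O = ⊤
  · exact Or.inl htop
  right
  rcases Nat.lt_or_ge h 2 with h1 | h2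
  · by_cases hb : C.pact.AO O = ⊥
    · exact ⟨0, fun u hu => by rw [hb, AddSubgroup.mem_bot] at hu; rw [hu]; exact zero_mem _⟩
    obtain ⟨v, hv, hv0⟩ : ∃ v ∈ C.pact.AO O, v ≠ 0 := by
      by_contra hc
      push Not at hc
      exact hb (eq_bot_iff.2 fun v hv => AddSubgroup.mem_bot.2 (hc v hv))
    refine ⟨v, fun u hu => ?_⟩
    have e : span F {v.1} = C.spanO O := Submodule.eq_of_le_of_finrank_le
      ((span_singleton_le_iff_mem _ _).2 (C.mem_spanO hv))
      (by rw [finrank_span_singleton fun e => hv0 (Subtype.ext e)]; omega)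
    exact e ▸ C.mem_spanO hu
  exfalso
  have hlt : Nat.card (C.pact.AO O) < Nat.card C.W := lt_of_le_of_ne (Finite.card_subtype_le _) fun e =>
    htop (AddSubgroup.eq_top_of_card_eq _ e)
  by_cases hbig : Fintype.card ι ≤ h + h + 1 ∧ ¬ (Fintype.card ι = 2 * j + 3 ∧ h = j + 1) ∨
      (Fintype.card ι = 2 * j + 2 ∧ j + 1 ≤ h)
  · -- a large perp has a small stabiliser
    obtain ⟨x, rfl⟩ := C.pact.orb_surj O
    have hA : Nat.card (C.pact.A x) = 3 ^ h := hs
    obtain ⟨v, hv, hv0⟩ : ∃ v ∈ C.pact.K x, v ≠ 0 := by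
      by_contra hc
      push Not at hc
      have := C.card_K x
      rw [show C.pact.K x = ⊥ from eq_bot_iff.2 fun v hv => AddSubgroup.mem_bot.2 (hc v hv),
        AddSubgroup.card_bot, one_mul] at this
      rw [C.pact.AO_orb] at hlt
      omega
    let D : Finset C.W := Finset.univ.filter fun w => w ≠ 0 ∧ Q w.1 = Q v.1
    obtain ⟨-, -, hodd, heven⟩ := C.three_class_low hq hdata (Q v.1) D (by simp [D])
    have hb := C.big_bound D (by simp [D]) x fun w hw => ⟨v, hv, hv0, (Finset.mem_filter.1 hw).2.2.symm⟩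
    rw [hA, hWn] at hb
    rw [C.pact.AO_orb, hA, hWn] at hlt
    rcases hdata with ⟨hn, hj, -, -, hd⟩ | ⟨hn, hj, -, -, hd⟩
    · have h1 := hodd hn
      have hS : 3 ^ j * 9 ≤ 3 ^ h := by
        rw [show 3 ^ j * 9 = 3 ^ (j + 2) by rw [pow_add]; norm_num]
        exact Nat.pow_le_pow_right (by norm_num) (by omega)
      rw [hn, show 2 * j + 3 - 2 = j + j + 1 by omega, pow_succ, pow_add] at hb hlt
      have hX : 9 ≤ 3 ^ j := le_trans (by norm_num) (Nat.pow_le_pow_right (by norm_num) hj)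
      generalize 3 ^ j = X at hS hd h1 hX hb hlt
      generalize 3 ^ h = s at hS hb hlt
      generalize D.card = N at h1 hb
      have h3 : N * (X * 9) * (X * 9) ≤ C.H.index * (X * X * 3 - X * 9) :=
        (Nat.mul_le_mul (Nat.mul_le_mul_left N hS) hS).trans (hb.trans (Nat.mul_le_mul_left _ (by omega)))
      obtain ⟨R, hR⟩ : ∃ R, X * X * 3 - X * 9 = R := ⟨_, rfl⟩
      have hR' : R + X * 9 = X * X * 3 := by
        rw [← hR, Nat.sub_add_cancel]
        nlinarith
      rw [hR] at h3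
      nlinarith [Nat.mul_le_mul_left R hd.le, Nat.mul_le_mul_left (X * X) h1]
    · have h1 := heven hn
      have hS : 3 ^ j * 3 ≤ 3 ^ h := by
        rw [← pow_succ]
        exact Nat.pow_le_pow_right (by norm_num) (by omega)
      rw [hn, show 2 * j + 2 - 2 = j + j by omega, pow_add] at hb hlt
      have hX : 27 ≤ 3 ^ j := le_trans (by norm_num) (Nat.pow_le_pow_right (by norm_num) hj)
      generalize 3 ^ j = X at hS hd h1 hX hb hlt
      generalize 3 ^ h = s at hS hb hlt
      generalize D.card = N at h1 hb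
      have h3 : N * (X * 3) * (X * 3) ≤ C.H.index * (X * X - X * 3) :=
        (Nat.mul_le_mul (Nat.mul_le_mul_left N hS) hS).trans (hb.trans (Nat.mul_le_mul_left _ (by omega)))
      obtain ⟨R, hR⟩ : ∃ R, X * X - X * 3 = R := ⟨_, rfl⟩
      have hR' : R + X * 3 = X * X := by
        rw [← hR, Nat.sub_add_cancel]
        nlinarith
      rw [hR] at h3
      nlinarith [Nat.mul_le_mul_left R hd.le, Nat.mul_le_mul_left (X * X) h1]
  push Not at hbig
  have hsmall : (Fintype.card ι = 2 * j + 3 → h ≤ j + 1) ∧ (Fintype.card ι = 2 * j + 2 → h ≤ j) :=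
    ⟨fun hn => by
      have := hbig.1
      by_contra hc
      obtain ⟨-, h'⟩ := this (by omega)
      omega,
      fun hn => by have := hbig.2 hn; omega⟩
  by_cases hns : ∀ w ∈ C.pact.AO O, Q w.1 = 0
  · -- totally singular planes have many images
    obtain ⟨v, hv, hv0⟩ : ∃ v ∈ C.pact.AO O, v ≠ 0 := by
      by_contra hc
      push Not at hc
      rw [show C.pact.AO O = ⊥ from eq_bot_iff.2 fun v hv => AddSubgroup.mem_bot.2 (hc v hv),
        AddSubgroup.card_bot] at hs
      have := Nat.one_lt_pow (show h ≠ 0 by omega) (show 1 < 3 by norm_num)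
      omega
    obtain ⟨u, hu, huv⟩ : ∃ u ∈ C.pact.AO O, u.1 ∉ span F {v.1} := by
      by_contra hc
      push Not at hc
      have := C.spanO_line hc
      omega
    have h2h := C.finrank_spanO hns
    rw [← hh] at h2h
    obtain ⟨T, hT, hcount, hT1, hTmem⟩ := C.plane_images hns hv hu huv
    have hm := C.three_m_le hq hdata hv0
    have hTm : T.card ≤ C.m v := (Finset.card_le_card hT).trans Finset.card_image_le
    rw [hq, ← hh] at hcount
    have hle : Fintype.card ι - 5 ≤ h := by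
      refine (Nat.pow_le_pow_iff_right (show 1 < 3 by norm_num)).1 (hcount.trans ?_)
      calc (T.card - 1) * 3 ^ (h - 1) ≤ 3 * 3 ^ (h - 1) := Nat.mul_le_mul_right _ (by omega)
        _ = 3 ^ h := by rw [← pow_succ']; congr 1; omega
    rcases hdata with ⟨hn, hj, hNs, hN, hd⟩ | ⟨hn, hj, hNs, -, hd⟩
    · obtain ⟨rfl, h3⟩ : j = 2 ∧ h = 2 := by omega
      rw [h3, hn] at hcount
      rw [h3] at hs
      have hT4 : 4 ≤ T.card := by norm_num at hcount; omega
      let S : Finset C.pact.Orb := Finset.univ.filter fun O' => Nat.card (C.pact.AO O') = 9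
      let D : Finset C.W := Finset.univ.filter fun w => w ≠ 0 ∧ Q w.1 = 0
      have hD := (C.three_class_low hq (Or.inl ⟨hn, hj, hNs, hN, hd⟩) 0 D (by simp [D])).1 rfl
      have hc : ∑ w ∈ D, (S ∩ C.pact.mem w).card + S.card ≤ ∑ O ∈ S, Nat.card (C.pact.AO O) := by
        convert C.pact.count_le D (by simp [D]) S
      have hlow : D.card * 4 ≤ ∑ w ∈ D, (S ∩ C.pact.mem w).card := by
        rw [← smul_eq_mul]
        refine Finset.card_nsmul_le_sum _ _ _ fun w hw => ?_
        obtain ⟨-, hw0, hQw⟩ := Finset.mem_filter.1 hw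
        have e1 : (S ∩ C.pact.mem v).card = (S ∩ C.pact.mem w).card := by
          obtain ⟨Γ, hΓ⟩ := C.exists_compat hv0 hw0 one_ne_zero (by rw [hQw, hns v hv, mul_zero])
          refine Finset.card_equiv Γ.map fun O' => ?_
          simp only [Finset.mem_inter, Pact.mem_mem, S, Finset.mem_filter, Finset.mem_univ, true_and]
          rw [← hΓ, Γ.mem_AO, C.card_AO_map Γ (C.σ_inj Γ)]
        rw [← e1]
        refine hT4.trans (le_trans (Finset.card_le_card fun U hU => ?_) Finset.card_image_le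
          (b := ((S ∩ C.pact.mem v).image C.spanO).card))
        obtain ⟨O', hO', e, -, e2⟩ := hTmem U hU
        exact Finset.mem_image.2 ⟨O', Finset.mem_inter.2 ⟨Finset.mem_filter.2 ⟨Finset.mem_univ _,
          e2.trans (hs.trans (by norm_num))⟩, hO'⟩, e⟩
      have hsum : ∑ O ∈ S, Nat.card (C.pact.AO O) = S.card * 9 := by
        rw [Finset.sum_congr rfl fun O hO => (Finset.mem_filter.1 hO).2, Finset.sum_const, smul_eq_mul]
      have hSd : S.card * 9 ≤ C.H.index := hsum ▸ (C.pact.sum_le S).trans (le_of_eq C.card_X)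
      rw [hsum] at hc
      norm_num at hNs hd
      omega
    · -- the Witt index of the minus type is one less
      obtain ⟨rfl, h3⟩ | hlt' : (j = 3 ∧ h = 3) ∨ h + 1 ≤ j := by omega
      · have hfin : Module.finrank F ↥(Wsub Q C.a C.b) = 2 * 3 := by
          have dW : Module.finrank F ↥(Wsub Q C.a C.b) + 2 = Fintype.card ι := C.finrank_W
          omega
        have hz := (zeros_of_witt 3 (Wsub Q C.a C.b) (C.spanO O)
          (fun x hx hxy => C.eq_zero_of_perp hx fun v => hxy v.1 v.2) (C.spanO_le_W O)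
          (fun x hx => (C.spanO_singular hns x hx).1) (by omega)).2 hfin
        rw [Ns, Nat.sub_add_cancel C.one_le_nval0] at hNs
        rw [hq] at hz
        norm_num at hz hNs
        omega
      · omega
  -- a perp with a vector of nonzero value
  push Not at hns
  obtain ⟨w, hw, hQw⟩ := hns
  have hw0 : w ≠ 0 := fun e => hQw (by rw [e, Submodule.coe_zero, QuadraticMap.map_zero])
  have hww : B w.1 w.1 ≠ 0 := by rw [polar_self_two]; exact mul_ne_zero h2F hQw
  have hm := C.three_m_le hq hdata hw0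
  set Y := HypQuad.perp Q (span F (Set.range ![C.a, C.b, w.1])) with hY
  have hmemY : ∀ {z : ι → F}, z ∈ Y ↔ z ∈ Wsub Q C.a C.b ∧ B w.1 z = 0 := fun {z} => by
    rw [hY, mem_perp_range, mem_Wsub, and_assoc]
    simp [Fin.forall_fin_succ]
  -- a cover of the class of any orthogonal vector of the perp
  have cover : ∀ x ∈ C.pact.AO O, B w.1 x.1 = 0 → x ≠ 0 →
      nval Q Y (Q x.1) ≤ C.m w * (3 ^ (h - 1) - 1) + 1 ∧
        (Q x.1 ≠ 0 → nval Q Y (Q x.1) ≤ C.m w * (3 ^ (h - 1) - 1)) := by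
    intro x hxO hwx hx0
    let D : Finset C.W := Finset.univ.filter fun y => B w.1 y.1 = 0 ∧ y ≠ 0 ∧ Q y.1 = Q x.1
    let T : Finset C.pact.Orb := (C.pact.mem w).filter fun O' => Nat.card (C.pact.AO O') = 3 ^ h
    have hspan : ∀ z : C.W, z ≠ 0 → B w.1 z.1 = 0 → z.1 ∉ span F {w.1} := fun z hz hzw hzz => by
      obtain ⟨c, hc⟩ := mem_span_singleton.1 hzz
      rw [← hc, QuadraticMap.polar_smul_right, smul_eq_mul, mul_eq_zero, or_iff_left hww] at hzw
      exact hz (Subtype.ext (by rw [← hc, hzw, zero_smul, Submodule.coe_zero]))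
    have hcov : ∀ y ∈ D, ∃ O' ∈ T, y ∈ C.pact.AO O' := by
      intro y hy
      obtain ⟨-, hwy, hy0, hQy⟩ := Finset.mem_filter.1 hy
      obtain ⟨g, hg⟩ := C.move_slice (hspan x hx0 hwx) (hspan y hy0 hwy) hQy.symm (by rw [hwx, hwy])
        (fun r hr => C.three_values hq hdata hQw hwx hx0 r hr)
      obtain ⟨O', hO', hyO', hc⟩ := C.exists_image hw hxO g hg
      exact ⟨O', Finset.mem_filter.2 ⟨hO', hc.trans hs⟩, hyO'⟩
    have hk : ∀ O' ∈ T, (D.filter (· ∈ C.pact.AO O')).card ≤ 3 ^ (h - 1) - 1 := by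
      intro O' hO'
      obtain ⟨hO'm, hc⟩ := Finset.mem_filter.1 hO'
      have hwO' := C.pact.mem_mem.1 hO'm
      set E := insert (0 : C.W) (D.filter (· ∈ C.pact.AO O')) with hE
      have hEc : E.card = (D.filter (· ∈ C.pact.AO O')).card + 1 :=
        Finset.card_insert_of_notMem (by simp [D])
      have hEmem : ∀ y ∈ E, y ∈ C.pact.AO O' ∧ B w.1 y.1 = 0 := fun y hy => by
        rcases Finset.mem_insert.1 hy with rfl | hy
        · exact ⟨zero_mem _, by rw [Submodule.coe_zero, QuadraticMap.polar_zero_right]⟩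
        · obtain ⟨hyD, hyO⟩ := Finset.mem_filter.1 hy
          exact ⟨hyO, (Finset.mem_filter.1 hyD).2.1⟩
      have h3 : E.card * 3 ≤ Nat.card (C.pact.AO O') := by
        have e3 : E.card * 3 = (E ×ˢ (Finset.univ : Finset F)).card := by
          rw [Finset.card_product, Finset.card_univ, hq]
        rw [e3, Nat.card_eq_fintype_card, Fintype.card_subtype]
        refine Finset.card_le_card_of_injOn (fun p => p.1 + p.2 • w) (fun p hpm => ?_) ?_
        · have hp' := (Finset.mem_product.1 hpm).1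
          exact Finset.mem_filter.2 ⟨Finset.mem_univ _,
            add_mem (hEmem _ hp').1 (C.smul_mem_AO hp hwO' p.2)⟩
        · rintro ⟨y, k⟩ hy ⟨y', k'⟩ hy' e
          have h1 := (hEmem _ (Finset.mem_product.1 hy).1).2
          have h1' := (hEmem _ (Finset.mem_product.1 hy').1).2
          have e' : y.1 + k • w.1 = y'.1 + k' • w.1 := congrArg Subtype.val e
          have h2 := congrArg (B w.1) e'
          rw [QuadraticMap.polar_add_right, QuadraticMap.polar_add_right, QuadraticMap.polar_smul_right,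
            QuadraticMap.polar_smul_right, h1, h1', zero_add, zero_add, smul_eq_mul, smul_eq_mul] at h2
          have hk := mul_right_cancel₀ hww h2
          subst hk
          exact Prod.ext (Subtype.ext (add_right_cancel e')) rfl
      rw [hEc, hc, show 3 ^ h = 3 ^ (h - 1) * 3 by rw [← pow_succ]; congr 1; omega] at h3
      have := Nat.le_of_mul_le_mul_right h3 (by norm_num)
      omega
    have hc := (C.cover_card D T _ hcov hk).trans
      (Nat.mul_le_mul_right _ (show T.card ≤ C.m w from Finset.card_filter_le _ _))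
    have e : nval Q Y (Q x.1) = (Finset.univ.filter fun y : C.W => B w.1 y.1 = 0 ∧ Q y.1 = Q x.1).card := by
      rw [nval, ← Fintype.card_subtype, ← Nat.card_eq_fintype_card]
      exact Nat.card_congr ⟨fun z => ⟨⟨z.1.1, (hmemY.1 z.1.2).1⟩, (hmemY.1 z.1.2).2, z.2⟩,
        fun y => ⟨⟨y.1.1, hmemY.2 ⟨y.1.2, y.2.1⟩⟩, y.2.2⟩, fun _ => rfl, fun _ => rfl⟩
    rw [e]
    refine ⟨le_trans ?_ (Nat.add_le_add_right hc 1), fun hQx => le_trans ?_ hc⟩
    · refine (Finset.card_le_card (t := insert 0 D) fun y hy => ?_).trans (Finset.card_insert_le _ _)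
      obtain ⟨-, h1, h2⟩ := Finset.mem_filter.1 hy
      rcases eq_or_ne y 0 with rfl | hy0
      · exact Finset.mem_insert_self _ _
      · exact Finset.mem_insert_of_mem (Finset.mem_filter.2 ⟨Finset.mem_univ _, h1, hy0, h2⟩)
    · refine Finset.card_le_card fun y hy => ?_
      obtain ⟨-, h1, h2⟩ := Finset.mem_filter.1 hy
      refine Finset.mem_filter.2 ⟨Finset.mem_univ _, h1, fun h0 => hQx ?_, h2⟩
      rw [← h2, h0, Submodule.coe_zero, QuadraticMap.map_zero]
  by_cases hspec : Fintype.card ι = 7 ∧ h = 3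
  · obtain ⟨h7, h3⟩ := hspec
    rcases hdata with ⟨hn, hj, hNs, hN, hd⟩ | ⟨hn, -⟩
    swap
    · omega
    obtain rfl : j = 2 := by omega
    obtain ⟨x, rfl⟩ := C.pact.orb_surj O
    refine C.three_special hq (Or.inl ⟨hn, hj, hNs, hN, hd⟩) hn hd hWn x ?_ hw hQw fun v hv h1 h2 => ?_
    · rw [← C.pact.AO_orb, hs, h3]; rfl
    · have hc1 := (cover v hv h1 h2).1
      rwa [h3] at hc1
  · -- counting covers
    obtain ⟨u, hu, huw⟩ : ∃ u ∈ C.pact.AO O, u.1 ∉ span F {w.1} := by
      by_contra hc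
      push Not at hc
      have := C.spanO_line hc
      omega
    set x : C.W := u - ((B w.1 w.1)⁻¹ * B w.1 u.1) • w with hxdef
    have hxO : x ∈ C.pact.AO O := sub_mem hu (C.smul_mem_AO hp hw _)
    have hwx : B w.1 x.1 = 0 := by
      rw [hxdef, Submodule.coe_sub, Submodule.coe_smul, QuadraticMap.polar_sub_right, QuadraticMap.polar_smul_right,
        smul_eq_mul]
      field_simp
      ring
    have hx0 : x ≠ 0 := fun e => huw (mem_span_singleton.2 ⟨(B w.1 w.1)⁻¹ * B w.1 u.1, by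
      rw [hxdef, sub_eq_zero] at e
      exact (congrArg Subtype.val e).symm⟩)
    obtain ⟨hc1, -⟩ := cover x hxO hwx hx0
    have hlow := (C.three_perp_low hq hdata hQw (Q x.1)).1
    rw [← hY] at hlow
    have hc2 : nval Q Y (Q x.1) ≤ 4 * (3 ^ (h - 1) - 1) + 1 :=
      hc1.trans (Nat.add_le_add_right (Nat.mul_le_mul_right _ hm) 1)
    rcases hdata with ⟨hn, hj, -⟩ | ⟨hn, hj, -⟩
    · have hh' := hsmall.1 hn
      rcases Nat.lt_or_ge j 3 with hj3 | hj3
      · have hh2 : h = 2 := by omega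
        rw [hh2] at hc2
        rw [show Fintype.card ι - 5 = 2 by omega] at hlow
        norm_num at hlow hc2
        omega
      · have h1 : 3 ^ (h - 1) ≤ 3 ^ j := Nat.pow_le_pow_right (by norm_num) (by omega)
        have h2 : 3 * 3 ^ j ≤ 3 ^ (Fintype.card ι - 5) := by
          rw [← pow_succ']; exact Nat.pow_le_pow_right (by norm_num) (by omega)
        have := Nat.one_le_pow j 3 (by norm_num)
        have := Nat.one_le_pow (h - 1) 3 (by norm_num)
        omega
    · have hh' := hsmall.2 hn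
      have h1 : 3 ^ (h - 1) * 3 ≤ 3 ^ j := by
        rw [← pow_succ]; exact Nat.pow_le_pow_right (by norm_num) (by omega)
      have h2 : 3 ^ j ≤ 3 ^ (Fintype.card ι - 5) := Nat.pow_le_pow_right (by norm_num) (by omega)
      have := Nat.one_le_pow (h - 1) 3 (by norm_num)
      omega

set_option maxHeartbeats 1000000 in
/-- A root element fixing a point of a regular orbit. -/
theorem three_fixed {O0 : C.pact.Orb} (h0 : C.pact.AO O0 = ⊤) (hu : ∀ O, C.pact.AO O = ⊤ → O = O0) :
    ∃ e p : ι → F, e ∈ Wsub Q C.a C.b ∧ p ∈ Wsub Q C.a C.b ∧ e ≠ 0 ∧ Q e = 0 ∧ B e p = 0 ∧ p ∉ span F {e} ∧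
      ∃ y : C.X, C.pact.orb y = O0 ∧ sg Q e p • y = y := by
  classical
  have h3F := C.three_zero hq hdata
  have h2F := C.three_two_ne hq hdata
  have hn := C.S.hn
  obtain ⟨e, f, P, he, hf⟩ := C.exists_pair_W
  have n4 := C.nd_ab.ext_pair P (C.mem_perp_ab.2 he) (C.mem_perp_ab.2 hf)
  set T4 := (⊥ : Submodule F (ι → F)) ⊔ span F (Set.range ![C.a, C.b]) ⊔ span F (Set.range ![e, f]) with hT4
  have d4 : Module.finrank F T4 ≤ 4 := by
    have := finrank_sup_two ((⊥ : Submodule F (ι → F)) ⊔ span F (Set.range ![C.a, C.b])) e f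
    have := C.finrank_ab
    rw [hT4]; omega
  have hval : ∀ {T : Submodule F (ι → F)}, Nd Q T → Module.finrank F T + 2 ≤ Fintype.card ι →
      ∃ y ∈ HypQuad.perp Q T, Q y = 1 := fun hT hd => hT.perp_value C.S hd one_ne_zero
  obtain ⟨y1, hy1, hQ1⟩ := hval n4 (by omega)
  have hself : ∀ {y : ι → F}, Q y ≠ 0 → B y y ≠ 0 := fun {y} hy => by
    rw [polar_self_two]; exact mul_ne_zero h2F hy
  have n5 := n4.ext_one (y := y1) hy1 (hself (by rw [hQ1]; exact one_ne_zero))
  have d5 := finrank_sup_one T4 y1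
  obtain ⟨y2, hy2, hQ2⟩ := hval n5 (by omega)
  have n6 := n5.ext_one (y := y2) hy2 (hself (by rw [hQ2]; exact one_ne_zero))
  have d6 := finrank_sup_one (T4 ⊔ span F {y1}) y2
  obtain ⟨y3, hy3, hQ3⟩ := n6.perp_nonsing C.S (by omega)
  rw [mem_perp_sup, mem_perp_sup, mem_perp_singleton, mem_perp_singleton] at hy3
  rw [mem_perp_sup, mem_perp_singleton] at hy2
  -- three orthogonal vectors of one value
  obtain ⟨x1, x2, x3, r, hr, hr1, hr2, hr3, h12, h13, h23, hx1, hx2, hx3⟩ :
      ∃ x1 x2 x3 : ι → F, ∃ r : F, r ≠ 0 ∧ Q x1 = r ∧ Q x2 = r ∧ Q x3 = r ∧ B x1 x2 = 0 ∧ B x1 x3 = 0 ∧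
        B x2 x3 = 0 ∧ x1 ∈ HypQuad.perp Q T4 ∧ x2 ∈ HypQuad.perp Q T4 ∧ x3 ∈ HypQuad.perp Q T4 := by
    have hsq := C.three_sq hq hdata hQ3
    rcases mul_self_eq_one_iff.1 hsq with h | h
    · exact ⟨y1, y2, y3, 1, one_ne_zero, hQ1, hQ2, h, hy2.2, hy3.1.2, hy3.2, hy1, hy2.1, hy3.1.1⟩
    · refine ⟨y1 + y2, y1 - y2, y3, -1, neg_ne_zero.2 one_ne_zero, ?_, ?_, h, ?_, ?_, ?_, add_mem hy1 hy2.1,
        sub_mem hy1 hy2.1, hy3.1.1⟩
      · rw [QuadraticMap.map_add (f := Q), hQ1, hQ2, hy2.2]; linear_combination h3F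
      · rw [sub_eq_add_neg, QuadraticMap.map_add (f := Q), QuadraticMap.map_neg, QuadraticMap.polar_neg_right, hQ1,
          hQ2, hy2.2]
        linear_combination h3F
      · simp only [QuadraticMap.polar_add_left, QuadraticMap.polar_sub_right, polar_self_two, hQ1, hQ2, hy2.2,
          QuadraticMap.polar_comm (⇑Q) y2 y1]
        ring
      · rw [QuadraticMap.polar_add_left, hy3.1.2, hy3.2, add_zero]
      · rw [QuadraticMap.polar_sub_left, hy3.1.2, hy3.2, sub_zero]
  have hperp4 : ∀ x ∈ HypQuad.perp Q T4, x ∈ Wsub Q C.a C.b ∧ B e x = 0 ∧ B f x = 0 := fun x hx => by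
    rw [hT4, mem_perp_sup, mem_perp_pair, C.mem_perp_ab] at hx
    exact hx
  obtain ⟨x1W, ex1, fx1⟩ := hperp4 x1 hx1
  obtain ⟨x2W, ex2, -⟩ := hperp4 x2 hx2
  obtain ⟨x3W, ex3, -⟩ := hperp4 x3 hx3
  have h21 : B x2 x1 = 0 := by rw [QuadraticMap.polar_comm]; exact h12
  have h31 : B x3 x1 = 0 := by rw [QuadraticMap.polar_comm]; exact h13
  have h32 : B x3 x2 = 0 := by rw [QuadraticMap.polar_comm]; exact h23
  have h11 : B x1 x1 = 2 * r := by rw [polar_self_two, hr1]
  have h22 : B x2 x2 = 2 * r := by rw [polar_self_two, hr2]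
  have h33 : B x3 x3 = 2 * r := by rw [polar_self_two, hr3]
  obtain ⟨ea, eb⟩ := mem_Wsub.1 he
  have hea : B e C.a = 0 := by rw [QuadraticMap.polar_comm]; exact ea
  have heb : B e C.b = 0 := by rw [QuadraticMap.polar_comm]; exact eb
  obtain ⟨s, hs⟩ := exists_rr C.S.hQ (u := x1) (v := x2) (by rw [hr1]; exact hr) (by rw [hr1, hr2])
  obtain ⟨s', hs'⟩ := exists_rr C.S.hQ (u := x1) (v := x3) (by rw [hr1]; exact hr) (by rw [hr1, hr3])
  have hrr : r * r⁻¹ = 1 := mul_inv_cancel₀ hr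
  have hsx : ∀ x, ac Q s x = x - (r⁻¹ * B x2 x) • x2 - (r⁻¹ * B x1 x) • x1 := by
    intro x
    rw [hs, hr1, QuadraticMap.polar_sub_right, QuadraticMap.polar_smul_right, h12, smul_zero, sub_zero]
  have hsx' : ∀ x, ac Q s' x = x - (r⁻¹ * B x3 x) • x3 - (r⁻¹ * B x1 x) • x1 := by
    intro x
    rw [hs', hr1, QuadraticMap.polar_sub_right, QuadraticMap.polar_smul_right, h13, smul_zero, sub_zero]
  have hfix0 : ∀ z, B x1 z = 0 → B x2 z = 0 → B x3 z = 0 → ac Q s z = z ∧ ac Q s' z = z := fun z a1 a2 a3 => by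
    rw [hsx, hsx', a1, a2, a3]; simp
  have hperpW : ∀ {x : ι → F}, x ∈ Wsub Q C.a C.b → B x C.a = 0 ∧ B x C.b = 0 := fun {x} hx => by
    obtain ⟨p, q⟩ := mem_Wsub.1 hx
    rw [QuadraticMap.polar_comm] at p q
    exact ⟨p, q⟩
  obtain ⟨hsa, hsa'⟩ := hfix0 C.a (hperpW x1W).1 (hperpW x2W).1 (hperpW x3W).1
  obtain ⟨hsb, hsb'⟩ := hfix0 C.b (hperpW x1W).2 (hperpW x2W).2 (hperpW x3W).2
  obtain ⟨hse, hse'⟩ := hfix0 e (by rw [QuadraticMap.polar_comm]; exact ex1)
    (by rw [QuadraticMap.polar_comm]; exact ex2) (by rw [QuadraticMap.polar_comm]; exact ex3)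
  have hs1 : ac Q s x1 = -x1 := by
    rw [hsx, h11, h21, mul_zero, zero_smul, sub_zero, show r⁻¹ * (2 * r) = 2 by
      linear_combination 2 * hrr, two_smul]
    abel
  have hs1' : ac Q s' x1 = -x1 := by
    rw [hsx', h11, h31, mul_zero, zero_smul, sub_zero, show r⁻¹ * (2 * r) = 2 by
      linear_combination 2 * hrr, two_smul]
    abel
  have hss : s * s = 1 ∧ s' * s' = 1 ∧ s * s' = s' * s := by
    refine ⟨gext Q fun x => ?_, gext Q fun x => ?_, gext Q fun x => ?_⟩
    all_goals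
      simp only [ac_mul, ac_one, hsx, hsx', QuadraticMap.polar_sub_right, QuadraticMap.polar_smul_right, h11, h12,
        h13, h21, h22, h23, h31, h32, h33, smul_eq_mul]
      match_scalars <;> field_simp <;> ring
  obtain ⟨hs2, hs2', hcomm⟩ := hss
  set Γ := C.compat1 s hsa hsb
  set Γ' := C.compat1 s' hsa' hsb'
  have htop : ∀ Γ : C.pact.Compat, Γ.map O0 = O0 := fun Γ => hu _ (eq_top_iff.2 fun x _ => by
    obtain ⟨u, rfl⟩ := (Finite.injective_iff_surjective.1 (C.σ_inj Γ)) x
    exact Γ.mem_AO.2 (h0 ▸ AddSubgroup.mem_top _))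
  obtain ⟨y, hy, hy'⟩ := C.exists_fixed' Γ (htop Γ) 2 (by rw [Nat.cast_ofNat]; exact h2F) fun x => by
    show (fun z : C.X => s • z)^[2] x = x
    rw [smul_iterate, pow_two, hs2]
    exact one_smul _ x
  have hKy : ∀ v ∈ C.pact.K y, v = 0 := fun v hv => C.pact.χ_nd v fun w => by
    have hw : w ∈ C.pact.A y := by rw [← C.pact.AO_orb, hy, h0]; exact AddSubgroup.mem_top _
    rw [C.pact.χ_comm]
    exact hw v hv
  have hinj : ∀ {v v' : C.W}, C.pact.f v y = C.pact.f v' y → v = v' := fun {v v'} e' => by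
    have : -v' + v ∈ C.pact.K y := by rw [C.pact.mem_K, C.pact.f_add, e', C.pact.f_neg]
    exact (neg_add_eq_zero.1 (hKy _ this)).symm
  -- a point fixed by both involutions
  obtain ⟨c, hc⟩ : ∃ c, C.pact.f c y = s' • y := C.pact.orb_eq.1 (by
    rw [show C.pact.orb (s' • y) = Γ'.map (C.pact.orb y) from rfl, hy, htop])
  have hgy : s • y = y := hy'
  have hc1 : Γ.π c = c := hinj (by
    have := Γ.comm c y
    rw [show Γ.g (C.pact.f c y) = s • s' • y by rw [hc]; rfl, show Γ.g y = y from hy', ← mul_smul, hcomm, mul_smul,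
      hgy, ← hc] at this
    exact this.symm)
  have hc2 : Γ'.π c + c = 0 := hinj (v' := 0) (by
    have := Γ'.comm c y
    rw [show Γ'.g (C.pact.f c y) = s' • s' • y by rw [hc]; rfl, ← mul_smul, hs2', one_smul,
      show Γ'.g y = C.pact.f c y from hc.symm, ← C.pact.f_add] at this
    rw [C.pact.f_zero]
    exact this.symm)
  set y' := C.pact.f (-c) y with hy'def
  have hy'O : C.pact.orb y' = O0 := (C.pact.orb_f _ _).trans hy
  have hy's : s • y' = y' := by
    refine (Γ.comm (-c) y).trans ?_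
    rw [map_neg, hc1, show Γ.g y = y from hy']
  have hy's' : s' • y' = y' := by
    refine (Γ'.comm (-c) y).trans ?_
    rw [map_neg, eq_neg_of_add_eq_zero_left hc2, neg_neg, show Γ'.g y = C.pact.f c y from hc.symm, ← C.pact.f_add]
    refine congrArg (C.pact.f · y) (Subtype.ext ?_)
    rw [Submodule.coe_add, Submodule.coe_neg]
    have h3c : (3 : F) • c.1 = 0 := by rw [h3F, zero_smul]
    linear_combination (norm := module) h3c
  have hKy' : ∀ v ∈ C.pact.K y', v = 0 := fun v hv => hKy v (by rwa [hy'def, C.pact.K_f] at hv)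
  have hinj' : ∀ {v v' : C.W}, C.pact.f v y' = C.pact.f v' y' → v = v' := fun {v v'} e' => by
    have : -v' + v ∈ C.pact.K y' := by rw [C.pact.mem_K, C.pact.f_add, e', C.pact.f_neg]
    exact (neg_add_eq_zero.1 (hKy' _ this)).symm
  -- the root element
  have hfixa : ac Q (sg Q e x1) C.a = C.a ∧ ac Q (sg Q e x1) C.b = C.b := by
    constructor <;> rw [sg_apply C.S P.ha ex1, siegelMap]
    · rw [hea, (hperpW x1W).1]; simp
    · rw [heb, (hperpW x1W).2]; simp
  set Γ1 := C.compat1 (sg Q e x1) hfixa.1 hfixa.2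
  have hπ1 : ∀ v : C.W, (Γ1.π v).1 = v.1 + B e v.1 • x1 - (B x1 v.1 + r * B e v.1) • e := by
    intro v
    refine (one_smul F _).trans ?_
    show ac Q (sg Q e x1) v.1 = _
    rw [sg_apply C.S P.ha ex1, siegelMap, hr1]
    module
  obtain ⟨t, ht⟩ : ∃ t, C.pact.f t y' = sg Q e x1 • y' := C.pact.orb_eq.1 (by
    rw [show C.pact.orb (sg Q e x1 • y') = Γ1.map (C.pact.orb y') from rfl, hy'O, htop])
  have hinv : ∀ (σ : GG Q) (hσa : ac Q σ C.a = C.a) (hσb : ac Q σ C.b = C.b), σ • y' = y' → σ * σ = 1 →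
      ac Q σ e = e → ac Q σ x1 = -x1 → (Γ1.π ((C.compat1 σ hσa hσb).π t) + t : C.W) = 0 := by
    intro σ hσa hσb hσy hσ2 hσe hσ1
    have hneg : sg Q e (-x1) = σ * sg Q e x1 * σ⁻¹ := by
      rw [sg_conj C.S σ P.ha ex1, hσe, hσ1]
    have h1 : sg Q e (-x1) • y' = C.pact.f ((C.compat1 σ hσa hσb).π t) y' := by
      rw [hneg, mul_smul, mul_smul, inv_smul_eq_iff.2 hσy.symm, ← ht]
      exact ((C.compat1 σ hσa hσb).comm t y').trans (congrArg _ hσy)
    refine hinj' (v' := 0) ?_
    rw [C.pact.f_zero, C.pact.f_add, ht]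
    refine ((Γ1.comm _ y').symm.trans ?_)
    show sg Q e x1 • C.pact.f _ y' = y'
    rw [← h1, ← mul_smul, ← sg_add C.S P.ha ex1 (by rw [QuadraticMap.polar_neg_right, ex1, neg_zero]), add_neg_cancel,
      sg_zero C.S P.ha, one_smul]
  have k1 := congrArg Subtype.val (hinv s hsa hsb hy's hs2 hse hs1)
  have k2 := congrArg Subtype.val (hinv s' hsa' hsb' hy's' hs2' hse' hs1')
  rw [Submodule.coe_add, hπ1, Submodule.coe_zero, show ((C.compat1 s hsa hsb).π t).1 = ac Q s t.1 from one_smul F _,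
    hsx] at k1
  rw [Submodule.coe_add, hπ1, Submodule.coe_zero,
    show ((C.compat1 s' hsa' hsb').π t).1 = ac Q s' t.1 from one_smul F _, hsx'] at k2
  simp only [QuadraticMap.polar_sub_right, QuadraticMap.polar_smul_right, ex1, ex2, ex3, h11, h12, h13, smul_eq_mul,
    mul_zero, sub_zero] at k1 k2
  set E := B e t.1 with hEdef
  set B1 := B x1 t.1 with hB1def
  have hE : E = 0 := by
    have := congrArg (B e) k1
    simp only [QuadraticMap.polar_sub_right, QuadraticMap.polar_add_right, QuadraticMap.polar_smul_right,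
      QuadraticMap.polar_zero_right, ex1, ex2, P.aa, ← hEdef, smul_eq_mul, mul_zero, sub_zero, add_zero] at this
    linear_combination E * h3F - this
  have hB2 : B x2 t.1 = 0 := by
    have k3 : (r⁻¹ * B x2 t.1) • x2 = (r⁻¹ * B x3 t.1) • x3 := by
      linear_combination (norm := module) k2 - k1
    have := congrArg (B x2) k3
    rw [QuadraticMap.polar_smul_right, QuadraticMap.polar_smul_right, h22, h23, smul_zero, smul_eq_mul] at this
    have h' : 2 * B x2 t.1 = 0 := by linear_combination this - 2 * B x2 t.1 * hrr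
    exact (mul_eq_zero.1 h').resolve_left h2F
  rw [hE, hB2] at k1
  have htt : t.1 = -(r⁻¹ * B1) • x1 + B1 • e := by
    linear_combination (norm := skip) -k1
    match_scalars <;> first
      | linear_combination h3F
      | linear_combination -h3F
      | (field_simp; ring)
      | (field_simp; linear_combination B1 * h3F)
      | (field_simp; linear_combination -B1 * h3F)
  refine ⟨e, x1, he, x1W, P.ne, P.ha, ex1, fun hmem => ?_, C.pact.f ((r⁻¹ * B1) • ⟨f, hf⟩) y',
    (C.pact.orb_f _ _).trans hy'O, ?_⟩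
  · obtain ⟨k, hk⟩ := mem_span_singleton.1 hmem
    have := h11
    rw [← hk, QuadraticMap.polar_smul_left, QuadraticMap.polar_smul_right, P.aa, smul_zero, smul_zero] at this
    exact mul_ne_zero h2F hr this.symm
  refine (Γ1.comm _ y').trans ?_
  rw [show Γ1.g y' = C.pact.f t y' from ht.symm, ← C.pact.f_add]
  refine congrArg (C.pact.f · y') (Subtype.ext ?_)
  rw [Submodule.coe_add, hπ1, htt]
  simp only [Submodule.coe_smul, QuadraticMap.polar_smul_right, P.hab,
    show B x1 f = 0 by rw [QuadraticMap.polar_comm]; exact fx1, smul_eq_mul]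
  match_scalars <;> field_simp <;> ring

/-- No subgroup of small index over three elements. -/
theorem three_false [Fintype C.pact.Orb] (hH : C.H ≠ ⊤) : False := by
  classical
  have := Fintype.ofFinite C.W
  obtain ⟨O0, h0⟩ := C.exists_top hH (C.three_shape hq hdata)
  have hd := C.index_top h0
  rw [hq] at hd
  have huniq : ∀ O, C.pact.AO O = ⊤ → O = O0 := by
    intro O hO
    by_contra hne
    have h2 := Finset.single_le_sum (f := fun O => Nat.card (C.pact.AO O)) (fun _ _ => Nat.zero_le _)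
      (Finset.mem_erase.2 ⟨hne, Finset.mem_univ O⟩)
    simp only [hO, AddSubgroup.card_top, C.card_W, hq] at h2
    rcases hdata with ⟨hn, -, -, -, e⟩ | ⟨hn, -, -, -, e⟩
    · rw [hn, show 2 * j + 3 - 2 = j + j + 1 by omega, pow_succ, pow_add] at hd h2
      generalize 3 ^ j * 3 ^ j = W2 at hd h2 e
      omega
    · rw [hn, show 2 * j + 2 - 2 = j + j by omega, pow_add] at hd h2
      generalize 3 ^ j * 3 ^ j = W2 at hd h2 e
      omega
  have hline : ∀ O, O ≠ O0 → Nat.card (C.pact.AO O) ≤ Fintype.card F := fun O hO => by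
    obtain ⟨v, hv⟩ := (C.three_shape hq hdata O).resolve_left fun h => hO (huniq O h)
    exact C.card_line hv
  by_cases hbot : ∀ O, O ≠ O0 → C.pact.AO O = ⊥
  · obtain ⟨e, p, he, hp, he0, hQe, hep, hpe, y, hy, hfix⟩ := C.three_fixed hq hdata h0 huniq
    have hlow := C.fixed_low h0 hbot he hp he0 hQe hep hpe hy hfix
    refine C.fixed_false hH h0 hbot ?_ ?_
    · rw [C.card_Sing_eq, hq]
      have := Nat.one_le_pow j 3 (by norm_num)
      rcases hdata with ⟨hn, -, e1, -, e2⟩ | ⟨hn, -, e1, -, e2⟩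
      · rw [hn, show 2 * j + 3 - 2 = j + j + 1 by omega, pow_succ, pow_add] at hd ⊢
        generalize 3 ^ j * 3 ^ j = W2 at hd e1 e2 ⊢
        omega
      · rw [hn, show 2 * j + 2 - 2 = j + j by omega, pow_add] at hd ⊢
        generalize 3 ^ j * 3 ^ j = W2 at hd e1 e2 ⊢
        omega
    · rw [hq] at hlow ⊢
      have hn := C.S.hn
      have h1 : 3 ^ (Fintype.card ι / 2) ≤ 3 ^ (Fintype.card ι - 4) :=
        Nat.pow_le_pow_right (by norm_num) (by omega)
      omega
  · push Not at hbot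
    obtain ⟨O, hO, hne⟩ := hbot
    obtain ⟨v, hv, hv0⟩ : ∃ v ∈ C.pact.AO O, v ≠ 0 := by
      by_contra hc
      push Not at hc
      exact hne (eq_bot_iff.2 fun v hv => AddSubgroup.mem_bot.2 (hc v hv))
    let D : Finset C.W := Finset.univ.filter fun w => w ≠ 0 ∧ Q w.1 = Q v.1
    have h1 := C.line_count h0 hline D (by simp [D]) hO hv hv0 fun w hw => (Finset.mem_filter.1 hw).2.2
    obtain ⟨hD0, hD1, -⟩ := C.three_class_low hq hdata (Q v.1) D (by simp [D])
    rw [hq, show 3 - 1 = 2 from rfl] at h1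
    rcases hdata with ⟨hn, hj, e1, e2, e3⟩ | ⟨hn, hj, e1, e2, e3⟩
    · rw [hn, show 2 * j + 3 - 2 = j + j + 1 by omega, pow_succ, pow_add] at hd
      have hX : 9 ≤ 3 ^ j := le_trans (by norm_num) (Nat.pow_le_pow_right (by norm_num) hj)
      generalize 3 ^ j * 3 ^ j = W2 at hd e1 e2 e3
      generalize 3 ^ j = X at e2 e3 hX
      rcases eq_or_ne (Q v.1) 0 with hv1 | hv1
      · rw [hD0 hv1] at h1; omega
      · rw [hD1 hv1] at h1; have := e2 _ hv1; omega
    · rw [hn, show 2 * j + 2 - 2 = j + j by omega, pow_add] at hd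
      rcases eq_or_ne (Q v.1) 0 with hv1 | hv1
      swap
      · rw [hD1 hv1] at h1
        have := e2 _ hv1
        generalize 3 ^ j * 3 ^ j = W2 at hd e1 this e3
        omega
      rw [hD0 hv1] at h1
      -- incidences with regular orbits
      obtain ⟨x0, hinc⟩ := C.incidence C.Rg fun g u x hu hh => C.Rg_map g hu hh
      have hrg : Nat.card {x // C.Rg C.a x} = 3 ^ j * 3 ^ j := by
        rw [Nat.card_congr (Equiv.subtypeEquivRight (q := fun x => C.pact.orb x = O0) fun x =>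
          C.Rg_a_iff.trans ⟨fun h => huniq _ h, fun h => by rw [← C.pact.AO_orb, h, h0]⟩),
          C.card_orbit, h0, AddSubgroup.card_top, C.card_W, hq, hn, show 2 * j + 2 - 2 = j + j by omega, pow_add]
      rw [hrg, C.card_Sing_eq, hq, hn, show 2 * j + 2 - 2 = j + j by omega, pow_add] at hinc
      obtain ⟨k, hk⟩ : Odd (3 ^ j) := Odd.pow (by decide)
      have hX : 27 ≤ 3 ^ j := le_trans (by norm_num) (Nat.pow_le_pow_right (by norm_num) hj)
      have hmul := Nat.mul_le_mul_left (3 ^ j) hX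
      rw [hk] at hinc hd e1 e3 hX hmul
      have hodd : (2 * k + 1) * (2 * k + 1) = 2 * (2 * k * k + 2 * k) + 1 := by ring
      rw [hodd] at hinc hd e1 e3 hmul
      generalize 2 * k * k + 2 * k = W at hinc hd e1 e3 hmul
      have he : 3 * C.Ns + (3 - 1) + (3 - 1) * (2 * W + 1) = 2 * (C.H.index + 1) := by omega
      rw [he, mul_comm 2 (C.H.index + 1), mul_assoc] at hinc
      have hdvd := (Nat.coprime_self_add_right.2 (Nat.coprime_one_right C.H.index)).dvd_of_dvd_mul_left
        (Dvd.intro _ hinc)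
      obtain ⟨t, ht⟩ := hdvd
      rcases Nat.lt_or_ge t 2 with ht2 | ht2
      · interval_cases t <;> omega
      · have := Nat.mul_le_mul_left C.H.index ht2
        omega

end Ctx0

end Cfsg.Lib.Known.MinIndexO
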