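import Cfsg.Agent.Known.MinIndexO.Three
import Cfsg.Agent.Known.MinIndexO.Attain

/-!
The least index of a proper subgroup of orthogonal groups over three elements.
-/

set_option autoImplicit false
set_option linter.unusedSectionVars false
set_option linter.style.haveILetI false

open Matrix Submodule

namespace Cfsg.Lib.Known.MinIndexO

open Cfsg.Lib.Classical Cfsg.Lib.Classical.Refl

universe u w

section Counts

open OrthCard

variable {F : Type u} [Field F] [Finite F] {W : Type w} [AddCommGroup W] [Module F W]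

theorem value_hyp (Q : QuadraticForm F W) [FiniteDimensional F W] (r : F) :
    Nat.card {x // hyp Q x = r} = Nat.card F * Nat.card {y // Q y = r} + (Nat.card F - 1) * Nat.card W := by
  classical
  haveI := Fintype.ofFinite F
  haveI : Finite W := Module.finite_of_finite F
  haveI := Fintype.ofFinite W
  have e : {x // hyp Q x = r} ≃ (F × {y // Q y = r}) ⊕ ({a : F // a ≠ 0} × W) :=
    { toFun := fun x => if h : x.1.1.1 = 0 then
          Sum.inl (x.1.1.2, ⟨x.1.2, by have := x.2; rwa [hyp_apply, h, zero_mul, zero_add] at this⟩)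
        else Sum.inr (⟨x.1.1.1, h⟩, x.1.2)
      invFun := Sum.elim (fun p => ⟨((0, p.1), p.2.1), by rw [hyp_apply, zero_mul, zero_add, p.2.2]⟩)
        (fun p => ⟨((p.1.1, (r - Q p.2) / p.1.1), p.2), by rw [hyp_apply, mul_div_cancel₀ _ p.1.2]; ring⟩)
      left_inv := fun x => by
        obtain ⟨⟨⟨a, b⟩, y⟩, h⟩ := x
        rw [hyp_apply] at h
        by_cases ha : a = 0
        · simp [ha]
        · simp only [ha, dite_false, Sum.elim_inr]
          refine Subtype.ext (Prod.ext (Prod.ext rfl ?_) rfl)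
          rw [div_eq_iff ha]
          linear_combination -h
      right_inv := fun z => by
        rcases z with ⟨b, y⟩ | ⟨a, y⟩
        · simp
        · simp [a.2] }
  rw [Nat.card_congr e, Nat.card_sum, Nat.card_prod, Nat.card_prod, Nat.card_eq_fintype_card (α := {a : F // a ≠ 0}),
    Fintype.card_subtype_compl, Fintype.card_subtype_eq, ← Nat.card_eq_fintype_card]

theorem value_split (P : QuadraticForm F W) [FiniteDimensional F W] (r : F) (m : ℕ) :
    Nat.card F * Nat.card {x // split P m x = r} + Nat.card F ^ m * Nat.card W =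
      Nat.card F ^ m * (Nat.card F * Nat.card {x // P x = r}) + Nat.card F ^ (2 * m) * Nat.card W := by
  induction m with
  | zero =>
    obtain ⟨φ, hφ⟩ := exists_split_zero P
    rw [show Nat.card {x // split P 0 x = r} = Nat.card {x // P x = r} from
      Nat.card_congr (φ.toEquiv.subtypeEquiv fun x => by show _ ↔ P (φ x) = r; rw [hφ])]
    simp
  | succ m ih =>
    obtain ⟨φ, hφ⟩ := exists_split_succ P m
    rw [← Nat.card_congr (φ.toEquiv.subtypeEquiv fun x => show hyp (split P m) x = r ↔ split P (m + 1) (φ x) = r by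
      rw [hφ]), value_hyp, card_space]
    obtain ⟨p, hp⟩ : ∃ p, Nat.card F = p + 1 := ⟨Nat.card F - 1, by have := Nat.card_pos (α := F); omega⟩
    generalize Nat.card F = q at hp ih ⊢
    subst hp
    rw [Nat.add_sub_cancel]
    have := congrArg ((p + 1) * ·) ih
    ring_nf at this ⊢
    omega

end Counts

section General

variable {F : Type u} [Field F] [Fintype F] {ι : Type} [Fintype ι] [DecidableEq ι] {Q : QuadraticForm F (ι → F)}

set_option synthInstance.maxHeartbeats 400000

theorem nval_top' (f : (ι → F) → F) (hf : f = ⇑Q) (r : F) : nval Q ⊤ r = Nat.card {v : ι → F // f v = r} := by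
  subst hf
  exact Nat.card_congr ((Equiv.subtypeUnivEquiv fun _ => Submodule.mem_top).subtypeEquiv fun x => Iff.rfl)

/-- The bound over three elements, from the value counts. -/
theorem three_bound (S : Setting Q) (hq : Fintype.card F = 3) {j : ℕ} {H : Subgroup (GG Q)} (hH : H ≠ ⊤)
    (hdata : (Fintype.card ι = 2 * j + 3 ∧ 2 ≤ j ∧ nval Q ⊤ 0 = 9 * (3 ^ j * 3 ^ j) ∧
        (∀ r : F, r ≠ 0 → 9 * (3 ^ j * 3 ^ j) ≤ nval Q ⊤ r + 3 * 3 ^ j) ∧
        2 * H.index + 3 * 3 ^ j < 9 * (3 ^ j * 3 ^ j)) ∨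
      (Fintype.card ι = 2 * j + 2 ∧ 3 ≤ j ∧ nval Q ⊤ 0 + 2 * 3 ^ j = 3 * (3 ^ j * 3 ^ j) ∧
        (∀ r : F, r ≠ 0 → 3 * (3 ^ j * 3 ^ j) + 3 ^ j ≤ nval Q ⊤ r) ∧
        2 * H.index + 2 * 3 ^ j + 1 < 3 * (3 ^ j * 3 ^ j))) : False := by
  classical
  obtain ⟨a, b, P, -, -⟩ := exists_pair_orth S (W := ⊥) (R := ⊥) inf_le_left
    (by rw [finrank_bot]; have := S.hn; omega)
  let C : Ctx0 Q :=
    { S := S, H := H, a := a, b := b, P := P
      ψ := AddChar.FiniteField.primitiveChar_to_Complex F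
      hψ := AddChar.FiniteField.primitiveChar_to_Complex_isPrimitive F }
  have : Finite C.pact.Orb := Quotient.finite _
  have := Fintype.ofFinite C.pact.Orb
  have hW : ∀ r : F, nval Q ⊤ r = 3 * nval Q (Wsub Q C.a C.b) r + 2 * 3 ^ (Fintype.card ι - 2) := fun r => by
    have e := C.P.nval_eq (X := ⊤) Submodule.mem_top Submodule.mem_top r
    rwa [top_inf_eq, show Nat.card ↥(Wsub Q C.a C.b) = _ from C.card_W, hq] at e
  have hNs : C.Ns + 1 = nval Q (Wsub Q C.a C.b) 0 := Nat.sub_add_cancel C.one_le_nval0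
  have h0 := hW 0
  rw [← hNs] at h0
  refine C.three_false hq (j := j) ?_ hH
  rcases hdata with ⟨hn, hj, e0, e1, e2⟩ | ⟨hn, hj, e0, e1, e2⟩
  · refine Or.inl ⟨hn, hj, ?_, fun r hr => ?_, e2⟩
    · rw [hn, show 2 * j + 3 - 2 = j + j + 1 by omega, pow_succ, pow_add] at h0
      omega
    · have h1 := hW r
      have h2 := e1 r hr
      rw [hn, show 2 * j + 3 - 2 = j + j + 1 by omega, pow_succ, pow_add] at h1
      omega
  · refine Or.inr ⟨hn, hj, ?_, fun r hr => ?_, e2⟩
    · rw [hn, show 2 * j + 2 - 2 = j + j by omega, pow_add] at h0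
      omega
    · have h1 := hW r
      have h2 := e1 r hr
      rw [hn, show 2 * j + 2 - 2 = j + j by omega, pow_add] at h1
      omega

end General

variable {F : Type u} [Field F] [Fintype F]

theorem neg_one_ne_zero' : (-1 : F) ≠ 0 := neg_ne_zero.2 one_ne_zero

theorem three_cases (hF : Fintype.card F = 3) (x : F) : x = 0 ∨ x = 1 ∨ x = -1 := by
  rcases eq_or_ne x 0 with h | h
  · exact Or.inl h
  · have h1 := FiniteField.pow_card_sub_one_eq_one x h
    rw [hF, show 3 - 1 = 2 from rfl, pow_two] at h1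
    exact Or.inr (mul_self_eq_one_iff.1 h1)

theorem three_two (hF : Fintype.card F = 3) : (2 : F) ≠ 0 :=
  two_ne_zero_of_odd (F := F) (hF ▸ by decide)

theorem three_neg (hF : Fintype.card F = 3) : (1 : F) ≠ -1 := fun h =>
  three_two hF (by linear_combination h)

theorem odd_values (hF : Fintype.card F = 3) (m : ℕ) :
    Nat.card {v : Unit ⊕ (Fin m ⊕ Fin m) → F // Cfsg.quadFormOdd m F v = 1} = 3 ^ (2 * m) + 3 ^ m ∧
      Nat.card {v : Unit ⊕ (Fin m ⊕ Fin m) → F // Cfsg.quadFormOdd m F v = -1} + 3 ^ m = 3 ^ (2 * m) := by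
  classical
  obtain ⟨φ, hφ⟩ := OrthCard.odd_equiv (F := F) m
  have h : ∀ r : F, Nat.card {v : Unit ⊕ (Fin m ⊕ Fin m) → F // Cfsg.quadFormOdd m F v = r} =
      Nat.card {x // OrthCard.split (OrthCard.P1 F) m x = r} := fun r =>
    (Nat.card_congr (φ.toEquiv.subtypeEquiv fun x => show _ ↔ Cfsg.quadFormOdd m F (φ x) = r by
      rw [← Refl.oddForm_coe, hφ])).symm
  have hs := fun r : F => value_split (OrthCard.P1 F) r m
  simp only [← h, Nat.card_eq_fintype_card (α := F), hF] at hs
  have e1 : Nat.card {x : F // OrthCard.P1 F x = 1} = 2 := by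
    rw [Nat.card_eq_fintype_card, Fintype.card_subtype, show (Finset.univ.filter fun x : F => OrthCard.P1 F x = 1) =
      {1, -1} by ext x; simp [OrthCard.P1_apply, mul_self_eq_one_iff], Finset.card_pair (three_neg hF)]
  have e2 : Nat.card {x : F // OrthCard.P1 F x = -1} = 0 := by
    haveI : IsEmpty {x : F // OrthCard.P1 F x = -1} := ⟨fun ⟨x, hx⟩ => by
      rw [OrthCard.P1_apply] at hx
      rcases three_cases hF x with rfl | rfl | rfl
      · simp at hx
      · exact three_neg hF (by linear_combination hx)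
      · exact three_neg hF (by linear_combination hx)⟩
    exact Nat.card_of_isEmpty
  have h1 := hs 1
  have h2 := hs (-1)
  rw [e1] at h1
  rw [e2] at h2
  omega

theorem minus_values (hF : Fintype.card F = 3) {a b : F}
    (hab : ∀ z₁ z₂ : F, z₁ ^ 2 + a * z₁ * z₂ + b * z₂ ^ 2 = 0 → z₁ = 0 ∧ z₂ = 0) (l : ℕ) (r : F) (hr : r ≠ 0) :
    Nat.card {v : (Fin l ⊕ Fin l) ⊕ Fin 2 → F // Cfsg.quadFormMinus l F a b v = r} = 3 * 3 ^ (2 * l) + 3 ^ l := by
  classical
  obtain ⟨φ, hφ⟩ := OrthCard.minus_equiv (F := F) l a b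
  rw [← Nat.card_congr (φ.toEquiv.subtypeEquiv fun x => show OrthCard.split (OrthCard.P2 a b) l x = r ↔
      Cfsg.quadFormMinus l F a b (φ x) = r by rw [← Refl.minusForm_coe, hφ])]
  have hs := value_split (OrthCard.P2 a b) r l
  have hFF : Nat.card (F × F) = 9 := by
    rw [Nat.card_prod, Nat.card_eq_fintype_card (α := F), hF]
  have hP : Nat.card {x : F × F // OrthCard.P2 a b x = r} = 4 := by
    have h1 := OrthCard.P2_norm_one hab
    have h0 : Nat.card {x : F × F // OrthCard.P2 a b x = 0} = 1 := by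
      haveI : Nonempty {x : F × F // OrthCard.P2 a b x = 0} := ⟨⟨0, by simp [OrthCard.P2_apply]⟩⟩
      haveI : Subsingleton {x : F × F // OrthCard.P2 a b x = 0} := ⟨fun x y => Subtype.ext (by
        obtain ⟨a1, a2⟩ := hab x.1.1 x.1.2 (by have := x.2; rw [OrthCard.P2_apply] at this; linear_combination this)
        obtain ⟨a3, a4⟩ := hab y.1.1 y.1.2 (by have := y.2; rw [OrthCard.P2_apply] at this; linear_combination this)
        exact Prod.ext (a1.trans a3.symm) (a2.trans a4.symm))⟩
      exact Nat.card_eq_one_iff_unique.mpr ⟨inferInstance, inferInstance⟩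
    rw [Nat.card_eq_fintype_card (α := F), hF] at h1
    rcases (three_cases hF r).resolve_left hr with rfl | rfl
    · exact h1
    · rw [Nat.card_eq_fintype_card, Fintype.card_subtype] at h0 h1 ⊢
      have hu : (Finset.univ : Finset (F × F)).card = 9 := by
        rw [Finset.card_univ, ← Nat.card_eq_fintype_card, hFF]
      have hsplit : ∀ p : F × F → Prop, ∀ [DecidablePred p],
          (Finset.univ.filter p).card + (Finset.univ.filter fun x => ¬ p x).card = 9 := fun p _ => by
        rw [Finset.card_filter_add_card_filter_not, hu]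
      have e := hsplit fun x => OrthCard.P2 a b x = 0
      have e' : (Finset.univ.filter fun x : F × F => ¬ OrthCard.P2 a b x = 0) =
          (Finset.univ.filter fun x => OrthCard.P2 a b x = 1) ∪
            (Finset.univ.filter fun x => OrthCard.P2 a b x = -1) := by
        ext x
        simp only [Finset.mem_filter, Finset.mem_univ, true_and, Finset.mem_union]
        refine ⟨fun h => (three_cases hF _).resolve_left h, ?_⟩
        rintro (h | h) h' <;> rw [h'] at h
        · exact zero_ne_one h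
        · exact neg_one_ne_zero' h.symm
      rw [e', Finset.card_union_of_disjoint (Finset.disjoint_left.2 fun x hx hx' => three_neg hF
        ((Finset.mem_filter.1 hx).2.symm.trans (Finset.mem_filter.1 hx').2))] at e
      omega
  rw [hP, hFF, Nat.card_eq_fintype_card (α := F), hF] at hs
  omega

theorem odd_three (hF : Fintype.card F = 3) (m : ℕ) (hm : 3 ≤ m) :
    (∀ H : Subgroup (Cfsg.POmega F (Cfsg.quadFormOdd m F)), H ≠ ⊤ → 3 ^ m * (3 ^ m - 1) / 2 ≤ H.index) ∧
      ∃ H : Subgroup (Cfsg.POmega F (Cfsg.quadFormOdd m F)), H.index = 3 ^ m * (3 ^ m - 1) / 2 := by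
  classical
  obtain ⟨j, rfl⟩ : ∃ j, m = j + 1 := ⟨m - 1, by omega⟩
  have h2 := three_two hF
  have S : Setting (oddForm (j + 1) F) := ⟨oddForm_nondegenerate h2 _, by simp; omega⟩
  have hv0 := OrthCard.count_odd (F := F) h2 (j + 1)
  rw [Nat.card_eq_fintype_card (α := F), hF] at hv0
  obtain ⟨hv1, hv2⟩ := odd_values hF (j + 1)
  rw [show 2 * (j + 1) = (j + 1) + (j + 1) by omega, pow_add, pow_succ'] at hv0 hv1 hv2
  obtain ⟨k, hk⟩ : Odd (3 ^ (j + 1)) := Odd.pow (by decide)
  have hN : 2 * (3 ^ (j + 1) * (3 ^ (j + 1) - 1) / 2) + 3 * 3 ^ j = 9 * (3 ^ j * 3 ^ j) := by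
    rw [show 3 ^ (j + 1) * (3 ^ (j + 1) - 1) / 2 = 3 ^ (j + 1) * k by
      rw [hk, Nat.add_sub_cancel, show (2 * k + 1) * (2 * k) = (2 * k + 1) * k * 2 by ring,
        Nat.mul_div_cancel _ two_pos]]
    rw [show 9 * (3 ^ j * 3 ^ j) = 3 ^ (j + 1) * 3 ^ (j + 1) by ring, show 3 * 3 ^ j = 3 ^ (j + 1) by ring, hk]
    ring
  constructor
  · refine lift_bound _ (fun H hH => ?_) _ (oddForm_coe _).symm
    by_contra hlt
    refine three_bound S hF (j := j) hH (Or.inl ⟨by simp; omega, by omega, ?_, fun r hr => ?_, by omega⟩)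
    · rw [nval_top' _ (oddForm_coe _).symm, hv0]; ring
    · rw [nval_top' _ (oddForm_coe _).symm]
      rcases (three_cases hF r).resolve_left hr with rfl | rfl
      · rw [hv1]; ring_nf; omega
      · ring_nf at hv2 ⊢; omega
  · refine npoint_index S (by omega) _ (oddForm_coe _).symm (-1) neg_one_ne_zero' _ ?_
    rw [hF, show 3 - 1 = 2 from rfl]
    ring_nf at hv2 hN ⊢
    omega

theorem minus_three (hF : Fintype.card F = 3) (m : ℕ) (hm : 4 ≤ m) (a b : F)
    (hab : ∀ z₁ z₂ : F, z₁ ^ 2 + a * z₁ * z₂ + b * z₂ ^ 2 = 0 → z₁ = 0 ∧ z₂ = 0) :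
    (∀ H : Subgroup (Cfsg.POmega F (Cfsg.quadFormMinus (m - 1) F a b)), H ≠ ⊤ →
      (3 ^ m + 1) * (3 ^ (m - 1) - 1) / (3 - 1) ≤ H.index) ∧
      ∃ H : Subgroup (Cfsg.POmega F (Cfsg.quadFormMinus (m - 1) F a b)),
        H.index = (3 ^ m + 1) * (3 ^ (m - 1) - 1) / (3 - 1) := by
  classical
  obtain ⟨l, rfl⟩ : ∃ l, m = l + 1 := ⟨m - 1, by omega⟩
  rw [Nat.add_sub_cancel]
  have S : Setting (minusForm l F a b) := ⟨minusForm_nondegenerate' _ hab, by simp; omega⟩
  have hv0 : Nat.card {v : (Fin l ⊕ Fin l) ⊕ Fin 2 → F // Cfsg.quadFormMinus l F a b v = 0} =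
      Nat.card F ^ (2 * (l + 1) - 1) + Nat.card F ^ l - Nat.card F ^ (l + 1) :=
    OrthCard.count_minus (l + 1) (by omega) hab
  rw [Nat.card_eq_fintype_card (α := F), hF, show 2 * (l + 1) - 1 = (l + l) + 1 by omega, pow_succ' 3 (l + l),
    pow_succ' 3 l, pow_add] at hv0
  have hX : 27 ≤ 3 ^ l := le_trans (by norm_num) (Nat.pow_le_pow_right (by norm_num) (show 3 ≤ l by omega))
  have hXX := Nat.mul_le_mul_left (3 ^ l) hX
  obtain ⟨k, hk⟩ : Odd (3 ^ l) := Odd.pow (by decide)
  have hN : 2 * ((3 ^ (l + 1) + 1) * (3 ^ l - 1) / (3 - 1)) + 2 * 3 ^ l + 1 = 3 * (3 ^ l * 3 ^ l) := by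
    rw [show 3 - 1 = 2 from rfl, pow_succ', hk, Nat.add_sub_cancel,
      show (3 * (2 * k + 1) + 1) * (2 * k) = (3 * (2 * k + 1) + 1) * k * 2 by ring, Nat.mul_div_cancel _ two_pos]
    ring
  constructor
  · refine lift_bound _ (fun H hH => ?_) _ (minusForm_coe _ a b).symm
    by_contra hlt
    refine three_bound S hF (j := l) hH (Or.inr ⟨by simp; omega, by omega, ?_, fun r hr => ?_, by omega⟩)
    · rw [nval_top' _ (minusForm_coe _ a b).symm, hv0]; omega
    · rw [nval_top' _ (minusForm_coe _ a b).symm, minus_values hF hab l r hr, two_mul, pow_add]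
  · refine point_index S _ (minusForm_coe _ a b).symm _ ?_
    rw [hF, hv0, show 3 - 1 = 2 from rfl] at *
    omega

end Cfsg.Lib.Known.MinIndexO
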