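import Cfsg.Agent.Known.MinIndexO.Singular

/-!
Tori on orbits of the Siegel group, incidences of singular vectors with points, and generation by two Siegel groups.
-/

set_option autoImplicit false
set_option linter.unusedSectionVars false
set_option linter.style.haveILetI false

open Matrix Submodule

namespace Cfsg.Lib.Known.MinIndexO

open Cfsg.Lib.Classical Cfsg.Lib.Classical.Refl

universe u

variable {F : Type u} [Field F] [Fintype F] {ι : Type} [Fintype ι] [DecidableEq ι] {Q : QuadraticForm F (ι → F)}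

set_option quotPrecheck false in
local notation "B" => QuadraticMap.polar (⇑Q)

set_option synthInstance.maxHeartbeats 400000

/-- A subgroup with two opposite Siegel groups is everything. -/
theorem two_siegel_top (S : Setting Q) {a b : ι → F} (P : Pair Q a b) (M : Subgroup (GG Q))
    (ha : ∀ z, B a z = 0 → sg Q a z ∈ M) (hb : ∀ z, B b z = 0 → sg Q b z ∈ M) : M = ⊤ := by
  have move : ∀ {u : ι → F} (g : GG Q), g ∈ M → Q u = 0 → (∀ z, B u z = 0 → sg Q u z ∈ M) →
      ∀ z, B (ac Q g u) z = 0 → sg Q (ac Q g u) z ∈ M := by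
    intro u g hg hu h z hz
    have hz' : B u (ac Q g⁻¹ z) = 0 := by rw [← ac_polar Q g, ac_inv', hz]
    have := M.mul_mem (M.mul_mem hg (h _ hz')) (M.inv_mem hg)
    rwa [sg_conj S g hu hz', ac_inv'] at this
  have scale : ∀ {u : ι → F} {c : F}, Q u = 0 → c ≠ 0 → (∀ z, B u z = 0 → sg Q u z ∈ M) →
      ∀ z, B (c • u) z = 0 → sg Q (c • u) z ∈ M := by
    intro u c hu hc h z hz
    rw [QuadraticMap.polar_smul_left, smul_eq_mul, mul_eq_zero, or_iff_right hc] at hz
    rw [sg_smul S hu hz]
    exact h _ (by rw [QuadraticMap.polar_smul_right, hz, smul_zero])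
  -- one end carries every singular vector seen by the other
  have seen : ∀ {a b : ι → F}, Pair Q a b → (∀ z, B a z = 0 → sg Q a z ∈ M) → (∀ z, B b z = 0 → sg Q b z ∈ M) →
      ∀ u, Q u = 0 → B b u ≠ 0 → ∀ z, B u z = 0 → sg Q u z ∈ M := by
    intro a b P ha hb u hu hbu
    set α := B b u with hα
    set y := u - α • a - B a u • b with hy
    obtain ⟨ya, yb⟩ := mem_Wsub.1 (P.proj u)
    have hQy : α * B a u + Q y = 0 := by
      have h1 := P.val_coord (P.proj u) α (B a u)
      rw [show α • a + B a u • b + (u - B b u • a - B a u • b) = u by rw [hα]; abel, hu] at h1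
      exact h1.symm
    have hz' : B b (α⁻¹ • y) = 0 := by rw [QuadraticMap.polar_smul_right, hy, hα, yb, smul_zero]
    have e : ac Q (sg Q b (α⁻¹ • y)) a = α⁻¹ • u := by
      rw [sg_apply S P.hb hz', siegelMap, P.ba, QuadraticMap.polar_smul_left, QuadraticMap.map_smul,
        show B y a = 0 by rw [QuadraticMap.polar_comm]; exact ya]
      have hQy' : Q y = -(α * B a u) := by linear_combination hQy
      rw [hQy', hy]
      simp only [smul_eq_mul]
      match_scalars <;> field_simp <;> ring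
    have h2 := move _ (hb _ hz') P.ha ha
    rw [e] at h2
    intro z hz
    have := scale (c := α) (by rw [QuadraticMap.map_smul, hu, smul_zero]) hbu h2 z
      (by rw [smul_smul, mul_inv_cancel₀ hbu, one_smul]; exact hz)
    rwa [smul_smul, mul_inv_cancel₀ hbu, one_smul] at this
  have hall : ∀ u, Q u = 0 → ∀ z, B u z = 0 → sg Q u z ∈ M := by
    intro u hu
    by_cases hbu : B b u ≠ 0
    · exact seen P ha hb u hu hbu
    by_cases hau : B a u ≠ 0
    · exact seen P.symm hb ha u hu hau
    push Not at hbu hau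
    rcases eq_or_ne u 0 with rfl | hu0
    · intro z _
      have e : sg Q (0 : ι → F) z = 1 := gext Q fun x => by
        rw [sg_apply S (QuadraticMap.map_zero Q) (QuadraticMap.polar_zero_left Q z), ac_one, siegelMap]
        simp
      rw [e]; exact M.one_mem
    obtain ⟨x, hx⟩ : ∃ x, B u x ≠ 0 := by
      by_contra hh; push Not at hh; exact hu0 (S.hQ.1 u hh)
    set w := x - B b x • a - B a x • b with hw
    obtain ⟨wa, wb⟩ := mem_Wsub.1 (P.proj x)
    have huw : B w u ≠ 0 := by
      rw [hw, QuadraticMap.polar_sub_left, QuadraticMap.polar_sub_left, QuadraticMap.polar_smul_left,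
        QuadraticMap.polar_smul_left, hau, hbu, smul_zero, smul_zero, sub_zero, sub_zero, QuadraticMap.polar_comm]
      exact hx
    have h1 : B b (ac Q (sg Q a w) u) ≠ 0 := by
      rw [sg_apply S P.ha wa, siegelMap, hau, zero_smul, add_zero, mul_zero, sub_zero, QuadraticMap.polar_add_right,
        hbu, zero_add, QuadraticMap.polar_smul_right, P.ba, smul_eq_mul, mul_one, neg_ne_zero]
      exact huw
    have h2 := seen P ha hb _ (by rw [ac_val, hu]) h1
    intro z hz
    have := move _ (M.inv_mem (ha w wa)) (by rw [ac_val, hu]) h2 z (by rw [ac_inv]; exact hz)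
    rwa [ac_inv] at this
  refine eq_top_iff.2 fun g _ => ?_
  have hle : Subgroup.closure (siegelAll Q) ≤ M.map (Cfsg.Omega F (⇑Q)).subtype := by
    refine (Subgroup.closure_le _).2 ?_
    rintro _ ⟨u, z, hu, huz, rfl⟩
    refine ⟨sg Q u z, hall u hu z huz, ext_mulVec Q fun x => ?_⟩
    exact (sg_apply S hu huz x).trans (mat_siegelG Q hu huz x).symm
  have hg : g.1 ∈ Subgroup.closure (siegelAll Q) :=
    (omega_eq_closure_all Q S.hQ (by have := S.hn; omega)).le g.2
  obtain ⟨g', hg', e⟩ := hle hg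
  rwa [show g' = g from Subtype.ext e] at hg'

/-- Nonzero singular vectors. -/
abbrev Sing (Q : QuadraticForm F (ι → F)) : Type u := {v : ι → F // v ≠ 0 ∧ Q v = 0}

theorem card_Sing : Nat.card (Sing Q) + 1 = nval Q ⊤ 0 := by
  classical
  have := Fintype.ofFinite (ι → F)
  rw [nval, Nat.card_congr (show {x : (⊤ : Submodule F (ι → F)) // Q x.1 = 0} ≃ {x : ι → F // Q x = 0} from
    (Equiv.subtypeUnivEquiv fun x => Submodule.mem_top).subtypeEquiv fun x => Iff.rfl),
    Nat.card_eq_fintype_card, Nat.card_eq_fintype_card, Fintype.card_subtype, Fintype.card_subtype,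
    ← Finset.card_erase_add_one (a := (0 : ι → F)) (s := Finset.univ.filter fun x => Q x = 0) (by simp)]
  congr 2
  ext x
  simp

/-- Scaling invariant sets of nonzero vectors come in lines. -/
theorem dvd_card_cone (p : (ι → F) → Prop) (h0 : ∀ v, p v → v ≠ 0) (hs : ∀ (c : F) v, c ≠ 0 → p v → p (c • v)) :
    Fintype.card F - 1 ∣ Nat.card {v // p v} := by
  classical
  let f : Fˣ × {ℓ : Projectivization F (ι → F) // p ℓ.rep} → {v // p v} := fun z =>
    ⟨(z.1 : F) • z.2.1.rep, hs _ _ z.1.ne_zero z.2.2⟩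
  have hf : Function.Bijective f := by
    constructor
    · rintro ⟨c, ℓ, hℓ⟩ ⟨c', ℓ', hℓ'⟩ e
      have e' : (c : F) • ℓ.rep = (c' : F) • ℓ'.rep := congrArg Subtype.val e
      have hl : ℓ = ℓ' := by
        rw [← ℓ.mk_rep, ← ℓ'.mk_rep, Projectivization.mk_eq_mk_iff']
        exact ⟨(c : F)⁻¹ * c', by rw [mul_smul, ← e', smul_smul, inv_mul_cancel₀ c.ne_zero, one_smul]⟩
      subst hl
      exact Prod.ext (Units.ext (smul_left_injective F ℓ.rep_nonzero e')) rfl
    · rintro ⟨v, hv⟩
      obtain ⟨c, hc⟩ := Projectivization.exists_smul_eq_mk_rep F v (h0 v hv)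
      refine ⟨(c⁻¹, ⟨Projectivization.mk F v (h0 v hv), by rw [← hc]; exact hs _ _ c.ne_zero hv⟩), Subtype.ext ?_⟩
      show ((c⁻¹ : Fˣ) : F) • (Projectivization.mk F v (h0 v hv)).rep = v
      rw [← hc]
      exact inv_smul_smul c v
  rw [← Nat.card_congr (Equiv.ofBijective f hf), Nat.card_prod, Nat.card_units, Nat.card_eq_fintype_card (α := F)]
  exact Dvd.intro _ rfl

/-- Pairwise orthogonal singular vectors are few. -/
theorem card_isotropic_le (S : Setting Q) (p : (ι → F) → Prop) (h0 : ∀ v, p v → v ≠ 0 ∧ Q v = 0)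
    (hperp : ∀ v w, p v → p w → B v w = 0) :
    Nat.card {v // p v} < Fintype.card F ^ (Fintype.card ι / 2) := by
  classical
  set U := span F {v | p v} with hU
  have h1 : ∀ x ∈ U, ∀ w, p w → B x w = 0 := by
    intro x hx w hw
    induction hx using Submodule.span_induction with
    | mem t ht => exact hperp t w ht hw
    | zero => exact QuadraticMap.polar_zero_left Q _
    | add t s _ _ ht hs => rw [QuadraticMap.polar_add_left, ht, hs, add_zero]
    | smul c t _ ht => rw [QuadraticMap.polar_smul_left, ht, smul_zero]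
  have h2 : U ≤ HypQuad.perp Q U := fun x hx => by
    rw [HypQuad.mem_perp]
    intro w hw
    rw [QuadraticMap.polar_comm]
    induction hw using Submodule.span_induction with
    | mem t ht => exact h1 x hx t ht
    | zero => exact QuadraticMap.polar_zero_right Q _
    | add t s _ _ ht hs => rw [QuadraticMap.polar_add_right, ht, hs, add_zero]
    | smul c t _ ht => rw [QuadraticMap.polar_smul_right, ht, smul_zero]
  have h3 := Submodule.finrank_mono h2
  rw [HypQuad.finrank_perp Q S.hQ, Module.finrank_fintype_fun_eq_card] at h3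
  have := Fintype.ofFinite U
  have h4 : Nat.card {v // p v} < Nat.card U := by
    rw [Nat.card_eq_fintype_card, Nat.card_eq_fintype_card]
    refine Fintype.card_lt_of_injective_of_notMem (fun v => (⟨v.1, subset_span v.2⟩ : U))
      (fun v w e => Subtype.ext (congrArg (fun z : U => z.1) e)) (b := 0) ?_
    rintro ⟨v, hv⟩
    exact (h0 v.1 v.2).1 (congrArg Subtype.val hv)
  refine h4.trans_le ?_
  rw [Module.natCard_eq_pow_finrank (K := F), Nat.card_eq_fintype_card]
  exact Nat.pow_le_pow_right Fintype.card_pos (by omega)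

namespace Ctx0

variable (C : Ctx0 Q)

include C

/-- A point fixed by the whole Siegel group of a vector. -/
def Fx (u : ι → F) (x : C.X) : Prop := ∀ z, B u z = 0 → sg Q u z • x = x

/-- A point on which the Siegel group of a vector acts freely. -/
def Rg (u : ι → F) (x : C.X) : Prop := ∀ z, B u z = 0 → sg Q u z • x = x → sg Q u z = 1

theorem sg_smul_conj (g : GG Q) {u z : ι → F} (hu : Q u = 0) (hz : B (ac Q g u) z = 0) (x : C.X) :
    B u (ac Q g⁻¹ z) = 0 ∧ sg Q (ac Q g u) z • g • x = g • sg Q u (ac Q g⁻¹ z) • x ∧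
      sg Q (ac Q g u) z = g * sg Q u (ac Q g⁻¹ z) * g⁻¹ := by
  have hz' : B u (ac Q g⁻¹ z) = 0 := by rw [← ac_polar Q g, ac_inv', hz]
  have e : sg Q (ac Q g u) z = g * sg Q u (ac Q g⁻¹ z) * g⁻¹ := by rw [sg_conj C.S g hu hz', ac_inv']
  refine ⟨hz', ?_, e⟩
  rw [e, smul_smul, inv_mul_cancel_right, mul_smul]

theorem Fx_map (g : GG Q) {u : ι → F} (hu : Q u = 0) {x : C.X} (h : C.Fx u x) : C.Fx (ac Q g u) (g • x) := by
  intro z hz
  obtain ⟨hz', e, -⟩ := C.sg_smul_conj g hu hz x
  rw [e, h _ hz']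

theorem Rg_map (g : GG Q) {u : ι → F} (hu : Q u = 0) {x : C.X} (h : C.Rg u x) : C.Rg (ac Q g u) (g • x) := by
  intro z hz hzx
  obtain ⟨hz', e, e'⟩ := C.sg_smul_conj g hu hz x
  rw [e, smul_left_cancel_iff] at hzx
  rw [e', h _ hz' hzx, mul_one, mul_inv_cancel]

theorem Fx_scale {u : ι → F} (hu : Q u = 0) {c : F} (hc : c ≠ 0) {x : C.X} (h : C.Fx u x) : C.Fx (c • u) x := by
  intro z hz
  rw [QuadraticMap.polar_smul_left, smul_eq_mul, mul_eq_zero, or_iff_right hc] at hz
  rw [sg_smul C.S hu hz]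
  exact h _ (by rw [QuadraticMap.polar_smul_right, hz, smul_zero])

/-- Double counting of an equivariant incidence. -/
theorem incidence (φ : (ι → F) → C.X → Prop)
    (hφ : ∀ (g : GG Q) u x, Q u = 0 → φ u x → φ (ac Q g u) (g • x)) :
    ∃ x0 : C.X, C.H.index * Nat.card {v : Sing Q // φ v.1 x0} = Nat.card (Sing Q) * Nat.card {x // φ C.a x} := by
  classical
  have := Fintype.ofFinite C.X
  obtain ⟨x0⟩ : Nonempty C.X := ⟨((1 : GG Q) : GG Q ⧸ C.H)⟩
  refine ⟨x0, ?_⟩
  have hiff : ∀ (g : GG Q) u x, Q u = 0 → (φ (ac Q g u) (g • x) ↔ φ u x) := fun g u x hu =>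
    ⟨fun h => by
      have := hφ g⁻¹ _ _ (by rw [ac_val, hu]) h
      rwa [ac_inv, inv_smul_smul] at this, hφ g u x hu⟩
  have h1 : ∀ x, Nat.card {v : Sing Q // φ v.1 x} = Nat.card {v : Sing Q // φ v.1 x0} := by
    intro x
    obtain ⟨g, rfl⟩ := MulAction.exists_smul_eq (GG Q) x0 x
    let e : Sing Q ≃ Sing Q :=
      { toFun := fun v => ⟨ac Q g v.1, fun h => v.2.1 (ac_inj Q g (h.trans (ac_zero Q g).symm)), by rw [ac_val, v.2.2]⟩
        invFun := fun v => ⟨ac Q g⁻¹ v.1, fun h => v.2.1 (ac_inj Q g⁻¹ (h.trans (ac_zero Q _).symm)),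
          by rw [ac_val, v.2.2]⟩
        left_inv := fun v => Subtype.ext (ac_inv Q g v.1)
        right_inv := fun v => Subtype.ext (ac_inv' Q g v.1) }
    exact (Nat.card_congr (e.subtypeEquiv fun v => (hiff g v.1 x0 v.2.2).symm)).symm
  have h2 : ∀ v : Sing Q, Nat.card {x // φ v.1 x} = Nat.card {x // φ C.a x} := by
    intro v
    obtain ⟨g, hg⟩ := move_sing C.S C.P.ne v.2.1 C.P.ha v.2.2
    refine (Nat.card_congr ((MulAction.toPerm g).subtypeEquiv fun x => ?_)).symm
    show φ C.a x ↔ φ v.1 (g • x)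
    rw [← hg]
    exact (hiff g C.a x C.P.ha).symm
  have e : (Σ x : C.X, {v : Sing Q // φ v.1 x}) ≃ (Σ v : Sing Q, {x // φ v.1 x}) :=
    { toFun := fun p => ⟨p.2.1, p.1, p.2.2⟩
      invFun := fun p => ⟨p.2.1, p.1, p.2.2⟩
      left_inv := fun _ => rfl
      right_inv := fun _ => rfl }
  have := Fintype.ofFinite (Sing Q)
  have e' := Nat.card_congr e
  rw [Nat.card_sigma, Nat.card_sigma, Finset.sum_congr rfl fun x _ => h1 x, Finset.sum_congr rfl fun v _ => h2 v,
    Finset.sum_const, Finset.sum_const, smul_eq_mul, smul_eq_mul, Finset.card_univ, Finset.card_univ,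
    ← Nat.card_eq_fintype_card, ← Nat.card_eq_fintype_card] at e'
  exact e'

theorem Fx_a_iff {x : C.X} : C.Fx C.a x ↔ C.pact.A x = ⊥ := by
  rw [C.pact.A_eq_bot_iff]
  constructor
  · intro h
    exact eq_top_iff.2 fun v _ => h v.1 (C.aW v)
  · intro h z hz
    have hw : z - B C.b z • C.a ∈ Wsub Q C.a C.b := by
      have := C.P.proj z
      rwa [hz, zero_smul, sub_zero] at this
    have h1 : (⟨_, hw⟩ : C.W) ∈ C.pact.K x := h ▸ AddSubgroup.mem_top _
    rw [C.pact.mem_K, C.pact_f] at h1
    rwa [← sg_shift C.S C.P.ha (mem_Wsub.1 hw).1 (B C.b z), sub_add_cancel] at h1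

theorem Rg_a_iff {x : C.X} : C.Rg C.a x ↔ C.pact.A x = ⊤ := by
  have hK : C.pact.A x = ⊤ ↔ C.pact.K x = ⊥ := by
    constructor
    · intro h
      refine eq_bot_iff.2 fun v hv => AddSubgroup.mem_bot.2 (C.pact.χ_nd v fun w => ?_)
      rw [C.pact.χ_comm]
      exact (h ▸ AddSubgroup.mem_top w : w ∈ C.pact.A x) v hv
    · intro h
      refine eq_top_iff.2 fun w _ v hv => ?_
      rw [h, AddSubgroup.mem_bot] at hv
      rw [hv, C.pact.χ_zero_left]
  rw [hK]
  constructor
  · intro h
    refine eq_bot_iff.2 fun v hv => AddSubgroup.mem_bot.2 (Subtype.ext ?_)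
    have e := congrArg (fun g => ac Q g C.b) (h v.1 (C.aW v) hv)
    simp only [sg_apply C.S C.P.ha (C.aW v), ac_one, siegelMap, C.P.hab,
      show B v.1 C.b = 0 by rw [QuadraticMap.polar_comm]; exact C.bW v, one_smul, mul_one, neg_zero, zero_sub] at e
    have e1 : v.1 = Q v.1 • C.a := by linear_combination (norm := module) e
    have e2 := C.bW v
    rw [e1, QuadraticMap.polar_smul_right, C.P.ba, smul_eq_mul, mul_one] at e2
    rw [e1, e2, zero_smul, Submodule.coe_zero]
  · intro h z hz hzx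
    have hw : z - B C.b z • C.a ∈ Wsub Q C.a C.b := by
      have := C.P.proj z
      rwa [hz, zero_smul, sub_zero] at this
    rw [← sub_add_cancel z (B C.b z • C.a), sg_shift C.S C.P.ha (mem_Wsub.1 hw).1] at hzx ⊢
    have h1 : (⟨_, hw⟩ : C.W) ∈ C.pact.K x := hzx
    rw [h, AddSubgroup.mem_bot] at h1
    have h2 : z - B C.b z • C.a = 0 := congrArg Subtype.val h1
    rw [h2, sg_zero C.S C.P.ha]

/-- In a proper subgroup the vectors whose Siegel groups fix a point are pairwise orthogonal. -/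
theorem Fx_orth (hH : C.H ≠ ⊤) {x : C.X} {u u' : ι → F} (hu : Q u = 0) (hu' : Q u' = 0) (h : C.Fx u x)
    (h' : C.Fx u' x) : B u u' = 0 := by
  by_contra hne
  set c := (B u u')⁻¹
  have P : Pair Q u (c • u') := ⟨hu, by rw [QuadraticMap.map_smul, hu', smul_zero], by
    rw [QuadraticMap.polar_smul_right, smul_eq_mul, inv_mul_cancel₀ hne]⟩
  have hM := two_siegel_top C.S P (MulAction.stabilizer (GG Q) x) h (C.Fx_scale hu' (inv_ne_zero hne) h')
  refine hH (Subgroup.index_eq_one.1 ?_)
  have hsub : Subsingleton C.X := ⟨fun y z => by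
    obtain ⟨g, rfl⟩ := MulAction.exists_smul_eq (GG Q) x y
    obtain ⟨g', rfl⟩ := MulAction.exists_smul_eq (GG Q) x z
    rw [show g • x = x from (hM ▸ Subgroup.mem_top g : g ∈ MulAction.stabilizer (GG Q) x),
      show g' • x = x from (hM ▸ Subgroup.mem_top g' : g' ∈ MulAction.stabilizer (GG Q) x)]⟩
  exact Nat.card_eq_one_iff_unique.2 ⟨hsub, ⟨x⟩⟩

theorem tor_pow {e f : ι → F} (P : Pair Q e f) {c : F} (hc : c ≠ 0) (hsq : IsSquare c) :
    tor Q e f c ^ (Fintype.card F - 1) = 1 := by
  have key : ∀ i : ℕ, tor Q e f c ^ i = tor Q e f (c ^ i) := by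
    intro i
    induction i with
    | zero =>
      refine gext Q fun x => ?_
      rw [pow_zero, ac_one, tor_apply C.S P (pow_ne_zero 0 hc) (by rw [pow_zero]; exact IsSquare.one)]
      simp
    | succ i ih =>
      have hi : IsSquare (c ^ i) := hsq.pow i
      refine gext Q fun x => ?_
      rw [pow_succ, ih, ac_mul, tor_apply C.S P (pow_ne_zero _ hc) hi, tor_apply C.S P hc hsq,
        tor_apply C.S P (pow_ne_zero _ hc) (hsq.pow _)]
      simp only [QuadraticMap.polar_add_right, QuadraticMap.polar_smul_right, P.aa, P.hab, P.bb, P.ba, smul_eq_mul,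
        pow_succ, _root_.mul_inv_rev]
      match_scalars <;> field_simp <;> ring
  refine gext Q fun x => ?_
  rw [key, FiniteField.pow_card_sub_one_eq_one c hc, tor_apply C.S P one_ne_zero IsSquare.one, ac_one]
  simp

/-- An element of order dividing `q − 1` keeping an orbit has a fixed point on it. -/
theorem exists_fixed (Γ : C.pact.Compat) {O : C.pact.Orb} (hO : Γ.map O = O)
    (hpow : ∀ x, (⇑Γ.g)^[Fintype.card F - 1] x = x) : ∃ y, C.pact.orb y = O ∧ Γ.g y = y := by
  obtain ⟨x0, rfl⟩ := C.pact.orb_surj O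
  obtain ⟨v0, hv0⟩ := C.pact.orb_eq.1 hO.symm
  let v : ℕ → C.W := fun i => Nat.rec 0 (fun _ w => Γ.π w + v0) i
  have hsucc : ∀ i, v (i + 1) = Γ.π (v i) + v0 := fun i => rfl
  have hit : ∀ i, (⇑Γ.g)^[i] x0 = C.pact.f (v i) x0 := by
    intro i
    induction i with
    | zero => exact (C.pact.f_zero x0).symm
    | succ i ih =>
      rw [Function.iterate_succ_apply', ih, Γ.comm, hsucc, C.pact.f_add, hv0]
  set N := Fintype.card F - 1 with hN
  have hNF : (N : F) = -1 := by
    rw [hN, Nat.cast_sub (by have := (Fintype.one_lt_card (α := F)); omega), Nat.cast_card_eq_zero, Nat.cast_one, zero_sub]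
  have hNs : ∀ w : C.W, N • w = -w := fun w => by
    rw [← Nat.cast_smul_eq_nsmul F, hNF, neg_one_smul]
  set w := -∑ i ∈ Finset.range N, v i with hw
  refine ⟨C.pact.f w x0, C.pact.orb_f w x0, ?_⟩
  have h1 : ∑ i ∈ Finset.range N, v (i + 1) = (∑ i ∈ Finset.range N, Γ.π (v i)) + -v0 := by
    simp only [hsucc]
    rw [Finset.sum_add_distrib, Finset.sum_const, Finset.card_range, hNs]
  have h2 : ∑ i ∈ Finset.range N, v (i + 1) + v 0 = ∑ i ∈ Finset.range N, v i + v N := by
    rw [← Finset.sum_range_succ', Finset.sum_range_succ]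
  have h3 : Γ.π w + v0 = w + -v N := by
    have hv00 : v 0 = 0 := rfl
    rw [hv00, add_zero, h1] at h2
    rw [hw, map_neg, map_sum]
    linear_combination (norm := abel) -(1 : ℤ) • h2
  have hvN : C.pact.f (v N) x0 = x0 := by rw [← hit, hpow]
  rw [Γ.comm, ← hv0, ← C.pact.f_add, h3, C.pact.f_add]
  congr 1
  conv_lhs => rw [← hvN]
  exact C.pact.f_neg _ _

end Ctx0

end Cfsg.Lib.Known.MinIndexO
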