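import Cfsg.Agent.Known.MinIndexO.SmallBase

/-!
The field of two elements: no subgroup of small index.
-/

set_option autoImplicit false
set_option linter.unusedSectionVars false
set_option linter.style.haveILetI false

open Matrix Submodule

namespace Cfsg.Lib.Known.MinIndexO

open Cfsg.Lib.Classical Cfsg.Lib.Classical.Refl

universe u

variable {F : Type u} [Field F] [Fintype F] {ι : Type} [Fintype ι] [DecidableEq ι] {Q : QuadraticForm F (ι → F)}

set_option quotPrecheck false in
local notation "B" => QuadraticMap.polar (⇑Q)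

set_option synthInstance.maxHeartbeats 400000

theorem eq_one_of_two (hq : Fintype.card F = 2) {x : F} (hx : x ≠ 0) : x = 1 := by
  have := FiniteField.pow_card_sub_one_eq_one x hx
  rwa [hq, show 2 - 1 = 1 from rfl, pow_one] at this

theorem two_eq_zero' (hq : Fintype.card F = 2) : (2 : F) = 0 := by
  have := Nat.cast_card_eq_zero F
  rwa [hq, Nat.cast_ofNat] at this

/-- The counts over two elements: the plus and the minus type. -/
def TwoData (C : Ctx0 Q) (X : ℕ) : Prop :=
  (2 * (C.Ns + 1) = X * X + X ∧ C.H.index + X < 2 * (X * X)) ∨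
    (2 * (C.Ns + 1) + X = X * X ∧ C.H.index + X + 1 < 2 * (X * X))

namespace Ctx0

variable (C : Ctx0 Q) (hq : Fintype.card F = 2) {l : ℕ} (hl : 3 ≤ l) (hn : Fintype.card ι = 2 * l + 2)
  (hdata : TwoData C (2 ^ l))

include C hq hl hn hdata

theorem two_card_W : Nat.card C.W = 2 ^ l * 2 ^ l := by
  rw [C.card_W, hq, ← pow_add]
  congr 1
  omega

theorem two_X_le : 8 ≤ 2 ^ l := le_trans (by norm_num) (Nat.pow_le_pow_right two_pos hl)

/-- The class of a value is large. -/
theorem two_class_low [Fintype C.W] (r : F) (D : Finset C.W) (hD : ∀ w, w ∈ D ↔ w ≠ 0 ∧ Q w.1 = r) :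
    (r = 0 → D.card = C.Ns) ∧ (r ≠ 0 → D.card + C.Ns + 1 = 2 ^ l * 2 ^ l) ∧
      2 ^ l * 2 ^ l ≤ 2 * D.card + 2 ^ l + 2 := by
  classical
  have h0 : r = 0 → D.card = C.Ns := by
    rintro rfl
    have h := C.card_val 0 D hD
    rw [if_pos rfl] at h
    rw [Ns]
    omega
  have h1 : r ≠ 0 → D.card + C.Ns + 1 = 2 ^ l * 2 ^ l := by
    intro hr
    have e : Finset.univ = D ∪ Finset.univ.filter fun w : C.W => Q w.1 = 0 := by
      ext w
      simp only [Finset.mem_univ, Finset.mem_union, hD, Finset.mem_filter, true_and, true_iff]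
      rcases eq_or_ne (Q w.1) 0 with h | h
      · exact Or.inr h
      · exact Or.inl ⟨fun e => h (by rw [e, Submodule.coe_zero, QuadraticMap.map_zero]),
          (eq_one_of_two hq h).trans (eq_one_of_two hq hr).symm⟩
    have hdisj : Disjoint D (Finset.univ.filter fun w : C.W => Q w.1 = 0) :=
      Finset.disjoint_left.2 fun w hw hw' => hr (((hD w).1 hw).2.symm.trans (Finset.mem_filter.1 hw').2)
    have := congrArg Finset.card e
    rw [Finset.card_union_of_disjoint hdisj, Finset.card_univ, ← Nat.card_eq_fintype_card,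
      C.two_card_W hq hl hn hdata, ← Fintype.card_subtype, ← Nat.card_eq_fintype_card] at this
    rw [add_assoc, Ns, Nat.sub_add_cancel C.one_le_nval0, nval]
    exact this.symm
  refine ⟨h0, h1, ?_⟩
  have hdata' := hdata
  unfold TwoData at hdata'
  generalize 2 ^ l * 2 ^ l = W2 at hdata' h1 ⊢
  generalize 2 ^ l = X at hdata' ⊢
  rcases eq_or_ne r 0 with h | h
  · have := h0 h
    rcases hdata' with ⟨e, -⟩ | ⟨e, -⟩ <;> omega
  · have := h1 h
    rcases hdata' with ⟨e, -⟩ | ⟨e, -⟩ <;> omega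

/-- Every vector lies in at most four perps. -/
theorem two_m_le [Fintype C.pact.Orb] {v : C.W} (hv : v ≠ 0) : C.m v ≤ 4 := by
  classical
  have := Fintype.ofFinite C.W
  let D : Finset C.W := Finset.univ.filter fun w => w ≠ 0 ∧ Q w.1 = Q v.1
  have hD := C.two_class_low hq hl hn hdata (Q v.1) D (by simp [D])
  have h := C.mul_mem_le D (by simp [D]) (v := v) fun w hw => C.m_eq hv (Finset.mem_filter.1 hw).2.1 one_ne_zero
    (by rw [(Finset.mem_filter.1 hw).2.2, one_mul, one_mul])
  by_contra hm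
  have h5 := Nat.mul_le_mul_right D.card (show 5 ≤ C.m v by omega)
  have hX := C.two_X_le hq hl hn hdata
  have h1 : C.H.index + 2 ^ l < 2 * (2 ^ l * 2 ^ l) := by rcases hdata with ⟨-, e⟩ | ⟨-, e⟩ <;> omega
  have h2 := hD.2.2
  generalize 2 ^ l = X at h1 h2 hX
  nlinarith

/-- Over two elements every perp is everything or lies on a line. -/
theorem two_shape [Fintype C.pact.Orb] (O : C.pact.Orb) :
    C.pact.AO O = ⊤ ∨ ∃ v : C.W, ∀ u ∈ C.pact.AO O, u.1 ∈ span F {v.1} := by
  classical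
  have := Fintype.ofFinite C.W
  have hp : (Fintype.card F).Prime := hq ▸ Nat.prime_two
  have hX := C.two_X_le hq hl hn hdata
  have hs := C.card_AO_pow hp O
  rw [hq] at hs
  set h := Module.finrank F (C.spanO O) with hh
  by_cases htop : C.pact.AO O = ⊤
  · exact Or.inl htop
  right
  rcases Nat.lt_or_ge h 2 with h1 | h2
  · by_cases hb : C.pact.AO O = ⊥
    · exact ⟨0, fun u hu => by rw [hb, AddSubgroup.mem_bot] at hu; rw [hu]; exact zero_mem _⟩
    obtain ⟨v, hv, hv0⟩ : ∃ v ∈ C.pact.AO O, v ≠ 0 := by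
      by_contra hc
      push Not at hc
      exact hb (eq_bot_iff.2 fun v hv => AddSubgroup.mem_bot.2 (hc v hv))
    refine ⟨v, fun u hu => ?_⟩
    have e : span F {v.1} = C.spanO O := Submodule.eq_of_le_of_finrank_le
      ((span_singleton_le_iff_mem _ _).2 (C.mem_spanO hv))
      (by rw [finrank_span_singleton fun e => hv0 (Subtype.ext e)]; omega)
    exact e ▸ C.mem_spanO hu
  exfalso
  have hd : C.H.index + 2 ^ l < 2 * (2 ^ l * 2 ^ l) := by rcases hdata with ⟨-, e⟩ | ⟨-, e⟩ <;> omega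
  rcases Nat.lt_or_ge l h with hbig | hsmall
  · -- a large perp has a small stabiliser
    obtain ⟨x, rfl⟩ := C.pact.orb_surj O
    have hA : Nat.card (C.pact.A x) = 2 ^ h := hs
    have hlt : Nat.card (C.pact.A x) < Nat.card C.W := lt_of_le_of_ne (Finite.card_subtype_le _) fun e =>
      htop (by rw [C.pact.AO_orb]; exact AddSubgroup.eq_top_of_card_eq _ e)
    obtain ⟨v, hv, hv0⟩ : ∃ v ∈ C.pact.K x, v ≠ 0 := by
      by_contra hc
      push Not at hc
      have := C.card_K x
      rw [show C.pact.K x = ⊥ from eq_bot_iff.2 fun v hv => AddSubgroup.mem_bot.2 (hc v hv),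
        AddSubgroup.card_bot, one_mul] at this
      omega
    let D : Finset C.W := Finset.univ.filter fun w => w ≠ 0 ∧ Q w.1 = Q v.1
    have hD := (C.two_class_low hq hl hn hdata (Q v.1) D (by simp [D])).2.2
    have hb := C.big_bound D (by simp [D]) x fun w hw => ⟨v, hv, hv0, (Finset.mem_filter.1 hw).2.2.symm⟩
    rw [C.two_card_W hq hl hn hdata, hA] at hb
    have hS : 2 * 2 ^ l ≤ 2 ^ h := by rw [← pow_succ']; exact Nat.pow_le_pow_right two_pos hbig
    generalize 2 ^ l = X at hS hd hD hX hb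
    generalize 2 ^ h = s at hS hb
    generalize D.card = N at hD hb
    have h3 : N * (2 * X) * (2 * X) ≤ C.H.index * (X * X - 2 * X) :=
      (Nat.mul_le_mul (Nat.mul_le_mul_left N hS) hS).trans (hb.trans (Nat.mul_le_mul_left _ (by omega)))
    obtain ⟨Y, rfl⟩ : ∃ Y, X = Y + 8 := ⟨X - 8, by omega⟩
    obtain ⟨R, hR⟩ : ∃ R, (Y + 8) * (Y + 8) - 2 * (Y + 8) = R := ⟨_, rfl⟩
    have hR' : R + 2 * (Y + 8) = (Y + 8) * (Y + 8) := by
      rw [← hR, Nat.sub_add_cancel]
      exact Nat.mul_le_mul (by omega) le_rfl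
    rw [hR] at h3
    nlinarith [Nat.mul_le_mul_left R hd.le]
  by_cases hns : ∀ w ∈ C.pact.AO O, Q w.1 = 0
  · -- totally singular planes have many images
    obtain ⟨v, hv, hv0⟩ : ∃ v ∈ C.pact.AO O, v ≠ 0 := by
      by_contra hc
      push Not at hc
      rw [show C.pact.AO O = ⊥ from eq_bot_iff.2 fun v hv => AddSubgroup.mem_bot.2 (hc v hv),
        AddSubgroup.card_bot] at hs
      have := Nat.one_lt_two_pow (show h ≠ 0 by omega)
      omega
    obtain ⟨u, hu, huv⟩ : ∃ u ∈ C.pact.AO O, u.1 ∉ span F {v.1} := by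
      by_contra hc
      push Not at hc
      have := C.spanO_line hc
      omega
    obtain ⟨T, hT, hcount, hT1, hTmem⟩ := C.plane_images hns hv hu huv
    have hm := C.two_m_le hq hl hn hdata hv0
    have hTm : T.card ≤ C.m v := (Finset.card_le_card hT).trans Finset.card_image_le
    rw [hq, ← hh, show Fintype.card ι - 5 = 2 * l - 3 by omega] at hcount
    have hl3 : l = 3 ∧ h = 3 := by
      have h4 : 2 ^ (2 * l - 3) < 2 ^ (2 + (h - 1)) := by
        rw [pow_add]
        exact hcount.trans_lt (Nat.mul_lt_mul_of_pos_right (by omega) (pow_pos two_pos _))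
      have := (Nat.pow_lt_pow_iff_right (by norm_num)).1 h4
      omega
    obtain ⟨rfl, h3⟩ := hl3
    rw [h3] at hcount
    have hT3 : 3 ≤ T.card := by norm_num at hcount; omega
    rw [h3] at hs
    let S : Finset C.pact.Orb := Finset.univ.filter fun O' => Nat.card (C.pact.AO O') = 8
    let D : Finset C.W := Finset.univ.filter fun w => w ≠ 0 ∧ Q w.1 = 0
    have hD := (C.two_class_low hq hl hn hdata 0 D (by simp [D])).1 rfl
    have hc : ∑ w ∈ D, (S ∩ C.pact.mem w).card + S.card ≤ ∑ O ∈ S, Nat.card (C.pact.AO O) := by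
      convert C.pact.count_le D (by simp [D]) S
    have hlow : D.card * 3 ≤ ∑ w ∈ D, (S ∩ C.pact.mem w).card := by
      rw [← smul_eq_mul]
      refine Finset.card_nsmul_le_sum _ _ _ fun w hw => ?_
      obtain ⟨-, hw0, hQw⟩ := Finset.mem_filter.1 hw
      have e1 : (S ∩ C.pact.mem v).card = (S ∩ C.pact.mem w).card := by
        obtain ⟨Γ, hΓ⟩ := C.exists_compat hv0 hw0 one_ne_zero (by rw [hQw, hns v hv, mul_zero])
        refine Finset.card_equiv Γ.map fun O' => ?_
        simp only [Finset.mem_inter, Pact.mem_mem, S, Finset.mem_filter, Finset.mem_univ, true_and]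
        rw [← hΓ, Γ.mem_AO, C.card_AO_map Γ (C.σ_inj Γ)]
      rw [← e1]
      refine hT3.trans (le_trans (Finset.card_le_card fun U hU => ?_) Finset.card_image_le (b := (S ∩ C.pact.mem v).image C.spanO |>.card))
      obtain ⟨O', hO', e, -, e2⟩ := hTmem U hU
      exact Finset.mem_image.2 ⟨O', Finset.mem_inter.2 ⟨Finset.mem_filter.2 ⟨Finset.mem_univ _,
        e2.trans (hs.trans (by norm_num))⟩, hO'⟩, e⟩
    have hsum : ∑ O ∈ S, Nat.card (C.pact.AO O) = S.card * 8 := by
      rw [Finset.sum_congr rfl fun O hO => (Finset.mem_filter.1 hO).2, Finset.sum_const, smul_eq_mul]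
    have hSd : S.card * 8 ≤ C.H.index := hsum ▸ (C.pact.sum_le S).trans (le_of_eq C.card_X)
    rw [hsum] at hc
    -- the maximal Witt index forces the plus type
    have hfin : Module.finrank F ↥(Wsub Q C.a C.b) = 2 * 3 := by
      have dW : Module.finrank F ↥(Wsub Q C.a C.b) + 2 = Fintype.card ι := C.finrank_W
      omega
    have hz := (zeros_of_witt 3 (Wsub Q C.a C.b) (C.spanO O)
      (fun x hx hxy => C.eq_zero_of_perp hx fun v => hxy v.1 v.2) (C.spanO_le_W O)
      (fun x hx => (C.spanO_singular hns x hx).1) (by omega)).2 hfin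
    have hNs : C.Ns + 1 = 36 := by
      rw [Ns, Nat.sub_add_cancel C.one_le_nval0]
      rw [hq] at hz
      omega
    rcases hdata with ⟨e1, e2⟩ | ⟨e1, e2⟩ <;> norm_num at e1 e2 <;> omega
  -- a perp with a vector of nonzero value
  push Not at hns
  obtain ⟨w, hw, hQw⟩ := hns
  have hw0 : w ≠ 0 := fun e => hQw (by rw [e, Submodule.coe_zero, QuadraticMap.map_zero])
  have h2F := two_eq_zero' hq
  have hww : B w.1 w.1 = 0 := by rw [polar_self_two, h2F, zero_mul]
  have hm := C.two_m_le hq hl hn hdata hw0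
  have hspan : ∀ z : C.W, z ≠ 0 → z ≠ w → z.1 ∉ span F {w.1} := fun z hz hz' hzz => by
    obtain ⟨c, hc⟩ := mem_span_singleton.1 hzz
    rcases eq_or_ne c 0 with rfl | hc0
    · exact hz (Subtype.ext (by rw [← hc, zero_smul, Submodule.coe_zero]))
    · exact hz' (Subtype.ext (by rw [← hc, eq_one_of_two hq hc0, one_smul]))
  by_cases hx : ∃ x ∈ C.pact.AO O, B w.1 x.1 = 0 ∧ x ≠ 0 ∧ x ≠ w
  · obtain ⟨x, hxO, hwx, hx0, hxw⟩ := hx
    let D : Finset C.W := Finset.univ.filter fun y => B w.1 y.1 = 0 ∧ y ≠ 0 ∧ y ≠ w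
    let T : Finset C.pact.Orb := (C.pact.mem w).filter fun O' => Nat.card (C.pact.AO O') = 2 ^ h
    have hval : ∀ z : C.W, B w.1 z.1 = 0 → ∀ r : F, r ≠ 0 →
        ∃ y ∈ Wsub Q C.a C.b, B w.1 y = 0 ∧ B z.1 y = 0 ∧ Q y = r := fun z hz r hr =>
      ⟨w.1, w.2, hww, by rw [QuadraticMap.polar_comm]; exact hz,
        (eq_one_of_two hq hQw).trans (eq_one_of_two hq hr).symm⟩
    have hcov : ∀ y ∈ D, ∃ O' ∈ T, y ∈ C.pact.AO O' := by
      intro y hy
      obtain ⟨-, hwy, hy0, hyw⟩ := Finset.mem_filter.1 hy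
      obtain ⟨x', hx'O, hx'0, hx'w, hwx', hQ'⟩ : ∃ x' ∈ C.pact.AO O, x' ≠ 0 ∧ x' ≠ w ∧
          B w.1 x'.1 = 0 ∧ Q x'.1 = Q y.1 := by
        rcases eq_or_ne (Q x.1) (Q y.1) with e | e
        · exact ⟨x, hxO, hx0, hxw, hwx, e⟩
        refine ⟨x + w, add_mem hxO hw, fun h' => ?_, fun h' => hx0 (by simpa using h'), ?_, ?_⟩
        · exact hxw (Subtype.ext (by
            have h'' : x.1 + w.1 = 0 := congrArg Subtype.val h'
            rw [eq_neg_of_add_eq_zero_left h'', ← neg_one_smul F w.1,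
              show (-1 : F) = 1 by linear_combination -h2F, one_smul]))
        · rw [Submodule.coe_add, QuadraticMap.polar_add_right, hwx, hww, add_zero]
        · rw [Submodule.coe_add, QuadraticMap.map_add (f := Q), eq_one_of_two hq hQw,
            QuadraticMap.polar_comm, hwx, add_zero]
          rcases eq_or_ne (Q x.1) 0 with h0 | h0
          · rw [h0, zero_add, eq_one_of_two hq (fun h' => e (h0.trans h'.symm))]
          · rw [eq_one_of_two hq h0] at e ⊢
            rcases eq_or_ne (Q y.1) 0 with h1 | h1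
            · rw [h1]; linear_combination h2F
            · exact absurd (eq_one_of_two hq h1).symm e
      obtain ⟨g, hg⟩ := C.move_slice (hspan x' hx'0 hx'w) (hspan y hy0 hyw) hQ'
        (by rw [hwx', hwy]) (hval x' hwx')
      obtain ⟨O', hO', hyO', hc⟩ := C.exists_image hw hx'O g hg
      exact ⟨O', Finset.mem_filter.2 ⟨hO', hc.trans hs⟩, hyO'⟩
    have hk : ∀ O' ∈ T, (D.filter (· ∈ C.pact.AO O')).card ≤ 2 ^ h - 2 := by
      intro O' hO'
      obtain ⟨hO'm, hc⟩ := Finset.mem_filter.1 hO'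
      rw [Nat.card_eq_fintype_card, Fintype.card_subtype] at hc
      rw [← hc]
      have hpair : ({0, w} : Finset C.W) ⊆ Finset.univ.filter (· ∈ C.pact.AO O') := fun z hz => by
        rcases Finset.mem_insert.1 hz with rfl | hz
        · exact Finset.mem_filter.2 ⟨Finset.mem_univ _, zero_mem _⟩
        · rw [Finset.mem_singleton.1 hz]; exact Finset.mem_filter.2 ⟨Finset.mem_univ _, C.pact.mem_mem.1 hO'm⟩
      rw [← Finset.card_pair (Ne.symm hw0), ← Finset.card_sdiff_of_subset hpair]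
      refine Finset.card_le_card fun z hz => ?_
      obtain ⟨hzD, hzO⟩ := Finset.mem_filter.1 hz
      obtain ⟨-, -, hz0, hzw⟩ := Finset.mem_filter.1 hzD
      exact Finset.mem_sdiff.2 ⟨Finset.mem_filter.2 ⟨Finset.mem_univ _, hzO⟩, by simp [hz0, hzw]⟩
    have hc := C.cover_card D T _ hcov hk
    have hTc : T.card ≤ 4 := (Finset.card_filter_le _ _).trans hm
    have hDlow : 2 ^ l * 2 ^ l ≤ 2 * D.card + 4 := by
      set Y := HypQuad.perp Q (span F (Set.range ![C.a, C.b, w.1]))
      have hY : Fintype.card ι ≤ Module.finrank F Y + 3 := finrank_perp_range C.S _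
      have hmem : ∀ y : Y, y.1 ∈ Wsub Q C.a C.b ∧ B w.1 y.1 = 0 := fun y => by
        have := (mem_perp_range _ _).1 y.2
        exact ⟨mem_Wsub.2 ⟨this 0, this 1⟩, this 2⟩
      have h1 : Nat.card Y ≤ Nat.card {y : C.W // B w.1 y.1 = 0} :=
        Nat.card_le_card_of_injective (fun y : Y => ⟨⟨y.1, (hmem y).1⟩, (hmem y).2⟩) fun y y' e =>
          Subtype.ext (congrArg (fun t : {y : C.W // B w.1 y.1 = 0} => t.1.1) e)
      rw [Module.natCard_eq_pow_finrank (K := F) (V := Y), Nat.card_eq_fintype_card (α := F), hq,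
        Nat.card_eq_fintype_card, Fintype.card_subtype] at h1
      have h2 : (Finset.univ.filter fun y : C.W => B w.1 y.1 = 0).card ≤ D.card + 2 := by
        refine (Finset.card_le_card (t := D ∪ {0, w}) fun y hy => ?_).trans
          ((Finset.card_union_le _ _).trans (Nat.add_le_add_left Finset.card_le_two _))
        rw [Finset.mem_union]
        by_cases h' : y = 0 ∨ y = w
        · right; rcases h' with rfl | rfl <;> simp
        · push Not at h'
          exact Or.inl (Finset.mem_filter.2 ⟨Finset.mem_univ _, (Finset.mem_filter.1 hy).2, h'.1, h'.2⟩)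
      have h3 : 2 ^ (2 * l - 1) ≤ 2 ^ Module.finrank F Y := Nat.pow_le_pow_right two_pos (by omega)
      have h4 : 2 ^ l * 2 ^ l = 2 * 2 ^ (2 * l - 1) := by
        rw [← pow_add, ← pow_succ']; congr 1; omega
      omega
    have hsl : 2 ^ h ≤ 2 ^ l := Nat.pow_le_pow_right two_pos hsmall
    have hc' : D.card ≤ 4 * (2 ^ l - 2) := hc.trans (Nat.mul_le_mul hTc (by omega))
    generalize 2 ^ l = X at hX hc' hDlow
    obtain ⟨Y, rfl⟩ : ∃ Y, X = Y + 8 := ⟨X - 8, by omega⟩
    nlinarith [show Y + 8 - 2 = Y + 6 by omega]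
  · -- a nondegenerate plane has many images
    push Not at hx
    have hline : ∀ z ∈ C.pact.AO O, B w.1 z.1 = 0 → z = 0 ∨ z = w := fun z hz hzw => by
      by_contra hc
      push Not at hc
      exact hc.2 (hx z hz hzw hc.1)
    obtain ⟨x, hxO, hx'⟩ : ∃ x ∈ C.pact.AO O, x.1 ∉ span F {w.1} := by
      by_contra hc
      push Not at hc
      have := C.spanO_line hc
      omega
    have hwx : B w.1 x.1 = 1 := eq_one_of_two hq fun h0 => by
      rcases hline x hxO h0 with rfl | rfl
      · exact hx' (zero_mem _)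
      · exact hx' (mem_span_singleton_self _)
    have hU : ∀ z ∈ C.pact.AO O, z = 0 ∨ z = w ∨ z = x ∨ z = x + w := by
      intro z hz
      rcases eq_or_ne (B w.1 z.1) 0 with h0 | h0
      · rcases hline z hz h0 with h' | h'
        · exact Or.inl h'
        · exact Or.inr (Or.inl h')
      · rcases hline (z - x) (sub_mem hz hxO) (by
          rw [Submodule.coe_sub, QuadraticMap.polar_sub_right, eq_one_of_two hq h0, hwx, sub_self]) with h' | h'
        · exact Or.inr (Or.inr (Or.inl (sub_eq_zero.1 h')))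
        · exact Or.inr (Or.inr (Or.inr (by rw [← h', add_sub_cancel])))
    set T4 := span F (Set.range ![C.a, C.b, w.1, x.1]) with hT4
    have hxw : B x.1 w.1 = 1 := by rw [QuadraticMap.polar_comm]; exact hwx
    have hrad : T4 ⊓ HypQuad.perp Q T4 ≤ ⊥ := by
      rintro z ⟨hz1, hz2⟩
      rw [SetLike.mem_coe, hT4, mem_perp_range] at hz2
      rw [SetLike.mem_coe, hT4, Submodule.mem_span_range_iff_exists_fun] at hz1
      obtain ⟨c, hc⟩ := hz1
      simp only [Fin.sum_univ_four, Matrix.cons_val_zero, Matrix.cons_val_one, Matrix.cons_val] at hc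
      have f1 : B C.a z = 0 := hz2 0
      have f2 : B C.b z = 0 := hz2 1
      have f3 : B w.1 z = 0 := hz2 2
      have f4 : B x.1 z = 0 := hz2 3
      have wa : B w.1 C.a = 0 := by rw [QuadraticMap.polar_comm]; exact C.aW w
      have wb : B w.1 C.b = 0 := by rw [QuadraticMap.polar_comm]; exact C.bW w
      have xa : B x.1 C.a = 0 := by rw [QuadraticMap.polar_comm]; exact C.aW x
      have xb : B x.1 C.b = 0 := by rw [QuadraticMap.polar_comm]; exact C.bW x
      have xx : B x.1 x.1 = 0 := by rw [polar_self_two, h2F, zero_mul]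
      simp only [← hc, QuadraticMap.polar_add_right, QuadraticMap.polar_smul_right, C.P.aa, C.P.hab, C.P.bb,
        C.P.ba, C.aW w, C.bW w, C.aW x, C.bW x, wa, wb, xa, xb, hww, xx, hwx, hxw, smul_eq_mul, mul_zero, mul_one,
        add_zero, zero_add] at f1 f2 f3 f4
      rw [Submodule.mem_bot, ← hc, f1, f2, f3, f4]
      simp
    obtain ⟨e, f, P, he, hf⟩ := exists_pair_orth C.S hrad (by
      rw [finrank_bot]
      have := finrank_range_le ![C.a, C.b, w.1, x.1]
      rw [← hT4] at this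
      omega)
    set X4 := HypQuad.perp Q T4 with hX4
    have hmemX : ∀ z ∈ X4, z ∈ Wsub Q C.a C.b ∧ B w.1 z = 0 ∧ B x.1 z = 0 := fun z hz => by
      rw [hX4, hT4, mem_perp_range] at hz
      exact ⟨mem_Wsub.2 ⟨hz 0, hz 1⟩, hz 2, hz 3⟩
    have hX4d : Fintype.card ι ≤ Module.finrank F X4 + 4 := finrank_perp_range C.S _
    have hd4 := P.finrank_split he hf
    have hn5 : 5 ≤ nval Q X4 0 := by
      rw [P.nval_eq he hf 0, Module.natCard_eq_pow_finrank (K := F), Nat.card_eq_fintype_card (α := F), hq]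
      have h1 : 1 ≤ nval Q (X4 ⊓ Wsub Q e f) 0 :=
        have : Nonempty {z : ↥(X4 ⊓ Wsub Q e f) // Q z.1 = 0} :=
          ⟨⟨0, by rw [Submodule.coe_zero, QuadraticMap.map_zero]⟩⟩
        Nat.card_pos
      have h2 : 2 ^ 2 ≤ 2 ^ Module.finrank F ↥(X4 ⊓ Wsub Q e f) := Nat.pow_le_pow_right two_pos (by omega)
      omega
    have hmove : ∀ z : {z : X4 // Q z.1 = 0}, ∃ g : ↥(C.St w.1), ac Q g.1 x.1 = x.1 + z.1.1 := by
      rintro ⟨⟨z, hz⟩, hQz⟩
      obtain ⟨hzW, hwz, hxz⟩ := hmemX z hz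
      refine C.move_slice (x' := ⟨x.1 + z, add_mem x.2 hzW⟩) hx' ?_ ?_ ?_ fun r hr => ?_
      · intro h'
        obtain ⟨c, hc⟩ := mem_span_singleton.1 h'
        have := congrArg (B w.1) hc
        rw [QuadraticMap.polar_smul_right, hww, smul_zero, QuadraticMap.polar_add_right, hwx, hwz, add_zero] at this
        exact zero_ne_one this
      · show Q x.1 = Q (x.1 + z)
        rw [QuadraticMap.map_add (f := Q), hQz, hxz, add_zero, add_zero]
      · show B w.1 x.1 = B w.1 (x.1 + z)
        rw [QuadraticMap.polar_add_right, hwz, add_zero]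
      · obtain ⟨he1, he2, he3⟩ := hmemX e he
        obtain ⟨hf1, hf2, hf3⟩ := hmemX f hf
        exact ⟨e + r • f, add_mem he1 (Submodule.smul_mem _ _ hf1),
          by rw [QuadraticMap.polar_add_right, QuadraticMap.polar_smul_right, he2, hf2, smul_zero, add_zero],
          by rw [QuadraticMap.polar_add_right, QuadraticMap.polar_smul_right, he3, hf3, smul_zero, add_zero],
          P.value r⟩
    choose g hg using hmove
    let φ : {z : X4 // Q z.1 = 0} → {O' : C.pact.Orb // O' ∈ C.pact.mem w} := fun z =>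
      ⟨(C.compat1 (g z).1 (g z).2.1 (g z).2.2.1).map O, C.pact.mem_mem.2 (by
        have := (C.compat1 (g z).1 (g z).2.1 (g z).2.2.1).mem_AO.2 hw
        rwa [C.σ_fix (g z).2] at this)⟩
    have hφ : Function.Injective φ := by
      intro z z' e'
      have e1 : (C.compat1 (g z).1 (g z).2.1 (g z).2.2.1).map O = (C.compat1 (g z').1 (g z').2.1 (g z').2.2.1).map O :=
        congrArg Subtype.val e'
      have hin := (C.compat1 (g z').1 (g z').2.1 (g z').2.2.1).mem_AO.2 hxO
      rw [← e1] at hin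
      obtain ⟨u, hu⟩ := (Finite.injective_iff_surjective.1 (C.σ_inj (C.compat1 (g z).1 (g z).2.1 (g z).2.2.1)))
        ((C.compat1 (g z').1 (g z').2.1 (g z').2.2.1).σ x)
      rw [← hu] at hin
      have huO := (C.compat1 (g z).1 (g z).2.1 (g z).2.2.1).mem_AO.1 hin
      have e2 : ac Q (g z).1 u.1 = x.1 + z'.1.1 := by
        rw [← C.compat1_σ (g z).1 (g z).2.1 (g z).2.2.1 u, hu, C.compat1_σ, hg]
      obtain ⟨-, hwz, hxz⟩ := hmemX _ z.1.2
      obtain ⟨-, hwz', hxz'⟩ := hmemX _ z'.1.2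
      have hgw : ac Q (g z).1 w.1 = w.1 := (g z).2.2.2
      rcases hU u huO with h' | h' | h' | h' <;> rw [h'] at e2
      · rw [Submodule.coe_zero, ac_zero] at e2
        have := congrArg (B w.1) e2
        rw [QuadraticMap.polar_zero_right, QuadraticMap.polar_add_right, hwx, hwz', add_zero] at this
        exact absurd this zero_ne_one
      · rw [hgw] at e2
        have := congrArg (B w.1) e2
        rw [hww, QuadraticMap.polar_add_right, hwx, hwz', add_zero] at this
        exact absurd this zero_ne_one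
      · rw [hg] at e2
        exact Subtype.ext (Subtype.ext (add_left_cancel e2))
      · rw [Submodule.coe_add, ac_add, hg, hgw, add_assoc] at e2
        have := congrArg (B x.1) (add_left_cancel e2)
        rw [QuadraticMap.polar_add_right, hxz, hxz', hxw, zero_add] at this
        exact absurd this one_ne_zero
    have h5 := Nat.card_le_card_of_injective φ hφ
    rw [Nat.card_eq_fintype_card (α := {O' // O' ∈ C.pact.mem w}), Fintype.card_coe] at h5
    rw [nval] at hn5
    have : C.m w = (C.pact.mem w).card := rfl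
    omega

set_option maxHeartbeats 1000000 in
/-- A root element fixing a point of a regular orbit. -/
theorem two_fixed {O0 : C.pact.Orb} (h0 : C.pact.AO O0 = ⊤) (hu : ∀ O, C.pact.AO O = ⊤ → O = O0) :
    ∃ e p : ι → F, e ∈ Wsub Q C.a C.b ∧ p ∈ Wsub Q C.a C.b ∧ e ≠ 0 ∧ Q e = 0 ∧ B e p = 0 ∧ p ∉ span F {e} ∧
      ∃ y : C.X, C.pact.orb y = O0 ∧ sg Q e p • y = y := by
  classical
  have h2F := two_eq_zero' hq
  obtain ⟨e, f, P, he, hf⟩ := C.exists_pair_W
  obtain ⟨ea, eb⟩ := mem_Wsub.1 he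
  obtain ⟨fa, fb⟩ := mem_Wsub.1 hf
  have hea : B e C.a = 0 := by rw [QuadraticMap.polar_comm]; exact ea
  have heb : B e C.b = 0 := by rw [QuadraticMap.polar_comm]; exact eb
  have hfa : B f C.a = 0 := by rw [QuadraticMap.polar_comm]; exact fa
  have hfb : B f C.b = 0 := by rw [QuadraticMap.polar_comm]; exact fb
  set T4 := span F (Set.range ![C.a, C.b, e, f]) with hT4
  have hrad : T4 ⊓ HypQuad.perp Q T4 ≤ ⊥ := by
    rintro z ⟨hz1, hz2⟩
    rw [SetLike.mem_coe, hT4, mem_perp_range] at hz2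
    rw [SetLike.mem_coe, hT4, Submodule.mem_span_range_iff_exists_fun] at hz1
    obtain ⟨c, hc⟩ := hz1
    simp only [Fin.sum_univ_four, Matrix.cons_val_zero, Matrix.cons_val_one, Matrix.cons_val] at hc
    have f1 : B C.a z = 0 := hz2 0
    have f2 : B C.b z = 0 := hz2 1
    have f3 : B e z = 0 := hz2 2
    have f4 : B f z = 0 := hz2 3
    simp only [← hc, QuadraticMap.polar_add_right, QuadraticMap.polar_smul_right, C.P.aa, C.P.hab, C.P.bb,
      C.P.ba, ea, eb, fa, fb, hea, heb, hfa, hfb, P.aa, P.hab, P.bb, P.ba, smul_eq_mul, mul_zero, mul_one,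
      add_zero, zero_add] at f1 f2 f3 f4
    rw [Submodule.mem_bot, ← hc, f1, f2, f3, f4]
    simp
  obtain ⟨g1, h1, P1, hg1, hh1⟩ := exists_pair_orth C.S hrad (by
    rw [finrank_bot]
    have := finrank_range_le ![C.a, C.b, e, f]
    rw [← hT4] at this
    omega)
  set T6 := T4 ⊔ span F (Set.range ![g1, h1]) with hT6
  have hnd6 : ∀ x ∈ T6, (∀ y ∈ T6, B y x = 0) → x = 0 := by
    intro x hx hxy
    obtain ⟨s, hs, t, ht, rfl⟩ := Submodule.mem_sup.1 hx
    have hst : ∀ y ∈ T4, B y t = 0 := by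
      intro y hy
      rw [Submodule.mem_span_range_iff_exists_fun] at ht
      obtain ⟨c, rfl⟩ := ht
      simp [Fin.sum_univ_two, (HypQuad.mem_perp Q).1 hg1 y hy, (HypQuad.mem_perp Q).1 hh1 y hy,
        QuadraticMap.polar_add_right, QuadraticMap.polar_smul_right]
    have hs0 : s = 0 := (Submodule.mem_bot F).1 (hrad ⟨hs, (HypQuad.mem_perp Q).2 fun y hy => by
      have := hxy y (Submodule.mem_sup_left hy)
      rwa [QuadraticMap.polar_add_right, hst y hy, add_zero] at this⟩)
    subst hs0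
    rw [Submodule.mem_span_range_iff_exists_fun] at ht
    obtain ⟨c, rfl⟩ := ht
    simp only [zero_add, Fin.sum_univ_two, Matrix.cons_val_zero, Matrix.cons_val_one] at hxy ⊢
    have k1 := hxy g1 (Submodule.mem_sup_right (subset_span ⟨0, rfl⟩))
    have k2 := hxy h1 (Submodule.mem_sup_right (subset_span ⟨1, rfl⟩))
    simp only [QuadraticMap.polar_add_right, QuadraticMap.polar_smul_right, P1.aa, P1.hab, P1.bb, P1.ba,
      smul_eq_mul, mul_zero, mul_one, add_zero, zero_add] at k1 k2
    rw [k1, k2, zero_smul, zero_smul, add_zero]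
  have hfin6 : 2 ≤ Module.finrank F (HypQuad.perp Q T6) := by
    have h4 := finrank_range_le ![C.a, C.b, e, f]
    have h5 := finrank_range_le ![g1, h1]
    have h6 := Submodule.finrank_add_le_finrank_add_finrank T4 (span F (Set.range ![g1, h1]))
    rw [← hT4] at h4
    rw [← hT6] at h6
    rw [HypQuad.finrank_perp Q C.S.hQ, Module.finrank_fintype_fun_eq_card]
    omega
  obtain ⟨y0, hy0, hQy0⟩ := FormNormal.exists_value Q _ (nd_perp C.S.hQ hnd6) hfin6 1 one_ne_zero
  have hperp4 : ∀ x ∈ HypQuad.perp Q T4, x ∈ Wsub Q C.a C.b ∧ B e x = 0 ∧ B f x = 0 := fun x hx => by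
    rw [hT4, mem_perp_range] at hx
    exact ⟨mem_Wsub.2 ⟨hx 0, hx 1⟩, hx 2, hx 3⟩
  have hy04 : y0 ∈ HypQuad.perp Q T4 :=
    (HypQuad.mem_perp Q).2 fun z hz => (HypQuad.mem_perp Q).1 hy0 z (Submodule.mem_sup_left hz)
  have hgy : B g1 y0 = 0 := (HypQuad.mem_perp Q).1 hy0 _ (Submodule.mem_sup_right (subset_span ⟨0, rfl⟩))
  have hhy : B h1 y0 = 0 := (HypQuad.mem_perp Q).1 hy0 _ (Submodule.mem_sup_right (subset_span ⟨1, rfl⟩))
  set p1 := g1 + (1 : F) • h1 with hp1def
  set p2 := g1 + y0 with hp2def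
  set p3 := p1 + p2 with hp3def
  obtain ⟨p1W, ep1, fp1⟩ := hperp4 p1 (add_mem hg1 (Submodule.smul_mem _ _ hh1))
  obtain ⟨p2W, ep2, fp2⟩ := hperp4 p2 (add_mem hg1 hy04)
  have hQ1 : Q p1 = 1 := P1.value 1
  have hQ2 : Q p2 = 1 := by rw [hp2def, QuadraticMap.map_add (f := Q), P1.ha, hQy0, hgy]; ring
  have h12 : B p1 p2 = 1 := by
    rw [hp1def, hp2def, one_smul, QuadraticMap.polar_add_left, QuadraticMap.polar_add_right,
      QuadraticMap.polar_add_right, P1.aa, P1.ba, hgy, hhy]
    ring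
  have h21 : B p2 p1 = 1 := by rw [QuadraticMap.polar_comm]; exact h12
  have h11 : B p1 p1 = 0 := by rw [polar_self_two, h2F, zero_mul]
  have h22 : B p2 p2 = 0 := by rw [polar_self_two, h2F, zero_mul]
  have hQ3 : Q p3 = 1 := by
    rw [hp3def, QuadraticMap.map_add (f := Q), hQ1, hQ2, h12]
    linear_combination h2F
  obtain ⟨s, hs⟩ := exists_rr C.S.hQ (u := p3) (v := p1) (by rw [hQ3]; exact one_ne_zero) (by rw [hQ1, hQ3])
  have hsx : ∀ x, ac Q s x = x + (B p1 x + B p2 x) • p1 + B p2 x • p2 := by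
    intro x
    rw [hs, hQ3]
    simp only [hp3def, QuadraticMap.polar_sub_right, QuadraticMap.polar_smul_right, QuadraticMap.polar_add_left,
      h11, h21, inv_one, one_mul, smul_eq_mul]
    match_scalars <;> grind
  obtain ⟨p1a, p1b⟩ := mem_Wsub.1 p1W
  obtain ⟨p2a, p2b⟩ := mem_Wsub.1 p2W
  have ha1 : B p1 C.a = 0 := by rw [QuadraticMap.polar_comm]; exact p1a
  have hb1 : B p1 C.b = 0 := by rw [QuadraticMap.polar_comm]; exact p1b
  have ha2 : B p2 C.a = 0 := by rw [QuadraticMap.polar_comm]; exact p2a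
  have hb2 : B p2 C.b = 0 := by rw [QuadraticMap.polar_comm]; exact p2b
  have hep1' : B p1 e = 0 := by rw [QuadraticMap.polar_comm]; exact ep1
  have hep2' : B p2 e = 0 := by rw [QuadraticMap.polar_comm]; exact ep2
  have hsa : ac Q s C.a = C.a := by rw [hsx, ha1, ha2]; simp
  have hsb : ac Q s C.b = C.b := by rw [hsx, hb1, hb2]; simp
  have hse : ac Q s e = e := by rw [hsx, hep1', hep2']; simp
  have hs3 : ∀ x, ac Q s (ac Q s (ac Q s x)) = x := by
    intro x
    simp only [hsx, QuadraticMap.polar_add_right, QuadraticMap.polar_smul_right, h11, h12, h21, h22, smul_eq_mul]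
    match_scalars <;> grind
  set Γs := C.compat1 s hsa hsb
  have hσs : ∀ w : C.W, (Γs.σ w).1 = ac Q s w.1 := C.compat1_σ s hsa hsb
  have htop : ∀ Γ : C.pact.Compat, Γ.map O0 = O0 := fun Γ => hu _ (eq_top_iff.2 fun x _ => by
    obtain ⟨u, rfl⟩ := (Finite.injective_iff_surjective.1 (C.σ_inj Γ)) x
    exact Γ.mem_AO.2 (h0 ▸ AddSubgroup.mem_top _))
  obtain ⟨y, hy, hy'⟩ := C.exists_fixed' Γs (htop Γs) 3
    (by
      rw [show ((3 : ℕ) : F) = 1 by push_cast; linear_combination h2F]
      exact one_ne_zero)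
    fun x => by
      show (fun z : C.X => s • z)^[3] x = x
      rw [smul_iterate, show s ^ 3 = 1 from gext Q fun z => by rw [pow_three, ac_mul, ac_mul, hs3, ac_one]]
      exact one_smul _ x
  have hKy : ∀ v ∈ C.pact.K y, v = 0 := fun v hv => C.pact.χ_nd v fun w => by
    have hw : w ∈ C.pact.A y := by rw [← C.pact.AO_orb, hy, h0]; exact AddSubgroup.mem_top _
    rw [C.pact.χ_comm]
    exact hw v hv
  have hinj : ∀ {v v' : C.W}, C.pact.f v y = C.pact.f v' y → v = v' := fun {v v'} e' => by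
    have : -v' + v ∈ C.pact.K y := by rw [C.pact.mem_K, C.pact.f_add, e', C.pact.f_neg]
    exact (neg_add_eq_zero.1 (hKy _ this)).symm
  have hfix : ∀ p ∈ Wsub Q C.a C.b, B e p = 0 → ac Q (sg Q e p) C.a = C.a ∧ ac Q (sg Q e p) C.b = C.b := by
    intro p hp hep
    obtain ⟨pa, pb⟩ := mem_Wsub.1 hp
    rw [QuadraticMap.polar_comm] at pa pb
    constructor <;> rw [sg_apply C.S P.ha hep, siegelMap]
    · rw [hea, pa]; simp
    · rw [heb, pb]; simp
  set Γ1 := C.compat1 (sg Q e p1) (hfix p1 p1W ep1).1 (hfix p1 p1W ep1).2 with hΓ1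
  have hπ1 : ∀ v : C.W, (Γ1.π v).1 = v.1 + B e v.1 • p1 + (B p1 v.1 + B e v.1) • e := by
    intro v
    refine (one_smul F _).trans ?_
    show ac Q (sg Q e p1) v.1 = _
    rw [sg_apply C.S P.ha ep1, siegelMap, hQ1]
    match_scalars <;> grind
  obtain ⟨t, ht⟩ : ∃ t, C.pact.f t y = sg Q e p1 • y := C.pact.orb_eq.1 (by
    rw [show C.pact.orb (sg Q e p1 • y) = Γ1.map (C.pact.orb y) from rfl, hy, htop])
  set α := B p1 t.1 with hαdef
  set β := B p2 t.1 with hβdef
  -- the root element is an involution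
  have hinv : sg Q e p1 * sg Q e p1 = 1 := by
    rw [← sg_add C.S P.ha ep1 ep1, ← two_smul F, h2F, zero_smul, sg_zero C.S P.ha]
  have hN : (Γ1.π t + t : C.W) = 0 := hinj (v' := 0) (by
    rw [C.pact.f_zero, C.pact.f_add, ht]
    have := Γ1.comm t y
    rw [show Γ1.g y = C.pact.f t y from ht.symm, show Γ1.g (C.pact.f t y) = sg Q e p1 • sg Q e p1 • y by
      rw [ht]; rfl, ← mul_smul, hinv, one_smul, ht] at this
    exact this.symm)
  have hN' : B e t.1 • p1 + (α + B e t.1) • e = 0 := by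
    have h' : (Γ1.π t).1 + t.1 = 0 := congrArg Subtype.val hN
    rw [hπ1] at h'
    rw [← h', hαdef]
    match_scalars <;> grind
  have het : B e t.1 = 0 := by
    have := congrArg (B p2) hN'
    rwa [QuadraticMap.polar_add_right, QuadraticMap.polar_smul_right, QuadraticMap.polar_smul_right, h21, hep2',
      smul_zero, add_zero, smul_eq_mul, mul_one, QuadraticMap.polar_zero_right] at this
  have hα : α = 0 := by
    rw [het, zero_smul, zero_add, add_zero, smul_eq_zero] at hN'
    exact hN'.resolve_right P.ne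
  -- conjugating by the element of order three
  have hc : ∀ p, B e p = 0 → sg Q e (ac Q s p) = s * sg Q e p * s⁻¹ := fun p hep => by
    rw [sg_conj C.S s P.ha hep, hse]
  have hsy : s⁻¹ • y = y := inv_smul_eq_iff.2 hy'.symm
  have hπs : ∀ v : C.W, (Γs.π v).1 = ac Q s v.1 := fun v => one_smul F _
  have hsp1 : ac Q s p1 = p2 := by rw [hsx, h11, h21]; match_scalars <;> grind
  have hsp2 : ac Q s p2 = p3 := by rw [hsx, h12, h22, hp3def]; simp [add_comm]
  have h2y : sg Q e p2 • y = C.pact.f (Γs.π t) y := by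
    rw [← hsp1, hc p1 ep1, mul_smul, mul_smul, hsy, ← ht]
    exact (Γs.comm t y).trans (congrArg _ hy')
  have h3y : sg Q e p3 • y = C.pact.f (Γs.π (Γs.π t)) y := by
    rw [← hsp2, hc p2 ep2, mul_smul, mul_smul, hsy, h2y]
    exact (Γs.comm _ y).trans (congrArg _ hy')
  have h123 : C.pact.f (Γs.π (Γs.π t)) y = C.pact.f (Γ1.π (Γs.π t) + t) y := by
    rw [← h3y, hp3def, sg_add C.S P.ha ep1 ep2, mul_smul, h2y, C.pact.f_add, ht]
    exact Γ1.comm _ y
  have key := congrArg Subtype.val (hinj h123)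
  rw [Submodule.coe_add, hπ1, hπs, hπs] at key
  simp only [hsx, QuadraticMap.polar_add_right, QuadraticMap.polar_smul_right, h11, h12, h21, h22, ep1, ep2,
    het, ← hαdef, ← hβdef, hα, smul_eq_mul] at key
  have htt : t.1 = β • p1 + β • e := by
    linear_combination (norm := skip) key
    have h4F : (4 : F) = 0 := by linear_combination 2 * h2F
    have h6F : (6 : F) = 0 := by linear_combination 3 * h2F
    have h12F : (12 : F) = 0 := by linear_combination 6 * h2F
    match_scalars <;> ring_nf <;>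
      simp only [h2F, h4F, h6F, h12F, mul_zero, neg_zero, add_zero, sub_zero]
  refine ⟨e, p1, he, p1W, P.ne, P.ha, ep1, fun hmem => ?_, C.pact.f (β • ⟨f, hf⟩) y, (C.pact.orb_f _ _).trans hy, ?_⟩
  · obtain ⟨c, hc'⟩ := mem_span_singleton.1 hmem
    rw [← hc', QuadraticMap.polar_smul_left, ep2, smul_zero] at h12
    exact zero_ne_one h12
  refine (Γ1.comm _ y).trans ?_
  rw [show Γ1.g y = C.pact.f t y from ht.symm, ← C.pact.f_add]
  refine congrArg (C.pact.f · y) (Subtype.ext ?_)
  rw [Submodule.coe_add, hπ1, htt]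
  simp only [Submodule.coe_smul, QuadraticMap.polar_smul_right, P.hab,
    show B p1 f = 0 by rw [QuadraticMap.polar_comm]; exact fp1, smul_eq_mul]
  match_scalars <;> grind

/-- No subgroup of small index over two elements. -/
theorem two_false [Fintype C.pact.Orb] (hH : C.H ≠ ⊤) : False := by
  classical
  have := Fintype.ofFinite C.W
  have hX := C.two_X_le hq hl hn hdata
  have hWX := C.two_card_W hq hl hn hdata
  obtain ⟨O0, h0⟩ := C.exists_top hH (C.two_shape hq hl hn hdata)
  have hd : C.H.index = 2 ^ l * 2 ^ l + ∑ O ∈ Finset.univ.erase O0, Nat.card (C.pact.AO O) := by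
    rw [C.index_top h0, ← C.card_W, hWX]
  have huniq : ∀ O, C.pact.AO O = ⊤ → O = O0 := by
    intro O hO
    by_contra hne
    have h2 := Finset.single_le_sum (f := fun O => Nat.card (C.pact.AO O)) (fun _ _ => Nat.zero_le _)
      (Finset.mem_erase.2 ⟨hne, Finset.mem_univ O⟩)
    simp only [hO, AddSubgroup.card_top, hWX] at h2
    rcases hdata with ⟨-, e⟩ | ⟨-, e⟩ <;> omega
  have hline : ∀ O, O ≠ O0 → Nat.card (C.pact.AO O) ≤ Fintype.card F := fun O hO => by
    obtain ⟨v, hv⟩ := (C.two_shape hq hl hn hdata O).resolve_left fun h => hO (huniq O h)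
    exact C.card_line hv
  by_cases hbot : ∀ O, O ≠ O0 → C.pact.AO O = ⊥
  · obtain ⟨e, p, he, hp, he0, hQe, hep, hpe, y, hy, hfix⟩ := C.two_fixed hq hl hn hdata h0 huniq
    have hlow := C.fixed_low h0 hbot he hp he0 hQe hep hpe hy hfix
    refine C.fixed_false hH h0 hbot ?_ ?_
    · rw [C.card_Sing_eq, ← C.card_W, hWX, hq]
      rcases hdata with ⟨e1, e2⟩ | ⟨e1, e2⟩ <;> omega
    · rw [hq] at hlow ⊢
      rw [hn, show 2 * l + 2 - 4 = (2 * l + 2) / 2 + (l - 3) by omega, pow_add] at hlow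
      rw [hn]
      have := Nat.le_mul_of_pos_right (2 ^ ((2 * l + 2) / 2)) (pow_pos two_pos (l - 3))
      omega
  · push Not at hbot
    obtain ⟨O, hO, hne⟩ := hbot
    obtain ⟨v, hv, hv0⟩ : ∃ v ∈ C.pact.AO O, v ≠ 0 := by
      by_contra hc
      push Not at hc
      exact hne (eq_bot_iff.2 fun v hv => AddSubgroup.mem_bot.2 (hc v hv))
    let D : Finset C.W := Finset.univ.filter fun w => w ≠ 0 ∧ Q w.1 = Q v.1
    have h1 := C.line_count h0 hline D (by simp [D]) hO hv hv0 fun w hw => (Finset.mem_filter.1 hw).2.2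
    obtain ⟨hD0, hD1, -⟩ := C.two_class_low hq hl hn hdata (Q v.1) D (by simp [D])
    rw [hq, show 2 - 1 = 1 from rfl, one_mul] at h1
    rcases eq_or_ne (Q v.1) 0 with hv1 | hv1
    · rw [hD0 hv1] at h1
      rcases hdata with ⟨e1, e2⟩ | ⟨e1, e2⟩
      · omega
      -- incidences with regular orbits
      obtain ⟨x0, hinc⟩ := C.incidence C.Rg fun g u x hu hh => C.Rg_map g hu hh
      have hrg : Nat.card {x // C.Rg C.a x} = 2 ^ l * 2 ^ l := by
        rw [Nat.card_congr (Equiv.subtypeEquivRight (q := fun x => C.pact.orb x = O0) fun x =>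
          C.Rg_a_iff.trans ⟨fun h => huniq _ h, fun h => by rw [← C.pact.AO_orb, h, h0]⟩),
          C.card_orbit, h0, AddSubgroup.card_top, hWX]
      rw [hrg, C.card_Sing_eq, ← C.card_W, hWX, hq] at hinc
      have he : 2 * C.Ns + (2 - 1) + (2 - 1) * (2 ^ l * 2 ^ l) = C.H.index + 1 := by omega
      rw [he] at hinc
      have hdvd := (Nat.coprime_self_add_right.2 (Nat.coprime_one_right C.H.index)).dvd_of_dvd_mul_left
        (Dvd.intro _ hinc)
      have := Nat.le_of_dvd (by positivity) hdvd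
      have hmul := Nat.mul_le_mul hX hX
      have hmul' := Nat.mul_le_mul_left (2 ^ l) hX
      generalize 2 ^ l * 2 ^ l = W2 at *
      generalize 2 ^ l = X at *
      omega
    · have := hD1 hv1
      rcases hdata with ⟨e1, e2⟩ | ⟨e1, e2⟩ <;> omega

end Ctx0

end Cfsg.Lib.Known.MinIndexO
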