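import Cfsg.Agent.Known.MinIndexO.Two
import Cfsg.Agent.Known.MinIndexO.Attain

/-!
The least index of a proper subgroup of orthogonal groups over two elements.
-/

set_option autoImplicit false
set_option linter.unusedSectionVars false
set_option linter.style.haveILetI false

open Matrix Submodule

namespace Cfsg.Lib.Known.MinIndexO

open Cfsg.Lib.Classical Cfsg.Lib.Classical.Refl

universe u

section General

variable {F : Type u} [Field F] [Fintype F] {ι : Type} [Fintype ι] [DecidableEq ι] {Q : QuadraticForm F (ι → F)}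

set_option synthInstance.maxHeartbeats 400000

/-- The bound over two elements, from the count of singular vectors. -/
theorem two_bound (S : Setting Q) (hq : Fintype.card F = 2) {l : ℕ} (hl : 3 ≤ l) (hn : Fintype.card ι = 2 * l + 2)
    {H : Subgroup (GG Q)} (hH : H ≠ ⊤)
    (hdata : (nval Q ⊤ 0 = 2 * (2 ^ l * 2 ^ l) + 2 ^ l ∧ H.index + 2 ^ l < 2 * (2 ^ l * 2 ^ l)) ∨
      (nval Q ⊤ 0 + 2 ^ l = 2 * (2 ^ l * 2 ^ l) ∧ H.index + 2 ^ l + 1 < 2 * (2 ^ l * 2 ^ l))) : False := by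
  classical
  obtain ⟨a, b, P, -, -⟩ := exists_pair_orth S (W := ⊥) (R := ⊥) inf_le_left
    (by rw [finrank_bot]; have := S.hn; omega)
  let C : Ctx0 Q :=
    { S := S, H := H, a := a, b := b, P := P
      ψ := AddChar.FiniteField.primitiveChar_to_Complex F
      hψ := AddChar.FiniteField.primitiveChar_to_Complex_isPrimitive F }
  have : Finite C.pact.Orb := Quotient.finite _
  have := Fintype.ofFinite C.pact.Orb
  refine C.two_false hq hl hn ?_ hH
  have h1 := C.card_Sing_eq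
  have h2 := card_Sing (Q := Q)
  rw [h1, hq, hn, show 2 * l + 2 - 2 = l + l by omega, pow_add] at h2
  show (_ ∧ H.index + 2 ^ l < _) ∨ (_ ∧ H.index + 2 ^ l + 1 < _)
  generalize 2 ^ l * 2 ^ l = W2 at h2 hdata ⊢
  generalize 2 ^ l = X at hdata ⊢
  omega

end General

variable {F : Type u} [Field F] [Fintype F]

theorem minus_two' (hF : Fintype.card F = 2) (l : ℕ) (hl : 3 ≤ l) (a b : F)
    (hab : ∀ z₁ z₂ : F, z₁ ^ 2 + a * z₁ * z₂ + b * z₂ ^ 2 = 0 → z₁ = 0 ∧ z₂ = 0) :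
    (∀ H : Subgroup (Cfsg.POmega F (Cfsg.quadFormMinus l F a b)), H ≠ ⊤ →
      (2 ^ (l + 1) + 1) * (2 ^ l - 1) / (2 - 1) ≤ H.index) ∧
      ∃ H : Subgroup (Cfsg.POmega F (Cfsg.quadFormMinus l F a b)),
        H.index = (2 ^ (l + 1) + 1) * (2 ^ l - 1) / (2 - 1) := by
  have S : Setting (minusForm l F a b) := ⟨minusForm_nondegenerate' _ hab, by simp; omega⟩
  have hcount : Nat.card {v : (Fin l ⊕ Fin l) ⊕ Fin 2 → F // Cfsg.quadFormMinus l F a b v = 0} =
      Nat.card F ^ (2 * (l + 1) - 1) + Nat.card F ^ l - Nat.card F ^ (l + 1) :=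
    OrthCard.count_minus (l + 1) (by omega) hab
  rw [Nat.card_eq_fintype_card (α := F), hF, show 2 * (l + 1) - 1 = (l + l) + 1 by omega,
    pow_succ' 2 (l + l), pow_succ' 2 l, pow_add] at hcount
  have hX : 8 ≤ 2 ^ l := le_trans (by norm_num) (Nat.pow_le_pow_right two_pos hl)
  have hXX := Nat.mul_le_mul_left (2 ^ l) hX
  obtain ⟨x, hx⟩ : ∃ x, 2 ^ l = x + 1 := ⟨2 ^ l - 1, by omega⟩
  have e : (2 ^ (l + 1) + 1) * (2 ^ l - 1) / (2 - 1) + 2 ^ l + 1 = 2 * (2 ^ l * 2 ^ l) := by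
    rw [show 2 - 1 = 1 from rfl, Nat.div_one, pow_succ', hx, Nat.add_sub_cancel]
    ring
  constructor
  · refine lift_bound _ (fun H hH => ?_) _ (minusForm_coe _ a b).symm
    by_contra hlt
    refine two_bound S hF (l := l) hl (by simp; omega) hH (Or.inr ⟨?_, by omega⟩)
    rw [nval_top _ (minusForm_coe _ a b).symm, hcount]
    omega
  · refine point_index S _ (minusForm_coe _ a b).symm _ ?_
    rw [hF, hcount]
    omega

theorem minus_two (hF : Fintype.card F = 2) (m : ℕ) (hm : 4 ≤ m) (a b : F)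
    (hab : ∀ z₁ z₂ : F, z₁ ^ 2 + a * z₁ * z₂ + b * z₂ ^ 2 = 0 → z₁ = 0 ∧ z₂ = 0) :
    (∀ H : Subgroup (Cfsg.POmega F (Cfsg.quadFormMinus (m - 1) F a b)), H ≠ ⊤ →
      (2 ^ m + 1) * (2 ^ (m - 1) - 1) / (2 - 1) ≤ H.index) ∧
      ∃ H : Subgroup (Cfsg.POmega F (Cfsg.quadFormMinus (m - 1) F a b)),
        H.index = (2 ^ m + 1) * (2 ^ (m - 1) - 1) / (2 - 1) := by
  obtain ⟨l, rfl⟩ : ∃ l, m = l + 1 := ⟨m - 1, by omega⟩
  exact minus_two' hF l (by omega) a b hab

theorem plus_two (hF : Fintype.card F = 2) (m : ℕ) (hm : 4 ≤ m) :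
    (∀ H : Subgroup (Cfsg.POmega F (Cfsg.quadFormPlus m F)), H ≠ ⊤ → 2 ^ (m - 1) * (2 ^ m - 1) ≤ H.index) ∧
      ∃ H : Subgroup (Cfsg.POmega F (Cfsg.quadFormPlus m F)), H.index = 2 ^ (m - 1) * (2 ^ m - 1) := by
  classical
  obtain ⟨l, rfl⟩ : ∃ l, m = l + 1 := ⟨m - 1, by omega⟩
  have hf : Cfsg.quadFormPlus (l + 1) F = ⇑(HypQuad.plusForm (l + 1) F) :=
    funext fun v => (HypQuad.plusForm_apply _ v).symm
  have S : Setting (HypQuad.plusForm (l + 1) F) := ⟨HypQuad.plusForm_nondegenerate _, by simp; omega⟩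
  have hcount := OrthCard.count_plus (F := F) (l + 1) (by omega)
  rw [Nat.card_eq_fintype_card (α := F), hF, show 2 * (l + 1) - 1 = (l + l) + 1 by omega, Nat.add_sub_cancel,
    pow_succ' 2 (l + l), pow_succ' 2 l, pow_add] at hcount
  have hX : 8 ≤ 2 ^ l := le_trans (by norm_num) (Nat.pow_le_pow_right two_pos (show 3 ≤ l by omega))
  have e : 2 ^ (l + 1 - 1) * (2 ^ (l + 1) - 1) + 2 ^ l = 2 * (2 ^ l * 2 ^ l) := by
    rw [Nat.add_sub_cancel, pow_succ']
    obtain ⟨x, hx⟩ : ∃ x, 2 ^ l = x + 1 := ⟨2 ^ l - 1, by omega⟩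
    rw [hx, show 2 * (x + 1) - 1 = 2 * x + 1 by omega]
    ring
  constructor
  · refine lift_bound _ (fun H hH => ?_) _ hf
    by_contra hlt
    refine two_bound S hF (l := l) (by omega) (by simp; omega) hH (Or.inl ⟨?_, by omega⟩)
    rw [nval_top _ hf, hcount]
    omega
  · refine npoint_index S (by omega) _ hf 1 one_ne_zero _ ?_
    have hsum : Nat.card {v : Fin (l + 1) ⊕ Fin (l + 1) → F // Cfsg.quadFormPlus (l + 1) F v = 1} +
        Nat.card {v : Fin (l + 1) ⊕ Fin (l + 1) → F // Cfsg.quadFormPlus (l + 1) F v = 0} =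
          Nat.card (Fin (l + 1) ⊕ Fin (l + 1) → F) := by
      rw [← Nat.card_sum]
      refine Nat.card_congr ((Equiv.sumCongr (Equiv.refl _) (Equiv.subtypeEquivRight fun v => ?_)).trans
        (Equiv.sumCompl _))
      exact ⟨fun h => by rw [h]; exact zero_ne_one,
        fun h => by_contra fun h0 => h (eq_one_of_two hF h0)⟩
    have hall : Nat.card (Fin (l + 1) ⊕ Fin (l + 1) → F) = 4 * (2 ^ l * 2 ^ l) := by
      rw [Nat.card_fun, Nat.card_eq_fintype_card (α := F), Nat.card_eq_fintype_card, Fintype.card_sum,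
        Fintype.card_fin, hF, pow_add, pow_succ]
      ring
    rw [hall, hcount] at hsum
    rw [hF, show 2 - 1 = 1 from rfl, mul_one]
    omega

end Cfsg.Lib.Known.MinIndexO
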